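import Mathlib
import Groth.Prelude.Def_DCoh2
import Groth.Prelude.Def_FlatMod2
import Groth.Prelude.Def_StMod

/-!
# Pullbacks of finite locally free modules and strictly perfect complexes (helper5)
-/
set_option autoImplicit false
set_option linter.unusedSectionVars false
set_option linter.unusedVariables false
set_option linter.style.haveILetI false
universe u
open CategoryTheory CategoryTheory.Limits AlgebraicGeometry

namespace Groth.Agent.Lib.Helper5.PerfPull

variable {X Y : Scheme.{u}} (f : X ⟶ Y)

set_option backward.isDefEq.respectTransparency false in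
/-- the pullback of the structure sheaf is the structure sheaf -/
noncomputable def unitIso :
    (Scheme.Modules.pullback f).obj (Coh.structureModule Y) ≅ Coh.structureModule X :=
  haveI := StMod.opensMap_final f
  haveI : IsIso (SheafOfModules.pullbackObjUnitToUnit f.toRingCatSheafHom) := inferInstance
  asIso (SheafOfModules.pullbackObjUnitToUnit f.toRingCatSheafHom)

/-- the pullback of a free module is free -/
noncomputable def pullbackFreeIso (n : ℕ) :
    (Scheme.Modules.pullback f).obj (FlatMod.freeMod Y n) ≅ FlatMod.freeMod X n :=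
  PreservesCoproduct.iso (Scheme.Modules.pullback f) (fun _ : Fin n => Coh.structureModule Y) ≪≫
    Sigma.mapIso (fun _ => unitIso f)

/-- pullback commutes with restriction to opens (functorially) -/
noncomputable def restrictPullbackIso {U : X.Opens} {V : Y.Opens}
    (q : (↑U : Scheme.{u}) ⟶ ↑V) (hq : q ≫ V.ι = U.ι ≫ f) :
    Scheme.Modules.pullback f ⋙ Scheme.Modules.restrictFunctor U.ι ≅
      Scheme.Modules.restrictFunctor V.ι ⋙ Scheme.Modules.pullback q :=
  Functor.isoWhiskerLeft _ (Scheme.Modules.restrictFunctorIsoPullback U.ι) ≪≫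
    Scheme.Modules.pullbackComp U.ι f ≪≫ Scheme.Modules.pullbackCongr hq.symm ≪≫
    (Scheme.Modules.pullbackComp q V.ι).symm ≪≫
    Functor.isoWhiskerRight (Scheme.Modules.restrictFunctorIsoPullback V.ι).symm _

/-- the pullback of a finite locally free module is finite locally free -/
theorem isFinLocFree_pullback (M : Y.Modules) (hM : FlatMod.IsFinLocFree M) :
    FlatMod.IsFinLocFree ((Scheme.Modules.pullback f).obj M) := by
  intro x
  obtain ⟨V, n, hy, ⟨e⟩⟩ := hM (f x)
  refine ⟨f ⁻¹ᵁ V, n, hy, ⟨?_⟩⟩
  exact (restrictPullbackIso f (f ∣_ V) (morphismRestrict_ι f V)).app M ≪≫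
    (Scheme.Modules.pullback (f ∣_ V)).mapIso e ≪≫ pullbackFreeIso (f ∣_ V) n

/-- the termwise pullback of a strictly perfect complex is strictly perfect -/
theorem isStrictlyPerfect_pullback (F : CochainComplex Y.Modules ℤ)
    (hF : DCoh.IsStrictlyPerfect F) :
    DCoh.IsStrictlyPerfect
      (((Scheme.Modules.pullback f).mapHomologicalComplex (ComplexShape.up ℤ)).obj F) := by
  obtain ⟨⟨a, b, hab⟩, hfl⟩ := hF
  refine ⟨⟨a, b, fun i hi => ?_⟩, fun i => isFinLocFree_pullback f _ (hfl i)⟩
  exact Functor.map_isZero (Scheme.Modules.pullback f) (hab i hi)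

end Groth.Agent.Lib.Helper5.PerfPull
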