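import Mathlib
import Groth.Prelude.Def_DCoh2
import Groth.Prelude.Def_FlatMod2
import Groth.Agent.Lib.Helper5.Perf.Pull
import Groth.Agent.Lib.Helper5.Stalk.FlatPull

/-!
# Shrinking open neighbourhoods: restriction between opens, free modules (helper5)
-/
set_option autoImplicit false
set_option linter.style.haveILetI false
universe u
open CategoryTheory CategoryTheory.Limits AlgebraicGeometry Opposite TopologicalSpace
attribute [local instance] HasDerivedCategory.standard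

namespace Groth.Agent.Lib.Helper5.Shrink

open Groth.Agent.Lib.Helper5.PerfPull

variable {X : Scheme.{u}}

/-- restriction of a free module along an open immersion is free -/
noncomputable def restrictFreeIso {U Z : Scheme.{u}} (g : U ⟶ Z) [IsOpenImmersion g] (n : ℕ) :
    (FlatMod.freeMod Z n).restrict g ≅ FlatMod.freeMod U n :=
  (Scheme.Modules.restrictFunctorIsoPullback g).app _ ≪≫ pullbackFreeIso g n

/-- freeness on `U` passes to smaller opens -/
noncomputable def freeOfFactor {U U' Z : Scheme.{u}} (g : U ⟶ Z) [IsOpenImmersion g]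
    (g' : U' ⟶ Z) [IsOpenImmersion g'] (k : U' ⟶ U) [IsOpenImmersion k] (hk : k ≫ g = g')
    (N : Z.Modules) (n : ℕ) (e : N.restrict g ≅ FlatMod.freeMod U n) :
    N.restrict g' ≅ FlatMod.freeMod U' n :=
  (Scheme.Modules.restrictFunctorCongr hk.symm).app N ≪≫
    (Scheme.Modules.restrictFunctorComp k g).app N ≪≫
    (Scheme.Modules.restrictFunctor k).mapIso e ≪≫ restrictFreeIso k n

/-- a finite locally free module on `↑V` is free on a small `W ≤ V` around a given point -/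
theorem exists_free_nhd {V : X.Opens} (N : (V : Scheme.{u}).Modules)
    (hN : FlatMod.IsFinLocFree N) (x : X) (hx : x ∈ V) :
    ∃ (W : X.Opens) (hW : W ≤ V) (n : ℕ), x ∈ W ∧
      Nonempty (N.restrict (X.homOfLE hW) ≅ FlatMod.freeMod (↑W) n) := by
  obtain ⟨U', n, hxU', ⟨e⟩⟩ := hN ⟨x, hx⟩
  refine ⟨V.ι ''ᵁ U', V.ι_image_le U', n, ⟨⟨x, hx⟩, hxU', rfl⟩, ⟨?_⟩⟩
  exact freeOfFactor U'.ι (X.homOfLE (V.ι_image_le U')) (V.ι.isoImage U').inv
    (Scheme.Opens.isoImage_ι_inv_ι V U') N n e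

/-- freeness passes to smaller opens (in `X.Opens`) -/
noncomputable def freeOfLE {V W W' : X.Opens} (hW : W ≤ V) (hW' : W' ≤ W)
    (N : (V : Scheme.{u}).Modules) (n : ℕ)
    (e : N.restrict (X.homOfLE hW) ≅ FlatMod.freeMod (↑W) n) :
    N.restrict (X.homOfLE (hW'.trans hW)) ≅ FlatMod.freeMod (↑W') n :=
  freeOfFactor (X.homOfLE hW) (X.homOfLE (hW'.trans hW)) (X.homOfLE hW')
    (X.homOfLE_homOfLE hW' hW) N n e

theorem exists_free_nhd_finset {V : X.Opens} {ι : Type*} (s : Finset ι)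
    (N : ι → (V : Scheme.{u}).Modules) (hN : ∀ i, FlatMod.IsFinLocFree (N i)) (x : X)
    (hx : x ∈ V) :
    ∃ (W : X.Opens) (hW : W ≤ V), x ∈ W ∧ ∀ i ∈ s, ∃ n : ℕ,
      Nonempty ((N i).restrict (X.homOfLE hW) ≅ FlatMod.freeMod (↑W) n) := by
  classical
  induction s using Finset.induction_on with
  | empty => exact ⟨V, le_rfl, hx, fun i hi => absurd hi (Finset.notMem_empty i)⟩
  | insert a s ha ih =>
    obtain ⟨W₀, hW₀, hxW₀, h₀⟩ := ih
    obtain ⟨W₁, hW₁, n₁, hxW₁, ⟨e₁⟩⟩ := exists_free_nhd (N a) (hN a) x hx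
    refine ⟨W₀ ⊓ W₁, inf_le_left.trans hW₀, ⟨hxW₀, hxW₁⟩, fun i hi => ?_⟩
    rcases Finset.mem_insert.1 hi with rfl | hi
    · exact ⟨n₁, ⟨freeOfLE hW₁ inf_le_right (N i) n₁ e₁⟩⟩
    · obtain ⟨n, ⟨e⟩⟩ := h₀ i hi
      exact ⟨n, ⟨freeOfLE hW₀ inf_le_left (N i) n e⟩⟩

open Groth.Agent.Lib.Helper5.StalkAdj

/-- restriction between opens, on complexes -/
noncomputable abbrev resLECx {V W : X.Opens} (h : W ≤ V) :
    CochainComplex (V : Scheme.{u}).Modules ℤ ⥤ CochainComplex (W : Scheme.{u}).Modules ℤ :=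
  (Scheme.Modules.restrictFunctor (X.homOfLE h)).mapHomologicalComplex (ComplexShape.up ℤ)

/-- `F|_W ≅ (F|_V)|_W` -/
noncomputable def restrictCxLEIso {V W : X.Opens} (h : W ≤ V) (F : CochainComplex X.Modules ℤ) :
    (DCoh.restrictCx W).obj F ≅ (resLECx h).obj ((DCoh.restrictCx V).obj F) :=
  (NatIso.mapHomologicalComplex
    (Scheme.Modules.restrictFunctorCongr (X.homOfLE_ι h).symm ≪≫
      Scheme.Modules.restrictFunctorComp (X.homOfLE h) V.ι) (ComplexShape.up ℤ)).app F ≪≫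
    HomologicalComplex.Hom.isoOfComponents (fun i => Iso.refl _) (by intros; simp; rfl)

/-- an isomorphism `Q(F|_V) ≅ Q(P)` restricts to `Q(F|_W) ≅ Q(P|_W)` -/
noncomputable def restrictQIso {V W : X.Opens} (h : W ≤ V) (F : CochainComplex X.Modules ℤ)
    (P : CochainComplex (V : Scheme.{u}).Modules ℤ)
    (e : DerivedCategory.Q.obj ((DCoh.restrictCx V).obj F) ≅ DerivedCategory.Q.obj P) :
    DerivedCategory.Q.obj ((DCoh.restrictCx W).obj F) ≅
      DerivedCategory.Q.obj ((resLECx h).obj P) :=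
  DerivedCategory.Q.mapIso (restrictCxLEIso h F) ≪≫
    ((Scheme.Modules.restrictFunctor (X.homOfLE h)).mapDerivedCategoryFactors).symm.app _ ≪≫
    ((Scheme.Modules.restrictFunctor (X.homOfLE h)).mapDerivedCategory).mapIso e ≪≫
    ((Scheme.Modules.restrictFunctor (X.homOfLE h)).mapDerivedCategoryFactors).app P

end Groth.Agent.Lib.Helper5.Shrink
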