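import Mathlib
import Groth.Prelude.Def_Coh
import Groth.Agent.Lib.Helper1.CohAbel
import Groth.Agent.Lib.Helper1.CohRestr
import Groth.Agent.Lib.Lead.FLF6
import Groth.Agent.Lib.Helper5.Euler.AffLocal

/-!
# Quasi-coherence and coherence are local (helper5)
-/
set_option autoImplicit false
set_option linter.style.haveILetI false
universe u
open CategoryTheory CategoryTheory.Limits AlgebraicGeometry Opposite TopologicalSpace
open scoped ZeroObject

namespace Groth.Agent.Lib.Helper5.LocalCoh

open Groth.Agent.Helper1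

variable {X : Scheme.{u}}

/-- an affine chart of `X` inside a given open neighbourhood of a point -/
theorem exists_chart (V : X.Opens) (x : X) (hx : x ∈ V) :
    ∃ (W : (V : Scheme.{u}).Opens) (hW : IsAffineOpen W),
      x ∈ (hW.fromSpec ≫ V.ι).opensRange := by
  obtain ⟨_, ⟨W, hW : IsAffineOpen W, rfl⟩, hxW, -⟩ :=
    (V : Scheme.{u}).isBasis_affineOpens.exists_subset_of_mem_open
      (Set.mem_univ (⟨x, hx⟩ : V)) isOpen_univ
  refine ⟨W, hW, ?_⟩
  rw [Scheme.Hom.opensRange_comp, hW.opensRange_fromSpec]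
  exact ⟨⟨x, hx⟩, hxW, rfl⟩

/-- quasi-coherence is a local property -/
theorem isQuasicoherent_of_locally (M : X.Modules)
    (h : ∀ x : X, ∃ V : X.Opens, x ∈ V ∧ (M.restrict V.ι).IsQuasicoherent) :
    M.IsQuasicoherent := by
  choose V hxV hV using h
  choose W hW hxW using fun x => exists_chart (V x) x (hxV x)
  refine QCohLib.isQuasicoherent_of_affine_charts M (I := X)
    (fun x => Γ((V x : Scheme.{u}), W x)) (fun x => (hW x).fromSpec ≫ (V x).ι) ?_ ?_
  · exact top_le_iff.mp fun x _ => Opens.mem_iSup.mpr ⟨x, hxW x⟩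
  · intro x
    have e : (M.restrict (V x).ι).restrict (hW x).fromSpec ≅
        M.restrict ((hW x).fromSpec ≫ (V x).ι) :=
      (Scheme.Modules.restrictFunctorComp (hW x).fromSpec (V x).ι).symm.app M
    haveI := hV x
    haveI : ((M.restrict (V x).ι).restrict (hW x).fromSpec).IsQuasicoherent :=
      Scheme.Modules.isQuasicoherent_restrictFunctor _ _
    haveI : (M.restrict ((hW x).fromSpec ≫ (V x).ι)).IsQuasicoherent :=
      QcAbel.isQuasicoherent_of_iso e
    infer_instance

/-- finiteness of global sections on an affine scheme is invariant under isomorphisms -/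
theorem finite_of_iso {R : CommRingCat.{u}} {N N' : (Spec R).Modules} (e : N ≅ N')
    (h : Module.Finite R Γ(N, ⊤)) : Module.Finite R Γ(N', ⊤) := by
  have h' : Module.Finite R ((moduleSpecΓFunctor (R := R)).obj N) := h
  exact Module.Finite.equiv ((moduleSpecΓFunctor (R := R)).mapIso e).toLinearEquiv

/-- coherence (quasi-coherent of finite type) is a local property -/
theorem isCoh_of_locally (M : X.Modules)
    (h : ∀ x : X, ∃ V : X.Opens, x ∈ V ∧ Coh.IsCoh (M.restrict V.ι)) : Coh.IsCoh M := by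
  have hq : M.IsQuasicoherent := isQuasicoherent_of_locally M (fun x => by
    obtain ⟨V, hx, hV⟩ := h x
    exact ⟨V, hx, hV.1⟩)
  refine ⟨hq, ?_⟩
  choose V hxV hV using h
  choose W hW hxW using fun x => exists_chart (V x) x (hxV x)
  refine FtLocal.isFiniteType_of_affine_charts M (I := X)
    (fun x => Γ((V x : Scheme.{u}), W x)) (fun x => (hW x).fromSpec ≫ (V x).ι) ?_ ?_
  · exact top_le_iff.mp fun x _ => Opens.mem_iSup.mpr ⟨x, hxW x⟩
  · intro x
    have e : (M.restrict (V x).ι).restrict (hW x).fromSpec ≅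
        M.restrict ((hW x).fromSpec ≫ (V x).ι) :=
      (Scheme.Modules.restrictFunctorComp (hW x).fromSpec (V x).ι).symm.app M
    exact finite_of_iso e
      (AffFin.finite_restrict (M.restrict (V x).ι) (hV x).1 (hV x).2 (hW x).fromSpec)

/-- coherence is invariant under isomorphisms -/
theorem isCoh_of_iso {M N : X.Modules} (e : M ≅ N) (hM : Coh.IsCoh M) : Coh.IsCoh N := by
  haveI : M.IsQuasicoherent := hM.1
  have hN : N.IsQuasicoherent := QcAbel.isQuasicoherent_of_iso e
  refine ⟨hN, ?_⟩
  let S : ShortComplex X.Modules := ShortComplex.mk (0 : (0 : X.Modules) ⟶ M) e.hom zero_comp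
  haveI : Mono S.f := inferInstanceAs (Mono (0 : (0 : X.Modules) ⟶ M))
  haveI : Epi S.g := inferInstanceAs (Epi e.hom)
  have hex : S.Exact := (S.exact_iff_mono rfl).2 (inferInstanceAs (Mono e.hom))
  have hS : S.ShortExact := { exact := hex }
  haveI : S.X₁.IsQuasicoherent := QcAbel.isQuasicoherent_of_isZero (isZero_zero _)
  haveI : S.X₂.IsQuasicoherent := hM.1
  haveI : S.X₃.IsQuasicoherent := hN
  exact FtLocal.isFiniteType_right hS hM.2

/-- a finite locally free module is coherent (quasi-coherent of finite type) -/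
theorem isCoh_of_isFinLocFree (M : X.Modules) (h : FlatMod.IsFinLocFree M) : Coh.IsCoh M := by
  have hq : M.IsQuasicoherent := Groth.Agent.Lead.FLF.isQuasicoherent_of_isFinLocFree M h
  refine ⟨hq, ?_⟩
  have key : ∀ x : X, ∃ (U : X.Opens) (hU : IsAffineOpen U), x ∈ U ∧ ∃ n : ℕ,
      Nonempty (M.restrict hU.fromSpec ≅ FlatMod.freeMod (Spec Γ(X, U)) n) := by
    intro x
    obtain ⟨U, hU, hxU, hfree⟩ := Groth.Agent.Lib.Helper5.AffLocal.exists_affine_free
      (Finset.univ : Finset Unit) (fun _ => M) (fun _ => h) x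
    exact ⟨U, hU, hxU, hfree () (Finset.mem_univ _)⟩
  choose U hU hxU n e using key
  refine FtLocal.isFiniteType_of_affine_charts M (I := X) (fun x => Γ(X, U x))
    (fun x => (hU x).fromSpec) ?_ ?_
  · refine top_le_iff.mp fun x _ => Opens.mem_iSup.mpr ⟨x, ?_⟩
    rw [(hU x).opensRange_fromSpec]
    exact hxU x
  · intro x
    obtain ⟨e⟩ := e x
    refine finite_of_iso (e ≪≫ Groth.Agent.Lib.Helper5.AffLocal.freeTildeIso _ (n x)).symm ?_
    haveI : Module.Finite Γ(X, U x) ((𝟭 (ModuleCat Γ(X, U x))).obj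
        (ModuleCat.of Γ(X, U x) (ULift.{u} (Fin (n x)) →₀ Γ(X, U x)))) :=
      inferInstanceAs (Module.Finite Γ(X, U x) (ULift.{u} (Fin (n x)) →₀ Γ(X, U x)))
    exact Module.Finite.equiv ((tilde.toTildeΓNatIso.app
      (ModuleCat.of Γ(X, U x) (ULift.{u} (Fin (n x)) →₀ Γ(X, U x)))).toLinearEquiv)

/-- the homology of a short complex of coherent modules on a locally noetherian scheme is
coherent -/
theorem isCoh_homology [IsLocallyNoetherian X] (S : ShortComplex X.Modules)
    (h₁ : Coh.IsCoh S.X₁) (h₂ : Coh.IsCoh S.X₂) (h₃ : Coh.IsCoh S.X₃) : Coh.IsCoh S.homology := by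
  have hk : Coh.IsCoh (kernel S.g) := FtLocal.isCoh_kernel h₂ h₃ S.g
  have eZ : kernel S.g ≅ S.cycles :=
    IsLimit.conePointUniqueUpToIso (kernelIsKernel S.g) S.cyclesIsKernel
  have hZ : Coh.IsCoh S.cycles := isCoh_of_iso eZ hk
  have hc : Coh.IsCoh (cokernel S.toCycles) := FtLocal.isCoh_cokernel h₁ hZ S.toCycles
  have eH : cokernel S.toCycles ≅ S.homology :=
    IsColimit.coconePointUniqueUpToIso (cokernelIsCokernel _) S.homologyIsCokernel
  exact isCoh_of_iso eH hc

/-- the homology of a short complex of quasi-coherent modules is quasi-coherent -/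
theorem isQCoh_homology (S : ShortComplex X.Modules)
    (h₁ : S.X₁.IsQuasicoherent) (h₂ : S.X₂.IsQuasicoherent) (h₃ : S.X₃.IsQuasicoherent) :
    S.homology.IsQuasicoherent := by
  haveI hk : (kernel S.g).IsQuasicoherent := QcAbel.isQuasicoherent_kernel S.g
  have eZ : kernel S.g ≅ S.cycles :=
    IsLimit.conePointUniqueUpToIso (kernelIsKernel S.g) S.cyclesIsKernel
  haveI hZ : S.cycles.IsQuasicoherent := QcAbel.isQuasicoherent_of_iso eZ
  haveI hc : (cokernel S.toCycles).IsQuasicoherent := QcAbel.isQuasicoherent_cokernel S.toCycles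
  have eH : cokernel S.toCycles ≅ S.homology :=
    IsColimit.coconePointUniqueUpToIso (cokernelIsCokernel _) S.homologyIsCokernel
  exact QcAbel.isQuasicoherent_of_iso eH

/-- a module all of whose groups of sections vanish is a zero object -/
theorem isZero_of_forall_subsingleton (F : X.Modules)
    (h : ∀ U : X.Opens, Subsingleton Γ(F, U)) : IsZero F := by
  rw [IsZero.iff_id_eq_zero]
  apply Scheme.Modules.hom_ext
  intro U
  ext s
  have := h U
  exact Subsingleton.elim _ _

/-- the sections of a zero module vanish -/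
theorem subsingleton_sections_of_isZero (F : X.Modules) (hF : IsZero F)
    (U : X.Opens) : Subsingleton Γ(F, U) := by
  have h1 : 𝟙 F = 0 := hF.eq_of_src _ _
  refine ⟨fun s t => ?_⟩
  suffices h : ∀ s : Γ(F, U), s = 0 by rw [h s, h t]
  intro s
  have h2 : (𝟙 F : F ⟶ F).app U s = (0 : F ⟶ F).app U s := by rw [h1]
  rw [Scheme.Modules.Hom.id_app, Scheme.Modules.Hom.zero_app] at h2
  exact h2

/-- being zero is a local property -/
theorem isZero_of_locally (M : X.Modules)
    (h : ∀ x : X, ∃ V : X.Opens, x ∈ V ∧ IsZero (M.restrict V.ι)) : IsZero M := by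
  choose V hxV hV using h
  apply isZero_of_forall_subsingleton
  intro U
  refine ⟨fun s t => ?_⟩
  let F : TopCat.Sheaf Ab X := ⟨M.presheaf, M.isSheaf⟩
  refine TopCat.Sheaf.eq_of_locally_eq' F
    (fun x : U => (V x.1).ι ''ᵁ ((V x.1).ι ⁻¹ᵁ U)) U
    (fun x => homOfLE (Scheme.Hom.image_preimage_le _ _)) ?_ s t ?_
  · intro y hy
    refine Opens.mem_iSup.2 ⟨⟨y, hy⟩, ?_⟩
    rw [Scheme.Hom.image_preimage_eq_opensRange_inf, Scheme.Opens.opensRange_ι]
    exact ⟨hxV y, hy⟩
  · intro x
    have hsub : Subsingleton Γ(M.restrict (V x.1).ι, (V x.1).ι ⁻¹ᵁ U) :=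
      subsingleton_sections_of_isZero _ (hV x.1) _
    exact hsub.elim _ _

end Groth.Agent.Lib.Helper5.LocalCoh
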