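import Mathlib
import Groth.Prelude.Def_CohB1
import Groth.Prelude.Def_FlatMod2
import Groth.Agent.Lib.Helper1.FtLocal

/-!
# Local criteria for finite type and finite presentation via free modules on opens
-/
set_option autoImplicit false
set_option linter.style.haveILetI false
universe u
open CategoryTheory CategoryTheory.Limits AlgebraicGeometry Opposite TopologicalSpace

namespace Groth.Agent.Lib.Helper5.FtFp

variable {X : Scheme.{u}}

/-- the free module on `Fin n` of Mathlib agrees with the prelude's -/
noncomputable def freeIso (V : Scheme.{u}) (n : ℕ) :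
    SheafOfModules.free (R := V.ringCatSheaf) (ULift.{u} (Fin n)) ≅ FlatMod.freeMod V n :=
  Sigma.whiskerEquiv (f := fun _ : ULift.{u} (Fin n) => Coh.structureModule V)
    (g := fun _ : Fin n => Coh.structureModule V) Equiv.ulift (fun _ => Iso.refl _)

/-- generating sections from an epimorphism out of a finite free module -/
noncomputable def genOfEpi {V : Scheme.{u}} (M : V.Modules) (n : ℕ) (π : FlatMod.freeMod V n ⟶ M)
    (hπ : Epi π) : SheafOfModules.GeneratingSections M where
  I := ULift.{u} (Fin n)
  s := M.freeHomEquiv ((freeIso V n).hom ≫ π)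
  epi := by
    rw [Equiv.symm_apply_apply]
    exact @epi_comp _ _ _ _ _ (freeIso V n).hom inferInstance π hπ

instance {V : Scheme.{u}} (M : V.Modules) (n : ℕ) (π : FlatMod.freeMod V n ⟶ M) (hπ : Epi π) :
    (genOfEpi M n π hπ).IsFiniteType where
  finite := inferInstanceAs (Finite (ULift.{u} (Fin n)))

/-- finite type is local, through epimorphisms from finite free modules -/
theorem isFT_of_local_epi (F : X.Modules)
    (h : ∀ x : X, ∃ (V : X.Opens) (n : ℕ), x ∈ V ∧
      ∃ π : FlatMod.freeMod (↑V) n ⟶ F.restrict V.ι, Epi π) : CohB1.IsFT F := by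
  choose V n hxV π hπ using h
  refine Groth.Agent.Helper1.FtLocal.isFiniteType_of_cover F V ?_ (fun x => ?_)
  · rw [eq_top_iff]
    intro x _
    exact Opens.mem_iSup.2 ⟨x, hxV x⟩
  · exact ⟨genOfEpi _ (n x) (π x) (hπ x), inferInstance⟩

/-- a presentation from a cokernel of a map of finite free modules -/
noncomputable def presOfCoker {V : Scheme.{u}} (M : V.Modules) (a b : ℕ)
    (f : FlatMod.freeMod V a ⟶ FlatMod.freeMod V b) (g : FlatMod.freeMod V b ⟶ M)
    (w : f ≫ g = 0) (hc : IsColimit (CokernelCofork.ofπ g w)) : SheafOfModules.Presentation M :=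
  SheafOfModules.presentationOfIsCokernelFree
    ((freeIso V a).hom ≫ f ≫ (freeIso V b).inv) ((freeIso V b).hom ≫ g)
    (by
      rw [Category.assoc, Category.assoc, Iso.inv_hom_id_assoc]
      exact (congrArg (fun t => (freeIso V a).hom ≫ t) w).trans comp_zero)
    (by
      refine IsColimit.ofIsoColimit
        ((IsColimit.precomposeHomEquiv
          (parallelPair.ext (freeIso V a) (freeIso V b)
            (by
              change ((freeIso V a).hom ≫ f ≫ (freeIso V b).inv) ≫ (freeIso V b).hom =
                (freeIso V a).hom ≫ f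
              rw [Category.assoc, Category.assoc, Iso.inv_hom_id, Category.comp_id])
            (by
              change (0 : _ ⟶ _) ≫ (freeIso V b).hom = (freeIso V a).hom ≫ 0
              rw [zero_comp, comp_zero])) _).symm hc) ?_
      exact Cofork.ext (Iso.refl _) (by
        change ((freeIso V b).hom ≫ g) ≫ 𝟙 _ = (freeIso V b).hom ≫ g
        rw [Category.comp_id]))

instance {V : Scheme.{u}} (M : V.Modules) (a b : ℕ)
    (f : FlatMod.freeMod V a ⟶ FlatMod.freeMod V b) (g : FlatMod.freeMod V b ⟶ M)
    (w : f ≫ g = 0) (hc : IsColimit (CokernelCofork.ofπ g w)) :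
    (presOfCoker M a b f g w hc).IsFinite where
  isFiniteType_generators := ⟨inferInstanceAs (Finite (ULift.{u} (Fin b)))⟩
  isFiniteType_relations := ⟨inferInstanceAs (Finite (ULift.{u} (Fin a)))⟩

/-- transport a presentation of `F|_U` (module on the scheme `U`) to the over-site -/
noncomputable def presentationOver (F : X.Modules) (U : X.Opens)
    (P : (F.restrict U.ι).Presentation) : (F.over U).Presentation := by
  let E : SheafOfModules.{u} (X.ringCatSheaf.over U) ≌
      SheafOfModules.{u} (U.sheafRestrict.obj X.ringCatSheaf) :=
    U.sheafOfModulesEquivOver X.ringCatSheaf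
  let M' : SheafOfModules.{u} (U.sheafRestrict.obj X.ringCatSheaf) := F.restrict U.ι
  let P' : M'.Presentation := P
  have η : SheafOfModules.unit _ ≅ E.inverse.obj (SheafOfModules.unit _) :=
    (TopologicalSpace.Opens.sheafOfModulesEquivOverInverseUnit U X.ringCatSheaf).symm
  have iso : E.inverse.obj M' ≅ F.over U :=
    E.inverse.mapIso ((Scheme.Modules.overFunctorEquiv U).app F).symm ≪≫
      (E.unitIso.app (F.over U)).symm
  exact (P'.map E.inverse η).ofIsIso iso.hom

theorem presentationOver_isFinite (F : X.Modules) (U : X.Opens)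
    (P : (F.restrict U.ι).Presentation) [hP : P.IsFinite] :
    (presentationOver F U P).IsFinite := by
  constructor
  · constructor
    change Finite P.generators.I
    exact hP.isFiniteType_generators.finite
  · constructor
    change Finite P.relations.I
    exact hP.isFiniteType_relations.finite

/-- finite presentation is local, through cokernels of maps of finite free modules -/
theorem isFP_of_local_coker (F : X.Modules)
    (h : ∀ x : X, ∃ (V : X.Opens) (a b : ℕ), x ∈ V ∧
      ∃ (f : FlatMod.freeMod (↑V) a ⟶ FlatMod.freeMod (↑V) b)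
        (g : FlatMod.freeMod (↑V) b ⟶ F.restrict V.ι) (w : f ≫ g = 0),
        Nonempty (IsColimit (CokernelCofork.ofπ g w))) : CohB1.IsFP F := by
  choose V a b hxV f g w hc using h
  let σ : SheafOfModules.QuasicoherentData.{u} (R := X.ringCatSheaf) F :=
    { I := X, X := V,
      coversTop := (Opens.coversTop_iff (T := X) V).mpr (IsOpenCover.mk (by
        rw [eq_top_iff]
        intro x _
        exact Opens.mem_iSup.2 ⟨x, hxV x⟩))
      presentation := fun x => presentationOver F (V x)
        (presOfCoker _ (a x) (b x) (f x) (g x) (w x) (hc x).some) }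
  have hσ : σ.IsFinitePresentation := by
    constructor
    intro x
    exact presentationOver_isFinite F (V x) _
  exact SheafOfModules.IsFinitePresentation.mk.{u, u, u} ⟨σ, hσ⟩

end Groth.Agent.Lib.Helper5.FtFp
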