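import Mathlib
import Groth.Agent.Lib.Helper5.Perf.FtFp
import Groth.Agent.Lib.Helper5.Perf.Shrink
import Groth.Agent.Lib.Helper5.Stalk.FlatPull
import Groth.Agent.Lib.Helper5.Euler.AffLocal

/-!
# Finite type / finite presentation through charts and finite locally free modules
-/
set_option autoImplicit false
set_option linter.style.haveILetI false
universe u
open CategoryTheory CategoryTheory.Limits AlgebraicGeometry Opposite TopologicalSpace

namespace Groth.Agent.Lib.Helper5.FtFp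

open Groth.Agent.Lib.Helper5.Shrink Groth.Agent.Lib.Helper5.StalkAdj

variable {X : Scheme.{u}}

/-- finite type through open immersion charts -/
theorem isFT_of_charts (F : X.Modules)
    (h : ∀ x : X, ∃ (Y : Scheme.{u}) (j : Y ⟶ X) (_ : IsOpenImmersion j) (n : ℕ),
      x ∈ Set.range j.base ∧ ∃ π : FlatMod.freeMod Y n ⟶ F.restrict j, Epi π) :
    CohB1.IsFT F := by
  apply isFT_of_local_epi
  intro x
  obtain ⟨Y, j, hj, n, hx, π, hπ⟩ := h x
  let k : (j.opensRange : Scheme.{u}) ⟶ Y := j.isoOpensRange.inv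
  have hk : k ≫ j = j.opensRange.ι := Scheme.Hom.isoOpensRange_inv_comp j
  let c : F.restrict j.opensRange.ι ≅ (F.restrict j).restrict k :=
    (Scheme.Modules.restrictFunctorCongr hk.symm).app F ≪≫
      (Scheme.Modules.restrictFunctorComp k j).app F
  refine ⟨j.opensRange, n, hx,
    (restrictFreeIso k n).inv ≫ (Scheme.Modules.restrictFunctor k).map π ≫ c.inv, ?_⟩
  haveI : Epi ((Scheme.Modules.restrictFunctor k).map π) := inferInstance
  infer_instance

/-- finite type: locally a quotient of a finite locally free module -/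
theorem isFT_of_local_epi_flf (F : X.Modules)
    (h : ∀ x : X, ∃ V : X.Opens, x ∈ V ∧ ∃ (Z : (V : Scheme.{u}).Modules)
      (ρ : Z ⟶ F.restrict V.ι), FlatMod.IsFinLocFree Z ∧ Epi ρ) : CohB1.IsFT F := by
  apply isFT_of_charts
  intro x
  obtain ⟨V, hxV, Z, ρ, hZ, hρ⟩ := h x
  obtain ⟨W, n, hxW, ⟨θ⟩⟩ := hZ ⟨x, hxV⟩
  let c := (Scheme.Modules.restrictFunctorComp W.ι V.ι).app F
  refine ⟨W, W.ι ≫ V.ι, inferInstance, n, ⟨⟨⟨x, hxV⟩, hxW⟩, rfl⟩,
    θ.inv ≫ (Scheme.Modules.restrictFunctor W.ι).map ρ ≫ c.inv, ?_⟩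
  haveI : Epi ((Scheme.Modules.restrictFunctor W.ι).map ρ) := inferInstance
  infer_instance

section Gen

variable {A : Type*} [Category A] [Abelian A]

/-- an object isomorphic to a cokernel is a cokernel -/
noncomputable def isColimitOfIsoCokernel {P Q : A} (f : P ⟶ Q) (M : A) (e : M ≅ cokernel f) :
    IsColimit (CokernelCofork.ofπ (cokernel.π f ≫ e.inv)
      (by rw [← Category.assoc, cokernel.condition, zero_comp])) :=
  IsColimit.ofIsoColimit (cokernelIsCokernel f) (Cofork.ext e.symm (by simp))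

/-- transport of cokernels along an exact functor and isomorphisms of source and target -/
noncomputable def cokernelTransportIso {B : Type*} [Category B] [Abelian B] (G : A ⥤ B)
    [G.Additive] [PreservesFiniteColimits G] {P Q : A} (f : P ⟶ Q) {P' Q' : B}
    (p : G.obj P ≅ P') (q : G.obj Q ≅ Q') :
    G.obj (cokernel f) ≅ cokernel (p.inv ≫ G.map f ≫ q.hom) :=
  PreservesCokernel.iso G f ≪≫ cokernel.mapIso (G.map f) (p.inv ≫ G.map f ≫ q.hom) p q
    (by simp)

end Gen

/-- finite presentation through open immersion charts -/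
theorem isFP_of_charts (F : X.Modules)
    (h : ∀ x : X, ∃ (Y : Scheme.{u}) (j : Y ⟶ X) (_ : IsOpenImmersion j) (a b : ℕ),
      x ∈ Set.range j.base ∧ ∃ f : FlatMod.freeMod Y a ⟶ FlatMod.freeMod Y b,
        Nonempty (F.restrict j ≅ cokernel f)) :
    CohB1.IsFP F := by
  apply isFP_of_local_coker
  intro x
  obtain ⟨Y, j, hj, a, b, hx, f, ⟨e⟩⟩ := h x
  let k : (j.opensRange : Scheme.{u}) ⟶ Y := j.isoOpensRange.inv
  have hk : k ≫ j = j.opensRange.ι := Scheme.Hom.isoOpensRange_inv_comp j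
  let c : F.restrict j.opensRange.ι ≅ (F.restrict j).restrict k :=
    (Scheme.Modules.restrictFunctorCongr hk.symm).app F ≪≫
      (Scheme.Modules.restrictFunctorComp k j).app F
  let Rk := Scheme.Modules.restrictFunctor k
  let f' : FlatMod.freeMod (↑j.opensRange) a ⟶ FlatMod.freeMod (↑j.opensRange) b :=
    (restrictFreeIso k a).inv ≫ Rk.map f ≫ (restrictFreeIso k b).hom
  let e' : F.restrict j.opensRange.ι ≅ cokernel f' :=
    c ≪≫ Rk.mapIso e ≪≫ cokernelTransportIso Rk f (restrictFreeIso k a) (restrictFreeIso k b)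
  exact ⟨j.opensRange, a, b, hx, f', cokernel.π f' ≫ e'.inv, _,
    ⟨isColimitOfIsoCokernel f' _ e'⟩⟩

/-- finite presentation: locally a cokernel of a map between finite locally free modules -/
theorem isFP_of_local_coker_flf (F : X.Modules)
    (h : ∀ x : X, ∃ V : X.Opens, x ∈ V ∧ ∃ (P Z : (V : Scheme.{u}).Modules) (t : P ⟶ Z),
      FlatMod.IsFinLocFree P ∧ FlatMod.IsFinLocFree Z ∧
        Nonempty (F.restrict V.ι ≅ cokernel t)) : CohB1.IsFP F := by
  apply isFP_of_charts
  intro x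
  obtain ⟨V, hxV, P, Z, t, hP, hZ, ⟨e⟩⟩ := h x
  obtain ⟨W, hxW, hW⟩ := Groth.Agent.Lib.Helper5.AffLocal.exists_free_nhd_finset'
    (Finset.univ : Finset Bool) (fun i => if i then P else Z)
    (fun i => by cases i <;> simpa) ⟨x, hxV⟩
  obtain ⟨a, ⟨θP⟩⟩ := hW true (Finset.mem_univ _)
  obtain ⟨b, ⟨θZ⟩⟩ := hW false (Finset.mem_univ _)
  simp only [if_true] at θP
  simp only [Bool.false_eq_true, if_false] at θZ
  let RW := Scheme.Modules.restrictFunctor W.ι
  let c := (Scheme.Modules.restrictFunctorComp W.ι V.ι).app F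
  exact ⟨W, W.ι ≫ V.ι, inferInstance, a, b, ⟨⟨⟨x, hxV⟩, hxW⟩, rfl⟩,
    θP.inv ≫ RW.map t ≫ θZ.hom,
    ⟨c ≪≫ RW.mapIso e ≪≫ cokernelTransportIso RW t θP θZ⟩⟩

end Groth.Agent.Lib.Helper5.FtFp
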