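import Mathlib
import Groth.Agent.Lib.Helper5.Stalk.LpullComp
import Groth.Agent.Lib.Helper5.Stalk.FlatPull
import Groth.Agent.Lib.Helper5.Stalk.LpullTor
import Groth.Agent.Lib.Helper5.Stalk.FlatFree
import Groth.Agent.Lib.Helper5.Perf.Pull

/-!
# Derived pullback preserves perfect objects (helper5)
-/
set_option autoImplicit false
set_option linter.unusedSectionVars false
set_option linter.unusedVariables false
set_option linter.style.haveILetI false
universe u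
open CategoryTheory CategoryTheory.Limits HomologicalComplex AlgebraicGeometry
attribute [local instance] HasDerivedCategory.standard

namespace Groth.Agent.Lib.Helper5.LpullLib

open Groth.Agent.Lib.Helper5.StalkAdj Groth.Agent.Lib.Helper5.KFlatSiteQ
  Groth.Agent.Lib.Helper5.PerfPull

section Restrict

variable {X : Scheme.{u}} (U : X.Opens)

/-- restriction to an open on the derived category -/
noncomputable abbrev resD : DCoh.D X ⥤ DCoh.D (U : Scheme.{u}) :=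
  (Scheme.Modules.restrictFunctor U.ι).mapDerivedCategory

/-- `Q(F|_U)` only depends on `Q F` -/
noncomputable def resDIso (F : CochainComplex X.Modules ℤ) :
    (resD U).obj (DCoh.toD X F) ≅ DCoh.toD (U : Scheme.{u}) ((DCoh.restrictCx U).obj F) :=
  ((Scheme.Modules.restrictFunctor U.ι).mapDerivedCategoryFactors).app F

/-- restriction of complexes to an open is termwise pullback -/
noncomputable def restrictCxIsoPullCx : DCoh.restrictCx U ≅ pullCx U.ι :=
  NatIso.mapHomologicalComplex (Scheme.Modules.restrictFunctorIsoPullback U.ι) (ComplexShape.up ℤ)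

theorem kft_restrictCx {P : CochainComplex X.Modules ℤ} (hP : Cell X.sheaf P) :
    KFT ((DCoh.restrictCx U).obj P) :=
  kft_of_cell (Cell.iso ((restrictCxIsoPullCx U).app P).symm (cell_pullback U.ι hP))

end Restrict

theorem kft_of_isStrictlyPerfect {X : Scheme.{u}} (E : CochainComplex X.Modules ℤ)
    (hE : DCoh.IsStrictlyPerfect E) : KFT E := by
  obtain ⟨⟨a, b, hab⟩, hfl⟩ := hE
  exact kft_of_flat_bounded E b (fun i hi => hab i (Or.inr hi))
    (fun i => flatMod_of_isFinLocFree _ (hfl i))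

variable {X Y : Scheme.{u}} (f : X ⟶ Y)

/-- termwise: `(f^* P)|_U ≅ q^* (P|_V)` -/
noncomputable def restrictPullCxIso {U : X.Opens} {V : Y.Opens}
    (q : (↑U : Scheme.{u}) ⟶ ↑V) (hq : q ≫ V.ι = U.ι ≫ f) (P : CochainComplex Y.Modules ℤ) :
    (DCoh.restrictCx U).obj ((pullCx f).obj P) ≅ (pullCx q).obj ((DCoh.restrictCx V).obj P) :=
  HomologicalComplex.Hom.isoOfComponents (fun i => Iso.refl _) (by intros; simp) ≪≫
    (NatIso.mapHomologicalComplex (restrictPullbackIso f q hq) (ComplexShape.up ℤ)).app P ≪≫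
    HomologicalComplex.Hom.isoOfComponents (fun i => Iso.refl _) (by intros; simp; rfl)

theorem isPerfect_Lpull [DCoh.HasLpull f] (E : DCoh.D Y)
    (hE : DCoh.IsPerfect E) : DCoh.IsPerfect ((DCoh.Lpull f).obj E) := by
  intro x
  obtain ⟨V, hxV, hV⟩ := hE (f x)
  refine ⟨f ⁻¹ᵁ V, hxV, fun F' ⟨eF'⟩ => ?_⟩
  obtain ⟨P, hP, ⟨eP⟩⟩ := exists_cell_repr E
  obtain ⟨E₁, hE₁, ⟨e₁⟩⟩ := hV P ⟨eP⟩
  let q : (↑(f ⁻¹ᵁ V) : Scheme.{u}) ⟶ ↑V := f ∣_ V
  have hq : q ≫ V.ι = (f ⁻¹ᵁ V).ι ≫ f := morphismRestrict_ι f V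
  haveI : DCoh.HasLpull q := hasLpull q
  refine ⟨(pullCx q).obj E₁, isStrictlyPerfect_pullback q E₁ hE₁, ⟨?_⟩⟩
  -- `Q F' ≅ Q (f^* P)`
  have i1 : DCoh.toD X F' ≅ DCoh.toD X ((pullCx f).obj P) :=
    eF' ≪≫ (DCoh.Lpull f).mapIso eP.symm ≪≫ lpullObjIso f P (kft_of_cell hP)
  have i2 : DCoh.toD _ ((DCoh.restrictCx (f ⁻¹ᵁ V)).obj F') ≅
      DCoh.toD _ ((DCoh.restrictCx (f ⁻¹ᵁ V)).obj ((pullCx f).obj P)) :=
    (resDIso (f ⁻¹ᵁ V) F').symm ≪≫ (resD (f ⁻¹ᵁ V)).mapIso i1 ≪≫ resDIso (f ⁻¹ᵁ V) _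
  have i3 : DCoh.toD _ ((DCoh.restrictCx (f ⁻¹ᵁ V)).obj ((pullCx f).obj P)) ≅
      DCoh.toD _ ((pullCx q).obj ((DCoh.restrictCx V).obj P)) :=
    DerivedCategory.Q.mapIso (restrictPullCxIso f q hq P)
  have i4 : DCoh.toD _ ((pullCx q).obj ((DCoh.restrictCx V).obj P)) ≅
      DCoh.toD _ ((pullCx q).obj E₁) :=
    (lpullObjIso q _ (kft_restrictCx V hP)).symm ≪≫ (DCoh.Lpull q).mapIso e₁ ≪≫
      lpullObjIso q E₁ (kft_of_isStrictlyPerfect E₁ hE₁)
  exact i2 ≪≫ i3 ≪≫ i4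

end Groth.Agent.Lib.Helper5.LpullLib
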