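import Mathlib
import Groth.Agent.Lib.Helper5.Perf.Shrink
import Groth.Agent.Lib.Helper5.Perf.LpullPerf

set_option autoImplicit false
set_option linter.style.haveILetI false
universe u
open CategoryTheory CategoryTheory.Limits AlgebraicGeometry Opposite TopologicalSpace
attribute [local instance] HasDerivedCategory.standard

namespace Groth.Agent.Lib.Helper5.Shrink

open Groth.Agent.Lib.Helper5.LpullLib

/-- free modules are finite locally free -/
theorem isFinLocFree_of_iso_free {Z : Scheme.{u}} (N : Z.Modules) (n : ℕ)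
    (e : N ≅ FlatMod.freeMod Z n) : FlatMod.IsFinLocFree N := by
  intro x
  exact ⟨⊤, n, trivial, ⟨(Scheme.Modules.restrictFunctor (⊤ : Z.Opens).ι).mapIso e ≪≫
    restrictFreeIso _ n⟩⟩

theorem isZero_freeMod_zero (Z : Scheme.{u}) : IsZero (FlatMod.freeMod Z 0) := by
  rw [IsZero.iff_id_eq_zero]
  apply Sigma.hom_ext
  intro i
  exact i.elim0

theorem perfect_iff_locally_free {X : Scheme.{u}} (E : DCoh.D X) :
    DCoh.IsPerfect E ↔ ∀ x : X, ∃ V : X.Opens, x ∈ V ∧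
      ∀ F : CochainComplex X.Modules ℤ, Nonempty (DCoh.toD X F ≅ E) →
        ∃ (P : CochainComplex (V : Scheme.{u}).Modules ℤ) (a b : ℤ), DCoh.VanishesOutside P a b ∧
          (∀ i : ℤ, ∃ n : ℕ, Nonempty (P.X i ≅ FlatMod.freeMod (V : Scheme.{u}) n)) ∧
          Nonempty (DerivedCategory.Q.obj ((DCoh.restrictCx V).obj F) ≅
            DerivedCategory.Q.obj P) := by
  constructor
  · intro hE x
    obtain ⟨V, hxV, hV⟩ := hE x
    let F₀ : CochainComplex X.Modules ℤ := DerivedCategory.Q.objPreimage E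
    have e₀ : DCoh.toD X F₀ ≅ E := DerivedCategory.Q.objObjPreimageIso E
    obtain ⟨P₀, hP₀, ⟨e₁⟩⟩ := hV F₀ ⟨e₀⟩
    obtain ⟨⟨a, b, hab⟩, hfl⟩ := hP₀
    obtain ⟨W, hW, hxW, hfree⟩ := exists_free_nhd_finset (Finset.Icc a b) (fun i => P₀.X i)
      hfl x hxV
    refine ⟨W, hxW, fun F ⟨eF⟩ => ?_⟩
    refine ⟨(resLECx hW).obj P₀, a, b, fun i hi => ?_, fun i => ?_, ⟨?_⟩⟩
    · exact Functor.map_isZero (Scheme.Modules.restrictFunctor (X.homOfLE hW)) (hab i hi)
    · by_cases hi : i ∈ Finset.Icc a b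
      · exact hfree i hi
      · have hz : IsZero (P₀.X i) := hab i (by rw [Finset.mem_Icc] at hi; omega)
        have hz' : IsZero (((resLECx hW).obj P₀).X i) :=
          Functor.map_isZero (Scheme.Modules.restrictFunctor (X.homOfLE hW)) hz
        exact ⟨0, ⟨hz'.iso (isZero_freeMod_zero _)⟩⟩
    · exact (resDIso W F).symm ≪≫ (resD W).mapIso (eF ≪≫ e₀.symm) ≪≫ resDIso W F₀ ≪≫
        restrictQIso hW F₀ P₀ e₁
  · intro h x
    obtain ⟨V, hxV, hV⟩ := h x
    refine ⟨V, hxV, fun F hF => ?_⟩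
    obtain ⟨P, a, b, hab, hfree, he⟩ := hV F hF
    refine ⟨P, ⟨⟨a, b, hab⟩, fun i => ?_⟩, he⟩
    obtain ⟨n, ⟨e⟩⟩ := hfree i
    exact isFinLocFree_of_iso_free _ n e

end Groth.Agent.Lib.Helper5.Shrink
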