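import Mathlib
import Groth.Prelude.Def_FlatMod2
import Groth.Prelude.Def_CohB1
import Groth.Agent.Lib.Helper5.Euler.AffLocal
import Groth.Agent.Lib.Helper5.Perf.PerfLocFree
import Groth.Agent.Lib.Helper5.Perf.FtFpCharts
import Groth.Agent.Lib.Helper5.Stalk.FlatFree
import Groth.Agent.Lib.Lead.FLF1
import Groth.Agent.Lib.Lead.FLF2

/-!
# A flat module of finite presentation is finite locally free
-/
set_option autoImplicit false
set_option linter.style.haveILetI false
universe u
noncomputable section
open CategoryTheory CategoryTheory.Limits AlgebraicGeometry Opposite TopologicalSpace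
open scoped TensorProduct

namespace Groth.Agent.Lib.Helper5.FpFlat

open Groth.Agent.Lib.Helper5.AffLocal Groth.Agent.Lib.Helper5.Shrink
  Groth.Agent.Lead.FLF Groth.Agent.Lib.Helper5.StalkAdj Groth.Agent.Lib.Helper5.FtFp

variable {X : Scheme.{u}}

/-- (stalkwise) flatness is invariant under isomorphisms -/
theorem flatMod_of_iso {M N : X.Modules} (e : M ≅ N) (h : FlatMod.IsFlat M) :
    FlatMod.IsFlat N := fun x =>
  (Module.Flat.equiv_iff ((stalkSh X x).mapIso e).toLinearEquiv).1 (h x)

/-- the restriction of a flat module to an open is flat -/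
theorem flatMod_restrict {U : Scheme.{u}} (j : U ⟶ X) [IsOpenImmersion j] (M : X.Modules)
    (h : FlatMod.IsFlat M) : FlatMod.IsFlat (M.restrict j) :=
  flatMod_of_iso ((Scheme.Modules.restrictFunctorIsoPullback j).app M).symm
    (flatMod_pullback j M h)

/-- the stalk of `tilde N` at `p` is flat over `R` if it is flat over the local ring -/
theorem flat_stalk_tilde (R : CommRingCat.{u}) (N : ModuleCat.{u} R) (p : PrimeSpectrum R)
    (h : Module.Flat ((Spec R).presheaf.stalk p) ((tilde N).presheaf.stalk p)) :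
    Module.Flat R ((tilde N).presheaf.stalk p) := by
  letI : Algebra R ((Spec R).presheaf.stalk p) :=
    inferInstanceAs (Algebra R ((AlgebraicGeometry.structurePresheafInCommRingCat R).stalk p))
  haveI : IsLocalization.AtPrime ((Spec R).presheaf.stalk p) p.asIdeal :=
    inferInstanceAs (IsLocalization.AtPrime ((Spec.structureSheaf R).presheaf.stalk p) p.asIdeal)
  haveI : Module.Flat R ((Spec R).presheaf.stalk p) :=
    IsLocalization.flat _ p.asIdeal.primeCompl
  haveI : IsScalarTower R ((Spec R).presheaf.stalk p) ((tilde N).presheaf.stalk p) :=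
    inferInstanceAs (IsScalarTower R
      ((AlgebraicGeometry.structurePresheafInCommRingCat R).stalk p)
      ↑(TopCat.Presheaf.stalk (AlgebraicGeometry.moduleStructurePresheaf R N).presheaf p))
  exact Module.Flat.trans R ((Spec R).presheaf.stalk p) _

theorem isLocalizedModule_toStalk (R : CommRingCat.{u}) (N : ModuleCat.{u} R)
    (x : PrimeSpectrum.Top R) :
    IsLocalizedModule x.asIdeal.primeCompl (tilde.toStalk N x).hom := inferInstance

theorem isLocalizedModule_toStalk' (R : CommRingCat.{u}) (N : ModuleCat.{u} R) (P : Ideal R)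
    [P.IsPrime] :
    IsLocalizedModule P.primeCompl
      (tilde.toStalk N (⟨P, inferInstance⟩ : PrimeSpectrum.Top R)).hom :=
  isLocalizedModule_toStalk R N ⟨P, inferInstance⟩

/-- a module whose tilde is (stalkwise) flat is flat -/
theorem flat_of_flatMod_tilde (R : CommRingCat.{u}) (N : ModuleCat.{u} R)
    (h : FlatMod.IsFlat (tilde N)) : Module.Flat R N := by
  apply Module.flat_of_localized_maximal
  intro P hP
  haveI := isLocalizedModule_toStalk' R N P
  have e := IsLocalizedModule.iso P.primeCompl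
    (tilde.toStalk N (⟨P, inferInstance⟩ : PrimeSpectrum.Top R)).hom
  haveI := flat_stalk_tilde R N ⟨P, inferInstance⟩ (h _)
  exact Module.Flat.of_linearEquiv e

/-- the cokernel of a map between finite free modules is of finite presentation -/
theorem finitePresentation_cokernel (R : CommRingCat.{u}) (a b : ℕ)
    (φ : ModuleCat.of R (ULift.{u} (Fin a) →₀ R) ⟶ ModuleCat.of R (ULift.{u} (Fin b) →₀ R)) :
    Module.FinitePresentation R ↑(cokernel φ) := by
  haveI : Module.FinitePresentation R
      ((ULift.{u} (Fin b) →₀ R) ⧸ LinearMap.range φ.hom) := by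
    refine Module.finitePresentation_of_surjective (LinearMap.range φ.hom).mkQ
      (Submodule.mkQ_surjective _) ?_
    rw [Submodule.ker_mkQ, LinearMap.range_eq_map]
    exact Submodule.FG.map _ (Module.Finite.fg_top)
  exact Module.FinitePresentation.of_equiv
    (ModuleCat.cokernelIsoRangeQuotient φ).symm.toLinearEquiv

/-- on an affine scheme, a flat cokernel of a map between finite free modules is finite locally
free -/
theorem isFinLocFree_of_coker_affine (R : CommRingCat.{u}) (a b : ℕ) (M : (Spec R).Modules)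
    (t : FlatMod.freeMod (Spec R) a ⟶ FlatMod.freeMod (Spec R) b) (e : M ≅ cokernel t)
    (hM : FlatMod.IsFlat M) : FlatMod.IsFinLocFree M := by
  obtain ⟨φ, hφ⟩ : ∃ φ : ModuleCat.of R (ULift.{u} (Fin a) →₀ R) ⟶
      ModuleCat.of R (ULift.{u} (Fin b) →₀ R),
      (tilde.functor R).map φ = (freeTildeIso R a).inv ≫ t ≫ (freeTildeIso R b).hom :=
    ⟨(tilde.fullyFaithfulFunctor (R := R)).preimage _,
      (tilde.fullyFaithfulFunctor (R := R)).map_preimage _⟩
  have ht : t = (freeTildeIso R a).symm.inv ≫ (tilde.functor R).map φ ≫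
      (freeTildeIso R b).symm.hom := by
    rw [hφ]
    simp
  have e' : M ≅ (tilde.functor R).obj (cokernel φ) :=
    e ≪≫ cokernelIsoOfEq ht ≪≫
      (cokernelTransportIso (tilde.functor R) φ (freeTildeIso R a).symm
        (freeTildeIso R b).symm).symm
  haveI := finitePresentation_cokernel R a b φ
  haveI : Module.Flat R ↑(cokernel φ) := flat_of_flatMod_tilde R _ (flatMod_of_iso e' hM)
  haveI : Module.Projective R ↑(cokernel φ) := Module.Flat.projective_of_finitePresentation
  exact isFinLocFree_of_iso e'.symm (tilde_isFinLocFree_of_projective (cokernel φ))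

/-- `F` is, locally, the cokernel of a map between finite free modules -/
def HasCokerCharts (F : X.Modules) : Prop :=
  ∀ x : X, ∃ (Y : Scheme.{u}) (j : Y ⟶ X) (_ : IsOpenImmersion j) (a b : ℕ),
    x ∈ Set.range j.base ∧ ∃ f : FlatMod.freeMod Y a ⟶ FlatMod.freeMod Y b,
      Nonempty (F.restrict j ≅ cokernel f)

theorem hasCokerCharts_of_local_coker_flf (F : X.Modules)
    (h : ∀ x : X, ∃ V : X.Opens, x ∈ V ∧ ∃ (P Z : (V : Scheme.{u}).Modules) (t : P ⟶ Z),
      FlatMod.IsFinLocFree P ∧ FlatMod.IsFinLocFree Z ∧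
        Nonempty (F.restrict V.ι ≅ cokernel t)) : HasCokerCharts F := by
  intro x
  obtain ⟨V, hxV, P, Z, t, hP, hZ, ⟨e⟩⟩ := h x
  obtain ⟨W, hxW, hW⟩ := Groth.Agent.Lib.Helper5.AffLocal.exists_free_nhd_finset'
    (Finset.univ : Finset Bool) (fun i => if i then P else Z)
    (fun i => by cases i <;> simpa) ⟨x, hxV⟩
  obtain ⟨a, ⟨θP⟩⟩ := hW true (Finset.mem_univ _)
  obtain ⟨b, ⟨θZ⟩⟩ := hW false (Finset.mem_univ _)
  simp only [if_true] at θP
  simp only [Bool.false_eq_true, if_false] at θZ
  let RW := Scheme.Modules.restrictFunctor W.ι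
  let c := (Scheme.Modules.restrictFunctorComp W.ι V.ι).app F
  exact ⟨W, W.ι ≫ V.ι, inferInstance, a, b, ⟨⟨⟨x, hxV⟩, hxW⟩, rfl⟩,
    θP.inv ≫ RW.map t ≫ θZ.hom,
    ⟨c ≪≫ RW.mapIso e ≪≫ cokernelTransportIso RW t θP θZ⟩⟩

/-- affine charts -/
theorem HasCokerCharts.affine {F : X.Modules} (h : HasCokerCharts F) (x : X) :
    ∃ (R : CommRingCat.{u}) (j : Spec R ⟶ X) (_ : IsOpenImmersion j) (a b : ℕ),
      x ∈ Set.range j.base ∧ ∃ f : FlatMod.freeMod (Spec R) a ⟶ FlatMod.freeMod (Spec R) b,
        Nonempty (F.restrict j ≅ cokernel f) := by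
  obtain ⟨V, j, hj, a, b, ⟨y, rfl⟩, f, ⟨e⟩⟩ := h x
  obtain ⟨_, ⟨U, hU : IsAffineOpen U, rfl⟩, hyU, -⟩ :=
    V.isBasis_affineOpens.exists_subset_of_mem_open (Set.mem_univ y) isOpen_univ
  let k : Spec Γ(V, U) ⟶ V := hU.fromSpec
  refine ⟨Γ(V, U), k ≫ j, inferInstance, a, b, ?_, ?_⟩
  · have hy : y ∈ Set.range k.base := by
      rw [hU.range_fromSpec]
      exact hyU
    obtain ⟨w, hw⟩ := hy
    exact ⟨w, by rw [← hw]; rfl⟩
  · let Rk := Scheme.Modules.restrictFunctor k
    exact ⟨(restrictFreeIso k a).inv ≫ Rk.map f ≫ (restrictFreeIso k b).hom,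
      ⟨(Scheme.Modules.restrictFunctorComp k j).app F ≪≫ Rk.mapIso e ≪≫
        cokernelTransportIso Rk f (restrictFreeIso k a) (restrictFreeIso k b)⟩⟩

/-- **a flat module which is locally a cokernel of a map between finite free modules is finite
locally free** -/
theorem isFinLocFree_of_hasCokerCharts (F : X.Modules) (h : HasCokerCharts F)
    (hfl : FlatMod.IsFlat F) : FlatMod.IsFinLocFree F := by
  apply isFinLocFree_of_charts
  intro x
  obtain ⟨R, j, hj, a, b, hx, f, ⟨e⟩⟩ := h.affine x
  exact ⟨Spec R, j, hj, hx, isFinLocFree_of_coker_affine R a b _ f e (flatMod_restrict j F hfl)⟩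

end Groth.Agent.Lib.Helper5.FpFlat
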