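import Mathlib
import Groth.Prelude.Def_FlatMod2
import Groth.Agent.Lib.Helper5.Stalk.FlatFree
import Groth.Agent.Lib.Helper5.Perf.FpFlat

/-!
# Stalks of finite locally free modules are finite free
-/
set_option autoImplicit false
set_option linter.style.haveILetI false
universe u
noncomputable section
open CategoryTheory CategoryTheory.Limits AlgebraicGeometry Opposite TopologicalSpace
open scoped TensorProduct

namespace Groth.Agent.Lib.Helper5.StalkFree

open Groth.Agent.Lib.Helper5.StalkAdj

/-- descent of finiteness and freeness along a bijective ring map -/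
theorem free_finite_of_extendScalars {R S : Type u} [CommRing R] [CommRing S] (g : R →+* S)
    (hg : Function.Bijective g) (M : ModuleCat.{u} R)
    (h : Module.Free S ((ModuleCat.extendScalars.{u, u, u} g).obj M) ∧
      Module.Finite S ((ModuleCat.extendScalars.{u, u, u} g).obj M)) :
    Module.Free R M ∧ Module.Finite R M := by
  let _ := g.toAlgebra
  have e : R ≃ₗ[R] S := LinearEquiv.ofBijective (Algebra.linearMap R S) hg
  haveI : Module.Free R S := Module.Free.of_equiv e
  haveI : Module.Finite R S := Module.Finite.equiv e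
  haveI hfr : Module.Free S (S ⊗[R] M) := h.1
  haveI hfi : Module.Finite S (S ⊗[R] M) := h.2
  haveI : Module.Free R (S ⊗[R] M) := Module.Free.trans (R := R) (S := S)
  haveI : Module.Finite R (S ⊗[R] M) := Module.Finite.trans S (S ⊗[R] M)
  have e2 : (S ⊗[R] M) ≃ₗ[R] M :=
    (TensorProduct.congr e.symm (LinearEquiv.refl R M)) ≪≫ₗ TensorProduct.lid R M
  exact ⟨Module.Free.of_equiv e2, Module.Finite.equiv e2⟩

variable (X : Scheme.{u}) (x : X)

/-- the stalk of a finite free module -/
def stalkFreeIso (n : ℕ) :
    (stalkSh X x).obj (FlatMod.freeMod X n) ≅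
      ModuleCat.of (X.presheaf.stalk x) (Fin n → X.presheaf.stalk x) :=
  PreservesCoproduct.iso (stalkSh X x) (fun _ : Fin n => Coh.structureModule X) ≪≫
    Sigma.mapIso (fun _ : Fin n => (stalkUnitIso X x).symm) ≪≫
    (biproduct.isoCoproduct _).symm ≪≫
    ModuleCat.biproductIsoPi (fun _ : Fin n => ModuleCat.of (X.presheaf.stalk x)
      (X.presheaf.stalk x))

theorem free_finite_stalk_freeMod (n : ℕ) :
    Module.Free (X.presheaf.stalk x) ((stalkSh X x).obj (FlatMod.freeMod X n)) ∧
      Module.Finite (X.presheaf.stalk x) ((stalkSh X x).obj (FlatMod.freeMod X n)) := by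
  have e := (stalkFreeIso X x n).toLinearEquiv
  exact ⟨Module.Free.of_equiv e.symm, Module.Finite.equiv e.symm⟩

variable {X}

/-- transfer along an open immersion -/
theorem free_finite_of_restrict {U : Scheme.{u}} (j : U ⟶ X) [IsOpenImmersion j] (M : X.Modules)
    (y : U)
    (h : Module.Free (U.presheaf.stalk y) ((stalkSh U y).obj (M.restrict j)) ∧
      Module.Finite (U.presheaf.stalk y) ((stalkSh U y).obj (M.restrict j))) :
    Module.Free (X.presheaf.stalk (j y)) ((stalkSh X (j y)).obj M) ∧
      Module.Finite (X.presheaf.stalk (j y)) ((stalkSh X (j y)).obj M) := by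
  have e2 : (stalkSh U y).obj (M.restrict j) ≅
      (ModuleCat.extendScalars.{u, u, u} (j.stalkMap y).hom).obj ((stalkSh X (j y)).obj M) :=
    (stalkSh U y).mapIso ((Scheme.Modules.restrictFunctorIsoPullback j).app M) ≪≫
      (stalkPullbackIso j y).app M
  have hbij : Function.Bijective (j.stalkMap y).hom :=
    (ConcreteCategory.isIso_iff_bijective _).1 inferInstance
  refine free_finite_of_extendScalars _ hbij _ ?_
  haveI := h.1
  haveI := h.2
  exact ⟨Module.Free.of_equiv e2.toLinearEquiv, Module.Finite.equiv e2.toLinearEquiv⟩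

/-- the stalks of a finite locally free module are finite free -/
theorem free_finite_stalk_of_isFinLocFree (M : X.Modules) (hM : FlatMod.IsFinLocFree M) (x : X) :
    Module.Free (X.presheaf.stalk x) ((stalkSh X x).obj M) ∧
      Module.Finite (X.presheaf.stalk x) ((stalkSh X x).obj M) := by
  obtain ⟨U, n, hxU, ⟨e⟩⟩ := hM x
  let x' : (U : Scheme.{u}) := ⟨x, hxU⟩
  have h1 := free_finite_stalk_freeMod (U : Scheme.{u}) x' n
  have e1 := ((stalkSh (U : Scheme.{u}) x').mapIso e).toLinearEquiv
  haveI := h1.1
  haveI := h1.2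
  exact free_finite_of_restrict U.ι M x'
    ⟨Module.Free.of_equiv e1.symm, Module.Finite.equiv e1.symm⟩

/-- (A): if `M|_W` is finite locally free then the stalks of `M` at points of `W` are finite
free -/
theorem free_finite_stalk_of_restrict (M : X.Modules) (W : X.Opens)
    (hM : FlatMod.IsFinLocFree (M.restrict W.ι)) (x : X) (hx : x ∈ W) :
    Module.Free (X.presheaf.stalk x) ((stalkSh X x).obj M) ∧
      Module.Finite (X.presheaf.stalk x) ((stalkSh X x).obj M) :=
  free_finite_of_restrict W.ι M ⟨x, hx⟩ (free_finite_stalk_of_isFinLocFree _ hM ⟨x, hx⟩)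

end Groth.Agent.Lib.Helper5.StalkFree
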