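import Mathlib
import Groth.Prelude.Def_DCoh2
import Groth.Agent.Lib.Helper5.Perf.LocalCoh
import Groth.Agent.Lib.Helper5.Stalk.FlatPull

/-!
# Cohomology sheaves of perfect and pseudo-coherent complexes (helper5)
-/
set_option autoImplicit false
set_option linter.style.haveILetI false
universe u
open CategoryTheory CategoryTheory.Limits AlgebraicGeometry Opposite TopologicalSpace
attribute [local instance] HasDerivedCategory.standard

namespace Groth.Agent.Lib.Helper5.PerfCoh

open Groth.Agent.Lib.Helper5.LocalCoh Groth.Agent.Lib.Helper5.StalkAdj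

variable {X : Scheme.{u}}

/-- cohomology sheaves commute with restriction to an open subscheme -/
noncomputable def hdRestrictIso (F : CochainComplex X.Modules ℤ) (V : X.Opens) (i : ℤ) :
    (DCoh.HD (DCoh.toD X F) i).restrict V.ι ≅ ((DCoh.restrictCx V).obj F).homology i :=
  (Scheme.Modules.restrictFunctor V.ι).mapIso
      ((DerivedCategory.homologyFunctorFactors X.Modules i).app F) ≪≫
    (ShortComplex.mapHomologyIso (F.sc i) (Scheme.Modules.restrictFunctor V.ι)).symm

/-- `H^i(E)|_V ≅ H^i(G)` when `E ≅ Q F` and `G ≅ Q (F|_V)` -/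
noncomputable def hdLocalIso (E : DCoh.D X) (F : CochainComplex X.Modules ℤ)
    (e : DCoh.toD X F ≅ E) (V : X.Opens) (i : ℤ) :
    (DCoh.HD E i).restrict V.ι ≅
      DCoh.HD (DerivedCategory.Q.obj ((DCoh.restrictCx V).obj F)) i :=
  (Scheme.Modules.restrictFunctor V.ι).mapIso
      ((DerivedCategory.homologyFunctor X.Modules i).mapIso e.symm) ≪≫
    hdRestrictIso F V i ≪≫
    ((DerivedCategory.homologyFunctorFactors _ i).app ((DCoh.restrictCx V).obj F)).symm

/-- `H^i(E)|_V ≅ H^i(P)` when `E ≅ Q F` and `Q (F|_V) ≅ Q P` -/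
noncomputable def hdModelIso (E : DCoh.D X) (F : CochainComplex X.Modules ℤ)
    (e : DCoh.toD X F ≅ E) (V : X.Opens) (P : CochainComplex (V : Scheme.{u}).Modules ℤ)
    (e₁ : DerivedCategory.Q.obj ((DCoh.restrictCx V).obj F) ≅ DerivedCategory.Q.obj P) (i : ℤ) :
    (DCoh.HD E i).restrict V.ι ≅ P.homology i :=
  hdLocalIso E F e V i ≪≫ (DerivedCategory.homologyFunctor _ i).mapIso e₁ ≪≫
    (DerivedCategory.homologyFunctorFactors _ i).app P

/-- the cohomology sheaves of a strictly perfect complex on a locally noetherian scheme are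
coherent -/
theorem isCoh_homology_of_isStrictlyPerfect [IsLocallyNoetherian X]
    (P : CochainComplex X.Modules ℤ) (hP : DCoh.IsStrictlyPerfect P) (i : ℤ) :
    Coh.IsCoh (P.homology i) :=
  isCoh_homology (P.sc i) (isCoh_of_isFinLocFree _ (hP.2 _)) (isCoh_of_isFinLocFree _ (hP.2 _))
    (isCoh_of_isFinLocFree _ (hP.2 _))

/-- the cohomology sheaves of a strictly perfect complex are quasi-coherent -/
theorem isQCoh_homology_of_isStrictlyPerfect
    (P : CochainComplex X.Modules ℤ) (hP : DCoh.IsStrictlyPerfect P) (i : ℤ) :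
    (P.homology i).IsQuasicoherent :=
  isQCoh_homology (P.sc i) (isCoh_of_isFinLocFree _ (hP.2 _)).1
    (isCoh_of_isFinLocFree _ (hP.2 _)).1 (isCoh_of_isFinLocFree _ (hP.2 _)).1

/-- a perfect object on a locally noetherian scheme has coherent cohomology sheaves -/
theorem isCohD_of_isPerfect [IsLocallyNoetherian X] (E : DCoh.D X) (hE : DCoh.IsPerfect E) :
    DCoh.IsCohD E := by
  intro i
  let F : CochainComplex X.Modules ℤ := DerivedCategory.Q.objPreimage E
  have e₀ : DCoh.toD X F ≅ E := DerivedCategory.Q.objObjPreimageIso E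
  apply isCoh_of_locally
  intro x
  obtain ⟨V, hxV, hV⟩ := hE x
  obtain ⟨P, hP, ⟨e₁⟩⟩ := hV F ⟨e₀⟩
  exact ⟨V, hxV, isCoh_of_iso (hdModelIso E F e₀ V P e₁ i).symm
    (isCoh_homology_of_isStrictlyPerfect P hP i)⟩

/-- a perfect object on a quasi-compact scheme is bounded -/
theorem bounded_of_isPerfect [CompactSpace X] (E : DCoh.D X) (hE : DCoh.IsPerfect E) :
    ∃ a b : ℤ, E.IsGE a ∧ E.IsLE b := by
  classical
  let F : CochainComplex X.Modules ℤ := DerivedCategory.Q.objPreimage E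
  have e₀ : DCoh.toD X F ≅ E := DerivedCategory.Q.objObjPreimageIso E
  have key : ∀ x : X, ∃ (V : X.Opens) (a b : ℤ), x ∈ V ∧
      ∀ i : ℤ, i < a ∨ b < i → IsZero ((DCoh.HD E i).restrict V.ι) := by
    intro x
    obtain ⟨V, hxV, hV⟩ := hE x
    obtain ⟨P, ⟨⟨a, b, hab⟩, -⟩, ⟨e₁⟩⟩ := hV F ⟨e₀⟩
    refine ⟨V, a, b, hxV, fun i hi => ?_⟩
    refine IsZero.of_iso ?_ (hdModelIso E F e₀ V P e₁ i)
    exact ShortComplex.isZero_homology_of_isZero_X₂ _ (hab i hi)
  choose V a b hxV hV using key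
  obtain ⟨s, hs⟩ := CompactSpace.elim_nhds_subcover (fun x => (V x : Set X))
    (fun x => (V x).isOpen.mem_nhds (hxV x))
  obtain ⟨b₀, hb₀⟩ := Finset.exists_le (s.image b)
  obtain ⟨a₁, ha₁⟩ := Finset.exists_le (s.image (fun x => - a x))
  have hz : ∀ i : ℤ, i < -a₁ ∨ b₀ < i → IsZero (DCoh.HD E i) := by
    intro i hi
    apply isZero_of_locally
    intro y
    have hy : y ∈ ⋃ x ∈ s, (V x : Set X) := by
      rw [hs]
      trivial
    simp only [Set.mem_iUnion] at hy
    obtain ⟨x, hxs, hyV⟩ := hy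
    have h1 : b x ≤ b₀ := hb₀ _ (Finset.mem_image_of_mem b hxs)
    have h2 : - a x ≤ a₁ := ha₁ _ (Finset.mem_image_of_mem (fun x => - a x) hxs)
    exact ⟨V x, hyV, hV x i (by omega)⟩
  refine ⟨-a₁, b₀, ?_, ?_⟩
  · rw [DerivedCategory.isGE_iff]
    exact fun i hi => hz i (Or.inl hi)
  · rw [DerivedCategory.isLE_iff]
    exact fun i hi => hz i (Or.inr hi)

/-- the cohomology sheaves of an `m`-pseudo-coherent object are quasi-coherent in degrees `> m`,
and locally a quotient of a quasi-coherent module in degree `m` -/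
theorem qcoh_of_isPseudoCoherentD (m : ℤ) (E : DCoh.D X) (hE : DCoh.IsPseudoCoherentD m E) :
    (∀ i : ℤ, m < i → Coh.IsQCoh (DCoh.HD E i)) ∧
      ∀ x : X, ∃ (V : X.Opens) (Q : (V : Scheme.{u}).Modules)
        (π : Q ⟶ (Scheme.Modules.restrictFunctor V.ι).obj (DCoh.HD E m)),
          x ∈ V ∧ Coh.IsQCoh Q ∧ Epi π := by
  let F : CochainComplex X.Modules ℤ := DerivedCategory.Q.objPreimage E
  have e₀ : DCoh.toD X F ≅ E := DerivedCategory.Q.objObjPreimageIso E
  constructor
  · intro i hi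
    apply isQuasicoherent_of_locally
    intro x
    obtain ⟨V, hxV, hV⟩ := hE x
    obtain ⟨E₁, α, hE₁, hαiso, -⟩ := hV F ⟨e₀⟩
    haveI := hαiso i hi
    have e : (DCoh.HD E i).restrict V.ι ≅ E₁.homology i :=
      hdLocalIso E F e₀ V i ≪≫ (asIso ((DerivedCategory.homologyFunctor _ i).map α)).symm ≪≫
        (DerivedCategory.homologyFunctorFactors _ i).app E₁
    haveI := isQCoh_homology_of_isStrictlyPerfect E₁ hE₁ i
    exact ⟨V, hxV, Groth.Agent.Helper1.QcAbel.isQuasicoherent_of_iso e.symm⟩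
  · intro x
    obtain ⟨V, hxV, hV⟩ := hE x
    obtain ⟨E₁, α, hE₁, -, hαepi⟩ := hV F ⟨e₀⟩
    haveI := hαepi
    refine ⟨V, E₁.homology m,
      ((DerivedCategory.homologyFunctorFactors _ m).app E₁).inv ≫
        (DerivedCategory.homologyFunctor _ m).map α ≫ (hdLocalIso E F e₀ V m).inv,
      hxV, isQCoh_homology_of_isStrictlyPerfect E₁ hE₁ m, ?_⟩
    infer_instance

end Groth.Agent.Lib.Helper5.PerfCoh
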