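import Mathlib
import Groth.Prelude.Def_DCoh2
import Groth.Agent.Lib.Lead.FLF1

/-!
# The mapping cone of strictly perfect complexes is strictly perfect (helper5)
-/
set_option autoImplicit false
set_option linter.unusedSectionVars false
set_option linter.unusedVariables false
set_option linter.style.haveILetI false
universe u
open CategoryTheory CategoryTheory.Limits HomologicalComplex AlgebraicGeometry

namespace Groth.Agent.Lib.Helper5.ConePerf

open Groth.Agent.Lead.FLF Scheme.Modules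

variable {X : Scheme.{u}}

/-- `O^{n₁} ⨿ O^{n₂} ≅ O^{n₁+n₂}` -/
noncomputable def freeAddIso (n₁ n₂ : ℕ) :
    FlatMod.freeMod X n₁ ⨿ FlatMod.freeMod X n₂ ≅ FlatMod.freeMod X (n₁ + n₂) where
  hom := coprod.desc
    (Sigma.desc fun i => Sigma.ι (fun _ : Fin (n₁ + n₂) => Coh.structureModule X) (Fin.castAdd n₂ i))
    (Sigma.desc fun j => Sigma.ι (fun _ : Fin (n₁ + n₂) => Coh.structureModule X) (Fin.natAdd n₁ j))
  inv := Sigma.desc fun k => Fin.addCases
    (fun i => Sigma.ι (fun _ : Fin n₁ => Coh.structureModule X) i ≫ coprod.inl)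
    (fun j => Sigma.ι (fun _ : Fin n₂ => Coh.structureModule X) j ≫ coprod.inr) k
  hom_inv_id := by
    apply coprod.hom_ext
    · apply Sigma.hom_ext
      intro i
      rw [coprod.inl_desc_assoc]
      simp
    · apply Sigma.hom_ext
      intro i
      rw [coprod.inr_desc_assoc]
      simp
  inv_hom_id := by
    apply Sigma.hom_ext
    intro k
    refine Fin.addCases (fun i => ?_) (fun j => ?_) k
    · rw [Sigma.ι_desc_assoc, Fin.addCases_left, Category.assoc, coprod.inl_desc, Sigma.ι_desc]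
      simp
    · rw [Sigma.ι_desc_assoc, Fin.addCases_right, Category.assoc, coprod.inr_desc, Sigma.ι_desc]
      simp

theorem isFinLocFree_biprod (M N : X.Modules) (hM : FlatMod.IsFinLocFree M)
    (hN : FlatMod.IsFinLocFree N) : FlatMod.IsFinLocFree (M ⊞ N) := by
  intro x
  obtain ⟨U₁, n₁, hx₁, ⟨e₁⟩⟩ := hM x
  obtain ⟨U₂, n₂, hx₂, ⟨e₂⟩⟩ := hN x
  refine ⟨U₁ ⊓ U₂, n₁ + n₂, ⟨hx₁, hx₂⟩, ⟨?_⟩⟩
  have e₁' : M.restrict (U₁ ⊓ U₂).ι ≅ FlatMod.freeMod _ n₁ :=
    freeOfComp (X.homOfLE inf_le_left) U₁.ι (U₁ ⊓ U₂).ι (X.homOfLE_ι _) M n₁ e₁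
  have e₂' : N.restrict (U₁ ⊓ U₂).ι ≅ FlatMod.freeMod _ n₂ :=
    freeOfComp (X.homOfLE inf_le_right) U₂.ι (U₁ ⊓ U₂).ι (X.homOfLE_ι _) N n₂ e₂
  haveI : PreservesBinaryBiproduct M N (restrictFunctor (U₁ ⊓ U₂).ι) :=
    preservesBinaryBiproduct_of_preservesBinaryCoproduct _
  exact (restrictFunctor (U₁ ⊓ U₂).ι).mapBiprod M N ≪≫ biprod.mapIso e₁' e₂' ≪≫
    biprod.isoCoprod _ _ ≪≫ freeAddIso n₁ n₂

theorem isStrictlyPerfect_mappingCone {E F : CochainComplex X.Modules ℤ} (φ : E ⟶ F)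
    (hE : DCoh.IsStrictlyPerfect E) (hF : DCoh.IsStrictlyPerfect F) :
    DCoh.IsStrictlyPerfect (CochainComplex.mappingCone φ) := by
  obtain ⟨⟨a₁, b₁, h₁⟩, hEf⟩ := hE
  obtain ⟨⟨a₂, b₂, h₂⟩, hFf⟩ := hF
  have e : ∀ n : ℤ, (CochainComplex.mappingCone φ).X n ≅ F.X n ⊞ E.X (n + 1) := fun n =>
    (CochainComplex.mappingCone.triangleRotateShortComplexSplitting φ n).isoBinaryBiproduct
  refine ⟨⟨min (a₁ - 1) a₂, max (b₁ - 1) b₂, fun i hi => ?_⟩, fun i => ?_⟩
  · refine IsZero.of_iso ?_ (e i)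
    have hE0 : IsZero (E.X (i + 1)) := by
      apply h₁
      rcases hi with hi | hi
      · left; have := min_le_left (a₁ - 1) a₂; omega
      · right; have := le_max_left (b₁ - 1) b₂; omega
    have hF0 : IsZero (F.X i) := by
      apply h₂
      rcases hi with hi | hi
      · left; have := min_le_right (a₁ - 1) a₂; omega
      · right; have := le_max_right (b₁ - 1) b₂; omega
    rw [IsZero.iff_id_eq_zero]
    apply biprod.hom_ext
    · exact hF0.eq_of_tgt _ _
    · exact hE0.eq_of_tgt _ _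
  · exact isFinLocFree_of_iso (e i).symm (isFinLocFree_biprod _ _ (hFf i) (hEf (i + 1)))

end Groth.Agent.Lib.Helper5.ConePerf
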