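import Mathlib
import Groth.Prelude.Def_DCoh2
import Groth.Prelude.Def_FlatMod2
import Groth.Agent.Lib.Helper5.Perf.Shrink

/-!
# Local lifting of maps from finite locally free modules through epimorphisms (helper5)
-/
set_option autoImplicit false
set_option linter.style.haveILetI false
universe u
open CategoryTheory CategoryTheory.Limits AlgebraicGeometry Opposite TopologicalSpace

namespace Groth.Agent.Lib.Helper5.LocLift

variable {Z : Scheme.{u}}

/-- sections of the target of an epimorphism lift locally -/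
theorem exists_local_lift {M N : Z.Modules} (f : M ⟶ N) [Epi f] (U : Z.Opens) (s : Γ(N, U))
    (z : Z) (hz : z ∈ U) :
    ∃ (V : Z.Opens) (hVU : V ≤ U) (t : Γ(M, V)), z ∈ V ∧
      f.app V t = N.presheaf.map (homOfLE hVU).op s := by
  haveI : PreservesColimitsOfSize.{0, 0} (SheafOfModules.toSheaf.{u} Z.ringCatSheaf) :=
    preservesColimitsOfSize_shrink.{0, u, 0, u} _
  haveI : (SheafOfModules.toSheaf.{u} Z.ringCatSheaf).PreservesEpimorphisms :=
    preservesEpimorphisms_of_preservesColimitsOfShape _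
  have h1 : Epi ((SheafOfModules.toSheaf Z.ringCatSheaf).map f) :=
    @Functor.map_epi _ _ _ _ (SheafOfModules.toSheaf.{u} Z.ringCatSheaf) _ _ _ f ‹Epi f›
  have hls : Sheaf.IsLocallySurjective ((SheafOfModules.toSheaf Z.ringCatSheaf).map f) :=
    (Sheaf.isLocallySurjective_iff_epi' (φ := (SheafOfModules.toSheaf Z.ringCatSheaf).map f)).2 h1
  have hmem := Presheaf.imageSieve_mem (Opens.grothendieckTopology Z)
    ((SheafOfModules.toSheaf Z.ringCatSheaf).map f).hom (U := op U) s
  obtain ⟨V, g, hg, hzV⟩ := hmem z hz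
  obtain ⟨t, ht⟩ := hg
  exact ⟨V, g.le, t, hzV, ht⟩

/-- a section over `⊤` as a global section of the sheaf of modules -/
noncomputable def secOfTop (M : Z.Modules) (t : Γ(M, ⊤)) : M.sections :=
  PresheafOfModules.sectionsMk (fun U => M.val.map (homOfLE (le_top : U.unop ≤ ⊤)).op t) (by
    intro U V f
    rw [← PresheafOfModules.map_comp_apply]
    rfl)

lemma secOfTop_eval_top (M : Z.Modules) (t : Γ(M, ⊤)) :
    (secOfTop M t).1 (op ⊤) = t := by
  show M.val.map (𝟙 _) t = t
  simp

lemma sections_ext_top (M : Z.Modules) (s s' : M.sections)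
    (h : s.1 (op ⊤) = s'.1 (op ⊤)) : s = s' := by
  apply PresheafOfModules.sections_ext
  intro U
  have h1 := PresheafOfModules.sections_property s (homOfLE (le_top : U.unop ≤ ⊤)).op
  have h2 := PresheafOfModules.sections_property s' (homOfLE (le_top : U.unop ≤ ⊤)).op
  rw [← h1, ← h2, h]

/-- the map from the structure sheaf determined by a global section -/
noncomputable def homOfSection (M : Z.Modules) (t : Γ(M, ⊤)) : Coh.structureModule Z ⟶ M :=
  M.unitHomEquiv.symm (secOfTop M t)

/-- the unit section of the structure module -/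
noncomputable abbrev oneTop (Z : Scheme.{u}) : Γ(Coh.structureModule Z, ⊤) :=
  (1 : Z.ringCatSheaf.obj.obj (op ⊤))

lemma homOfSection_app (M : Z.Modules) (t : Γ(M, ⊤)) :
    (homOfSection M t).app ⊤ (oneTop Z) = t := by
  have h := SheafOfModules.unitHomEquiv_apply_coe M (homOfSection M t) (op ⊤)
  rw [homOfSection, Equiv.apply_symm_apply, secOfTop_eval_top] at h
  exact h.symm

lemma unit_hom_ext (M : Z.Modules) (g g' : Coh.structureModule Z ⟶ M)
    (h : g.app ⊤ (oneTop Z) = g'.app ⊤ (oneTop Z)) : g = g' := by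
  apply M.unitHomEquiv.injective
  apply sections_ext_top
  rw [SheafOfModules.unitHomEquiv_apply_coe, SheafOfModules.unitHomEquiv_apply_coe]
  exact h

/-- the unit section on an open, in the structure module -/
noncomputable abbrev oneOn (Z : Scheme.{u}) (U : Z.Opens) : Γ(Coh.structureModule Z, U) :=
  (1 : Z.ringCatSheaf.obj.obj (op U))

lemma restrictUnitIso_inv_one {W' : Scheme.{u}} (k : W' ⟶ Z) [IsOpenImmersion k] :
    (Scheme.Modules.restrictUnitIso k).inv.app ⊤ (oneTop W') = oneOn Z (k ''ᵁ ⊤) := by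
  have h : (Scheme.Modules.restrictUnitIso k).hom.app ⊤ (oneOn Z (k ''ᵁ ⊤)) = oneTop W' := by
    change (k.appIso ⊤).hom.hom (1 : Γ(Z, k ''ᵁ ⊤)) = 1
    exact map_one _
  rw [← h]
  have h2 : (Scheme.Modules.restrictUnitIso k).hom ≫ (Scheme.Modules.restrictUnitIso k).inv = 𝟙 _ :=
    Iso.hom_inv_id _
  have h3 := congrArg (fun g => Scheme.Modules.Hom.app g ⊤ (oneOn Z (k ''ᵁ ⊤))) h2
  exact h3

/-- naturality of a morphism of modules on sections -/
lemma app_res {M N : Z.Modules} (f : M ⟶ N) {U V : Z.Opens} (h : V ≤ U) (m : Γ(M, U)) :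
    f.app V (M.presheaf.map (homOfLE h).op m) = N.presheaf.map (homOfLE h).op (f.app U m) :=
  (ConcreteCategory.congr_hom (f.mapPresheaf.naturality (homOfLE h).op) m)

lemma oneOn_res (U V : Z.Opens) (h : V ≤ U) :
    (Coh.structureModule Z).presheaf.map (homOfLE h).op (oneOn Z U) = oneOn Z V :=
  map_one (Z.presheaf.map (homOfLE h).op).hom

/-- the coproduct inclusion into the free module -/
noncomputable abbrev freeι (Z : Scheme.{u}) (n : ℕ) (j : Fin n) :
    Coh.structureModule Z ⟶ FlatMod.freeMod Z n :=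
  Sigma.ι (fun _ : Fin n => Coh.structureModule Z) j

/-- a map from a free module to the target of an epimorphism lifts on a neighbourhood of any
point, compatibly with further restriction -/
theorem exists_lift_free {M N : Z.Modules} (π : M ⟶ N) [Epi π] (n : ℕ)
    (φ : FlatMod.freeMod Z n ⟶ N) (z : Z) :
    ∃ W : Z.Opens, z ∈ W ∧ ∀ {W' : Scheme.{u}} (k : W' ⟶ Z) [IsOpenImmersion k],
      k.opensRange ≤ W → ∃ ψ : (FlatMod.freeMod Z n).restrict k ⟶ M.restrict k,
        ψ ≫ (Scheme.Modules.restrictFunctor k).map π =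
          (Scheme.Modules.restrictFunctor k).map φ := by
  classical
  let s : Fin n → Γ(N, ⊤) := fun j => (freeι Z n j ≫ φ).app ⊤ (oneTop Z)
  choose W hW t hzW ht using fun j => exists_local_lift π ⊤ (s j) z trivial
  refine ⟨Finset.univ.inf W, ?_, ?_⟩
  · change z ∈ (↑(Finset.univ.inf W) : Set Z)
    rw [Opens.coe_finset_inf, Finset.inf_set_eq_iInter]
    simp only [Finset.mem_univ, Set.iInter_true, Set.mem_iInter, Function.comp_apply]
    exact hzW
  · intro W' k _ hk
    have hle : ∀ j, k ''ᵁ ⊤ ≤ W j := fun j => by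
      rw [Scheme.Hom.image_top_eq_opensRange]
      exact hk.trans (Finset.inf_le (Finset.mem_univ j))
    let t' : Fin n → Γ(M.restrict k, ⊤) := fun j => M.presheaf.map (homOfLE (hle j)).op (t j)
    let R := Scheme.Modules.restrictFunctor k
    let c : ∀ j : Fin n, R.obj (Coh.structureModule Z) ⟶ M.restrict k := fun j =>
      (Scheme.Modules.restrictUnitIso k).hom ≫ homOfSection (M.restrict k) (t' j)
    let e := PreservesCoproduct.iso R (fun _ : Fin n => Coh.structureModule Z)
    refine ⟨e.hom ≫ Sigma.desc c, ?_⟩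
    rw [← cancel_epi e.inv]
    simp only [Category.assoc, Iso.inv_hom_id_assoc]
    apply Sigma.hom_ext
    intro j
    rw [Sigma.ι_desc_assoc]
    have h1 : Sigma.ι (fun j : Fin n => R.obj (Coh.structureModule Z)) j ≫ e.inv =
        R.map (freeι Z n j) := by
      rw [PreservesCoproduct.inv_hom]
      exact ι_comp_sigmaComparison R _ j
    rw [reassoc_of% h1, ← R.map_comp]
    change (Scheme.Modules.restrictUnitIso k).hom ≫ homOfSection (M.restrict k) (t' j) ≫ R.map π =
      R.map (freeι Z n j ≫ φ)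
    rw [← Iso.eq_inv_comp]
    apply unit_hom_ext
    rw [Scheme.Modules.Hom.comp_app, Scheme.Modules.Hom.comp_app]
    change (R.map π).app ⊤ ((homOfSection (M.restrict k) (t' j)).app ⊤ (oneTop W')) =
      (R.map (freeι Z n j ≫ φ)).app ⊤
        ((Scheme.Modules.restrictUnitIso k).inv.app ⊤ (oneTop W'))
    rw [homOfSection_app, restrictUnitIso_inv_one]
    change π.app (k ''ᵁ ⊤) (M.presheaf.map (homOfLE (hle j)).op (t j)) =
      (freeι Z n j ≫ φ).app (k ''ᵁ ⊤) (oneOn Z (k ''ᵁ ⊤))
    rw [app_res, ht j, ← oneOn_res ⊤ (k ''ᵁ ⊤) le_top, app_res]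
    change N.presheaf.map (homOfLE (hle j)).op (N.presheaf.map (homOfLE (hW j)).op (s j)) =
      N.presheaf.map (homOfLE le_top).op (s j)
    rw [← ConcreteCategory.comp_apply, ← Functor.map_comp]
    rfl

/-- **local lifting**: a map from a finite locally free module to the target of an epimorphism
lifts over an open neighbourhood of any point -/
theorem exists_lift {X : Scheme.{u}} {P M N : X.Modules} (hP : FlatMod.IsFinLocFree P)
    (π : M ⟶ N) [Epi π] (φ : P ⟶ N) (x : X) :
    ∃ (V : Scheme.{u}) (j : V ⟶ X) (_ : IsOpenImmersion j), x ∈ Set.range j.base ∧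
      ∃ ψ : P.restrict j ⟶ M.restrict j,
        ψ ≫ (Scheme.Modules.restrictFunctor j).map π =
          (Scheme.Modules.restrictFunctor j).map φ := by
  obtain ⟨U, n, hxU, ⟨e⟩⟩ := hP x
  let RU := Scheme.Modules.restrictFunctor U.ι
  haveI : Epi (RU.map π) := inferInstance
  obtain ⟨W, hxW, hW⟩ := exists_lift_free (RU.map π) n (e.inv ≫ RU.map φ) ⟨x, hxU⟩
  obtain ⟨ψ₀, hψ₀⟩ := hW W.ι (by rw [Scheme.Opens.opensRange_ι])
  let Rk := Scheme.Modules.restrictFunctor W.ι
  let θ := Scheme.Modules.restrictFunctorComp W.ι U.ι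
  refine ⟨W, W.ι ≫ U.ι, inferInstance, ⟨⟨⟨x, hxU⟩, hxW⟩, rfl⟩, ?_⟩
  refine ⟨θ.hom.app P ≫ Rk.map e.hom ≫ ψ₀ ≫ θ.inv.app M, ?_⟩
  have hn : θ.inv.app M ≫ (Scheme.Modules.restrictFunctor (W.ι ≫ U.ι)).map π =
      Rk.map (RU.map π) ≫ θ.inv.app N := (θ.inv.naturality π).symm
  have hn2 : θ.hom.app P ≫ Rk.map (RU.map φ) =
      (Scheme.Modules.restrictFunctor (W.ι ≫ U.ι)).map φ ≫ θ.hom.app N :=
    (θ.hom.naturality φ).symm
  have h3 : Rk.map e.hom ≫ Rk.map (e.inv ≫ RU.map φ) = Rk.map (RU.map φ) := by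
    rw [← Functor.map_comp, Iso.hom_inv_id_assoc]
  simp only [Category.assoc]
  rw [hn, reassoc_of% hψ₀, reassoc_of% h3, reassoc_of% hn2, Iso.hom_inv_id_app, Category.comp_id]

end Groth.Agent.Lib.Helper5.LocLift
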