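import Mathlib
import Groth.Prelude.Def_DCoh2
import Groth.Agent.Lib.Helper5.Perf.LocLift

/-!
# Maps from strictly perfect complexes to acyclic complexes are locally null-homotopic (helper5)
-/
set_option autoImplicit false
set_option linter.style.haveILetI false
universe u
open CategoryTheory CategoryTheory.Limits AlgebraicGeometry Opposite TopologicalSpace

namespace Groth.Agent.Lib.Helper5.LocNull

open Groth.Agent.Lib.Helper5.LocLift Groth.Agent.Lib.Helper5.StalkAdj

section General

variable {A : Type*} [Category A] [Preadditive A]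

/-- a homotopy concentrated in one degree -/
noncomputable def singleH (C D : CochainComplex A ℤ) (c' : ℤ) (ψ : C.X (c' + 1) ⟶ D.X c') :
    ∀ i j, (ComplexShape.up ℤ).Rel j i → (C.X i ⟶ D.X j) :=
  fun i j hij => if h : i = c' + 1 then
    eqToHom (by rw [h]) ≫ ψ ≫ eqToHom (by
      have : j = c' := by
        have h1 : j + 1 = i := hij
        omega
      rw [this])
  else 0

lemma singleH_self (C D : CochainComplex A ℤ) (c' : ℤ) (ψ : C.X (c' + 1) ⟶ D.X c')
    (r : (ComplexShape.up ℤ).Rel c' (c' + 1)) : singleH C D c' ψ (c' + 1) c' r = ψ := by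
  simp [singleH]

lemma singleH_ne (C D : CochainComplex A ℤ) (c' : ℤ) (ψ : C.X (c' + 1) ⟶ D.X c')
    (i j : ℤ) (r : (ComplexShape.up ℤ).Rel j i) (hi : i ≠ c' + 1) : singleH C D c' ψ i j r = 0 := by
  simp [singleH, hi]

/-- the null-homotopic map attached to a one-degree homotopy -/
noncomputable abbrev singleMap (C D : CochainComplex A ℤ) (c' : ℤ) (ψ : C.X (c' + 1) ⟶ D.X c') :
    C ⟶ D := Homotopy.nullHomotopicMap' (singleH C D c' ψ)

lemma singleMap_f_self (C D : CochainComplex A ℤ) (c' : ℤ) (ψ : C.X (c' + 1) ⟶ D.X c') :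
    (singleMap C D c' ψ).f (c' + 1) = ψ ≫ D.d c' (c' + 1) := by
  rw [Homotopy.nullHomotopicMap'_f (k₂ := c') (k₁ := c' + 1) (k₀ := c' + 1 + 1) rfl rfl,
    singleH_self, singleH_ne _ _ _ _ _ _ _ (by omega), comp_zero, zero_add]

lemma singleMap_f_gt (C D : CochainComplex A ℤ) (c' : ℤ) (ψ : C.X (c' + 1) ⟶ D.X c') (i : ℤ)
    (hi : c' + 1 < i) : (singleMap C D c' ψ).f i = 0 := by
  rw [Homotopy.nullHomotopicMap'_f (k₂ := i - 1) (k₁ := i) (k₀ := i + 1)
      (show (ComplexShape.up ℤ).Rel (i - 1) i by simp) rfl,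
    singleH_ne _ _ _ _ _ _ _ (by omega), singleH_ne _ _ _ _ _ _ _ (by omega), comp_zero, zero_comp,
    zero_add]

end General

section Transport

variable {A B : Type*} [Category A] [Preadditive A] [Category B] [Preadditive B]

/-- null-homotopies transport along natural isomorphisms of functors -/
noncomputable def homotopyOfNatIso {F G : A ⥤ B} [F.Additive] [G.Additive] (θ : F ≅ G)
    {K L : CochainComplex A ℤ} (α : K ⟶ L)
    (h : Homotopy ((G.mapHomologicalComplex (ComplexShape.up ℤ)).map α) 0) :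
    Homotopy ((F.mapHomologicalComplex (ComplexShape.up ℤ)).map α) 0 := by
  let Θ := NatIso.mapHomologicalComplex θ (ComplexShape.up ℤ)
  have h1 : (F.mapHomologicalComplex (ComplexShape.up ℤ)).map α =
      Θ.hom.app K ≫ (G.mapHomologicalComplex (ComplexShape.up ℤ)).map α ≫ Θ.inv.app L := by
    rw [← Θ.hom.naturality_assoc, Iso.hom_inv_id_app, Category.comp_id]
  refine (Homotopy.ofEq h1).trans (((h.compRight (Θ.inv.app L)).compLeft (Θ.hom.app K)).trans
    (Homotopy.ofEq ?_))
  simp

end Transport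

variable {X : Scheme.{u}}

/-- restriction of a finite locally free module along an open immersion -/
theorem isFinLocFree_restrict {V : Scheme.{u}} (j : V ⟶ X) [IsOpenImmersion j] (P : X.Modules)
    (hP : FlatMod.IsFinLocFree P) : FlatMod.IsFinLocFree (P.restrict j) := by
  have h := Groth.Agent.Lib.Helper5.PerfPull.isFinLocFree_pullback j P hP
  intro x
  obtain ⟨U, n, hxU, ⟨e⟩⟩ := h x
  exact ⟨U, n, hxU, ⟨(Scheme.Modules.restrictFunctor U.ι).mapIso
    ((Scheme.Modules.restrictFunctorIsoPullback j).app P) ≪≫ e⟩⟩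

/-- restriction along an open immersion, on complexes -/
noncomputable abbrev RCx {V : Scheme.{u}} (j : V ⟶ X) [IsOpenImmersion j] :
    CochainComplex X.Modules ℤ ⥤ CochainComplex V.Modules ℤ :=
  (Scheme.Modules.restrictFunctor j).mapHomologicalComplex (ComplexShape.up ℤ)

/-- lifting a cocycle-valued map through the differential, locally -/
theorem exists_lift_d (F : CochainComplex X.Modules ℤ) (c' : ℤ) (hF : F.ExactAt (c' + 1))
    {P : X.Modules} (hP : FlatMod.IsFinLocFree P) (φ : P ⟶ F.X (c' + 1))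
    (hφ : φ ≫ F.d (c' + 1) (c' + 1 + 1) = 0) (x : X) :
    ∃ (V : Scheme.{u}) (j : V ⟶ X) (_ : IsOpenImmersion j), x ∈ Set.range j.base ∧
      ∃ ψ : P.restrict j ⟶ (F.X c').restrict j,
        ψ ≫ (Scheme.Modules.restrictFunctor j).map (F.d c' (c' + 1)) =
          (Scheme.Modules.restrictFunctor j).map φ := by
  have hex : (F.sc' c' (c' + 1) (c' + 1 + 1)).Exact :=
    (F.exactAt_iff' c' (c' + 1) (c' + 1 + 1) (by simp) (by simp)).1 hF
  haveI : Epi (F.sc' c' (c' + 1) (c' + 1 + 1)).toCycles := hex.epi_toCycles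
  let S := F.sc' c' (c' + 1) (c' + 1 + 1)
  let φ' : P ⟶ S.cycles := S.liftCycles φ hφ
  obtain ⟨V, j, hj, hx, ψ, hψ⟩ := exists_lift hP S.toCycles φ' x
  refine ⟨V, j, hj, hx, ψ, ?_⟩
  have h1 : S.toCycles ≫ S.iCycles = F.d c' (c' + 1) := S.toCycles_i
  have h2 : φ' ≫ S.iCycles = φ := S.liftCycles_i φ hφ
  let R := Scheme.Modules.restrictFunctor j
  have h1' : R.map S.toCycles ≫ R.map S.iCycles = R.map (F.d c' (c' + 1)) :=
    (R.map_comp S.toCycles S.iCycles).symm.trans (congrArg R.map h1)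
  have h2' : R.map φ' ≫ R.map S.iCycles = R.map φ :=
    (R.map_comp φ' S.iCycles).symm.trans (congrArg R.map h2)
  have hψ' : ψ ≫ R.map S.toCycles = R.map φ' := hψ
  have e1 : ψ ≫ R.map (F.d c' (c' + 1)) = ψ ≫ (R.map S.toCycles ≫ R.map S.iCycles) :=
    congrArg (ψ ≫ ·) h1'.symm
  have e2 : ψ ≫ (R.map S.toCycles ≫ R.map S.iCycles) =
      (ψ ≫ R.map S.toCycles) ≫ R.map S.iCycles := (Category.assoc _ _ _).symm
  have e3 : (ψ ≫ R.map S.toCycles) ≫ R.map S.iCycles = R.map φ' ≫ R.map S.iCycles :=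
    congrArg (· ≫ R.map S.iCycles) hψ'
  exact e1.trans (e2.trans (e3.trans h2'))

theorem exactAt_map {A B : Type*} [Category A] [Category B] [Abelian A] [Abelian B]
    (G : A ⥤ B) [G.Additive] [PreservesFiniteLimits G] [PreservesFiniteColimits G]
    (K : CochainComplex A ℤ) (i : ℤ) (h : K.ExactAt i) :
    ((G.mapHomologicalComplex (ComplexShape.up ℤ)).obj K).ExactAt i := by
  rw [HomologicalComplex.exactAt_iff] at h ⊢
  exact h.map G

/-- the inductive statement: a chain map from a complex of finite locally free modules, zero below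
degree `a` and vanishing in degrees `≥ a + n`, to a complex exact in degrees `≥ a`, is locally
null-homotopic -/
theorem exists_nullHomotopy_aux (n : ℕ) : ∀ {X : Scheme.{u}} (E F : CochainComplex X.Modules ℤ)
    (α : E ⟶ F) (_ : ∀ i, FlatMod.IsFinLocFree (E.X i)) (a : ℤ)
    (_ : ∀ i : ℤ, i < a → IsZero (E.X i)) (_ : ∀ i : ℤ, a + n ≤ i → α.f i = 0)
    (_ : ∀ i : ℤ, a ≤ i → F.ExactAt i) (x : X),
    ∃ (V : Scheme.{u}) (j : V ⟶ X) (_ : IsOpenImmersion j), x ∈ Set.range j.base ∧
      Nonempty (Homotopy ((RCx j).map α) 0) := by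
  induction n with
  | zero =>
    intro X E F α hE a hEa hα hF x
    have h0 : α = 0 := by
      apply HomologicalComplex.hom_ext
      intro i
      by_cases hi : a ≤ i
      · exact hα i (by simpa using hi)
      · exact (hEa i (by omega)).eq_of_src _ _
    refine ⟨X, 𝟙 X, inferInstance, ⟨x, rfl⟩, ⟨Homotopy.ofEq ?_⟩⟩
    rw [h0, Functor.map_zero]
  | succ n ih =>
    intro X E F α hE a hEa hα hF x
    let c' : ℤ := a + n - 1
    have hc : c' + 1 = a + n := by omega
    have hφ : α.f (c' + 1) ≫ F.d (c' + 1) (c' + 1 + 1) = 0 := by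
      rw [α.comm, hα (c' + 1 + 1) (by push_cast; omega), comp_zero]
    obtain ⟨V₁, j₁, hj₁, hx₁, ψ, hψ⟩ :=
      exists_lift_d F c' (hF _ (by omega)) (hE (c' + 1)) (α.f (c' + 1)) hφ x
    obtain ⟨x₁, rfl⟩ := hx₁
    let E' := (RCx j₁).obj E
    let F' := (RCx j₁).obj F
    let α' : E' ⟶ F' := (RCx j₁).map α
    let β : E' ⟶ F' := singleMap E' F' c' ψ
    have hα₁ : ∀ i : ℤ, a + n ≤ i → (α' - β).f i = 0 := by
      intro i hi
      rcases eq_or_lt_of_le hi with h | h
      · obtain rfl : i = c' + 1 := by omega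
        change α'.f (c' + 1) - β.f (c' + 1) = 0
        rw [singleMap_f_self]
        exact sub_eq_zero.2 hψ.symm
      · change α'.f i - β.f i = 0
        rw [singleMap_f_gt _ _ _ _ _ (by omega), sub_zero]
        change (Scheme.Modules.restrictFunctor j₁).map (α.f i) = 0
        rw [hα i (by push_cast; omega), Functor.map_zero]
    obtain ⟨V₂, j₂, hj₂, hx₂, ⟨h₂⟩⟩ := ih E' F' (α' - β)
      (fun i => isFinLocFree_restrict j₁ _ (hE i)) a
      (fun i hi => Functor.map_isZero (Scheme.Modules.restrictFunctor j₁) (hEa i hi)) hα₁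
      (fun i hi => exactAt_map (Scheme.Modules.restrictFunctor j₁) F i (hF i hi)) x₁
    refine ⟨V₂, j₂ ≫ j₁, inferInstance, ?_, ⟨?_⟩⟩
    · obtain ⟨x₂, hx₂⟩ := hx₂
      exact ⟨x₂, by rw [← hx₂]; rfl⟩
    · have hβ : Homotopy β 0 := Homotopy.nullHomotopy' _
      have h3 : Homotopy ((RCx j₂).map α') 0 := by
        have h4 : (RCx j₂).map α' = (RCx j₂).map (α' - β) + (RCx j₂).map β := by
          rw [← Functor.map_add, sub_add_cancel]
        refine (Homotopy.ofEq h4).trans ((h₂.add
          ((Scheme.Modules.restrictFunctor j₂).mapHomotopy hβ)).trans (Homotopy.ofEq ?_))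
        rw [Functor.map_zero, add_zero]
      exact homotopyOfNatIso (Scheme.Modules.restrictFunctorComp j₂ j₁) α h3

/-- from an open immersion to its range, as an open subscheme -/
theorem nonempty_homotopy_opensRange {V : Scheme.{u}} (j : V ⟶ X) [IsOpenImmersion j]
    {E F : CochainComplex X.Modules ℤ} (α : E ⟶ F) (h : Homotopy ((RCx j).map α) 0) :
    Nonempty (Homotopy ((DCoh.restrictCx j.opensRange).map α) 0) := by
  let k : (j.opensRange : Scheme.{u}) ⟶ V := j.isoOpensRange.inv
  have hk : k ≫ j = j.opensRange.ι := Scheme.Hom.isoOpensRange_inv_comp j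
  let θ : Scheme.Modules.restrictFunctor j.opensRange.ι ≅
      Scheme.Modules.restrictFunctor j ⋙ Scheme.Modules.restrictFunctor k :=
    Scheme.Modules.restrictFunctorCongr hk.symm ≪≫ Scheme.Modules.restrictFunctorComp k j
  exact ⟨homotopyOfNatIso θ α ((Scheme.Modules.restrictFunctor k).mapHomotopy h)⟩

/-- **a chain map from a strictly perfect complex, zero below degree `a`, to a complex whose
cohomology vanishes in degrees `≥ a` is locally null-homotopic** -/
theorem exists_nullHomotopy {E F : CochainComplex X.Modules ℤ} (α : E ⟶ F)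
    (hE : DCoh.IsStrictlyPerfect E) (a : ℤ) (hEa : ∀ i : ℤ, i < a → IsZero (E.X i))
    (hF : ∀ i : ℤ, a ≤ i → IsZero (F.homology i)) (x : X) :
    ∃ V : X.Opens, x ∈ V ∧ Nonempty (Homotopy ((DCoh.restrictCx V).map α) 0) := by
  obtain ⟨⟨a₀, b₀, hab⟩, hfl⟩ := hE
  have hα : ∀ i : ℤ, a + ((b₀ + 1 - a).toNat : ℕ) ≤ i → α.f i = 0 := by
    intro i hi
    have : b₀ < i := by
      have := Int.self_le_toNat (b₀ + 1 - a)
      omega
    exact (hab i (Or.inr this)).eq_of_src _ _
  obtain ⟨V, j, hj, hx, ⟨h⟩⟩ := exists_nullHomotopy_aux (b₀ + 1 - a).toNat E F α hfl a hEa hα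
    (fun i hi => (HomologicalComplex.exactAt_iff_isZero_homology _ _).2 (hF i hi)) x
  exact ⟨j.opensRange, hx, nonempty_homotopy_opensRange j α h⟩

end Groth.Agent.Lib.Helper5.LocNull
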