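import Mathlib
import Groth.Agent.Lib.Helper5.Perf.LpullPerf
import Groth.Agent.Lib.Helper5.Stalk.RightExact

/-!
# Derived pullback preserves pseudo-coherent objects (helper5)
-/
set_option autoImplicit false
set_option linter.unusedSectionVars false
set_option linter.unusedVariables false
set_option linter.style.haveILetI false
universe u
open CategoryTheory CategoryTheory.Limits HomologicalComplex AlgebraicGeometry
attribute [local instance] HasDerivedCategory.standard

namespace Groth.Agent.Lib.Helper5.LpullLib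

open Groth.Agent.Lib.Helper5.StalkAdj Groth.Agent.Lib.Helper5.KFlatSiteQ
  Groth.Agent.Lib.Helper5.PerfPull

section Cone

variable {A : Type*} [Category A] [Abelian A] [HasDerivedCategory A]

lemma isZero_homology_Q_iff (C : CochainComplex A ℤ) (i : ℤ) :
    IsZero ((DerivedCategory.homologyFunctor A i).obj (DerivedCategory.Q.obj C)) ↔ C.ExactAt i := by
  rw [HomologicalComplex.exactAt_iff_isZero_homology]
  exact Iso.isZero_iff ((DerivedCategory.homologyFunctorFactors A i).app C)

open DerivedCategory in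
/-- the cone of a chain map is exact in degrees `≥ m` iff the map induces isomorphisms on `H^i`
for `i > m` and an epimorphism on `H^m` -/
theorem coneExact_iff {K L : CochainComplex A ℤ} (g : K ⟶ L) (m : ℤ) :
    (∀ i, m ≤ i → (CochainComplex.mappingCone g).ExactAt i) ↔
      (∀ i, m < i → IsIso ((DerivedCategory.homologyFunctor A i).map (DerivedCategory.Q.map g))) ∧
        Epi ((DerivedCategory.homologyFunctor A m).map (DerivedCategory.Q.map g)) := by
  let T := DerivedCategory.Q.mapTriangle.obj (CochainComplex.mappingCone.triangle g)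
  have hT : T ∈ distTriang _ := DerivedCategory.mappingCone_triangle_distinguished g
  have hz : ∀ i, IsZero ((DerivedCategory.homologyFunctor A i).obj T.obj₃) ↔
      (CochainComplex.mappingCone g).ExactAt i := fun i =>
    isZero_homology_Q_iff (CochainComplex.mappingCone g) i
  constructor
  · intro h
    have hepi : ∀ i, m ≤ i → Epi ((DerivedCategory.homologyFunctor A i).map T.mor₁) := fun i hi =>
      (HomologySequence.epi_homologyMap_mor₁_iff T hT i).2 (((hz i).2 (h i hi)).eq_of_tgt _ _)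
    refine ⟨fun i hi => ?_, hepi m le_rfl⟩
    haveI : Epi ((DerivedCategory.homologyFunctor A i).map T.mor₁) := hepi i hi.le
    haveI : Mono ((DerivedCategory.homologyFunctor A i).map T.mor₁) :=
      (HomologySequence.mono_homologyMap_mor₁_iff T hT (i - 1) i (by omega)).2
        (((hz (i - 1)).2 (h (i - 1) (by omega))).eq_of_src _ _)
    exact isIso_of_mono_of_epi ((DerivedCategory.homologyFunctor A i).map T.mor₁)
  · rintro ⟨h1, h2⟩ i hi
    rw [← hz i]
    have hT1 : T.mor₁ = DerivedCategory.Q.map g := rfl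
    have hepi : Epi ((DerivedCategory.homologyFunctor A i).map T.mor₁) := by
      rw [hT1]
      rcases hi.lt_or_eq with h | rfl
      · exact @IsIso.epi_of_iso _ _ _ _ _ (h1 i h)
      · exact h2
    have hmono : Mono ((DerivedCategory.homologyFunctor A (i + 1)).map T.mor₁) := by
      rw [hT1]
      exact @IsIso.mono_of_iso _ _ _ _ _ (h1 (i + 1) (by omega))
    have e3 := HomologySequence.exact₃ T hT i (i + 1) rfl
    exact e3.isZero_of_both_zeros
      ((HomologySequence.epi_homologyMap_mor₁_iff T hT i).1 hepi)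
      ((HomologySequence.mono_homologyMap_mor₁_iff T hT i (i + 1) rfl).1 hmono)

lemma isIso_map_comp3 {C D : Type*} [Category C] [Category D] (H : C ⥤ D) {a b c d : C}
    (u : a ⟶ b) (w : b ⟶ c) (v : c ⟶ d) [IsIso u] [IsIso v] [IsIso (H.map w)] :
    IsIso (H.map (u ≫ w ≫ v)) := by
  rw [H.map_comp, H.map_comp]
  infer_instance

lemma epi_map_comp3 {C D : Type*} [Category C] [Category D] (H : C ⥤ D) {a b c d : C}
    (u : a ⟶ b) (w : b ⟶ c) (v : c ⟶ d) [IsIso u] [IsIso v] [Epi (H.map w)] :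
    Epi (H.map (u ≫ w ≫ v)) := by
  rw [H.map_comp, H.map_comp]
  infer_instance

end Cone

variable {X Y : Scheme.{u}} (f : X ⟶ Y)

/-- `(F')|_{f⁻¹V} ≅ (f|_V)^* (P|_V)` in the derived category, when `F'` represents `Lf^* P` -/
noncomputable def restrictLpullIso [DCoh.HasLpull f] (V : Y.Opens)
    (P : CochainComplex Y.Modules ℤ) (hP : Cell Y.sheaf P)
    (F' : CochainComplex X.Modules ℤ)
    (eF' : DCoh.toD X F' ≅ (DCoh.Lpull f).obj (DCoh.toD Y P)) :
    DCoh.toD _ ((DCoh.restrictCx (f ⁻¹ᵁ V)).obj F') ≅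
      DCoh.toD _ ((pullCx (f ∣_ V)).obj ((DCoh.restrictCx V).obj P)) :=
  ((resDIso (f ⁻¹ᵁ V) F').symm ≪≫
    (resD (f ⁻¹ᵁ V)).mapIso (eF' ≪≫ lpullObjIso f P (kft_of_cell hP)) ≪≫ resDIso (f ⁻¹ᵁ V) _) ≪≫
    DerivedCategory.Q.mapIso (restrictPullCxIso f (f ∣_ V) (morphismRestrict_ι f V) P)

theorem cell_restrictCx {X : Scheme.{u}} (U : X.Opens) {P : CochainComplex X.Modules ℤ}
    (hP : Cell X.sheaf P) : Cell (U : Scheme.{u}).sheaf ((DCoh.restrictCx U).obj P) :=
  Cell.iso ((restrictCxIsoPullCx U).app P).symm (cell_pullback U.ι hP)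

theorem isPseudoCoherentD_Lpull [DCoh.HasLpull f] (m : ℤ) (E : DCoh.D Y)
    (hE : DCoh.IsPseudoCoherentD m E) : DCoh.IsPseudoCoherentD m ((DCoh.Lpull f).obj E) := by
  intro x
  obtain ⟨V, hxV, hV⟩ := hE (f x)
  refine ⟨f ⁻¹ᵁ V, hxV, fun F' ⟨eF'⟩ => ?_⟩
  obtain ⟨P, hP, ⟨eP⟩⟩ := exists_cell_repr E
  obtain ⟨E₁, α, hE₁, hαiso, hαepi⟩ := hV P ⟨eP⟩
  let q : (↑(f ⁻¹ᵁ V) : Scheme.{u}) ⟶ ↑V := f ∣_ V
  haveI : DCoh.HasLpull q := hasLpull q
  -- a roof representing `α`
  obtain ⟨R, s, hs, g, hα⟩ := DerivedCategory.right_fac α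
  obtain ⟨R', r, hR', hr⟩ : ∃ (R' : CochainComplex (V : Scheme.{u}).Modules ℤ) (r : R' ⟶ R),
      Cell (V : Scheme.{u}).sheaf R' ∧ QuasiIso r := by
    obtain ⟨R', r, hR', hr⟩ := exists_cell_resolution (V : Scheme.{u}).sheaf R
    exact ⟨R', r, hR', hr⟩
  have hsq : QuasiIso s := (DerivedCategory.isIso_Q_map_iff_quasiIso _ s).1 hs
  let s' : R' ⟶ E₁ := r ≫ s
  let g' : R' ⟶ (DCoh.restrictCx V).obj P := r ≫ g
  haveI hs' : QuasiIso s' := inferInstance
  haveI : IsIso (DerivedCategory.Q.map s') := (DerivedCategory.isIso_Q_map_iff_quasiIso _ s').2 hs'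
  haveI : IsIso (DerivedCategory.Q.map r) := (DerivedCategory.isIso_Q_map_iff_quasiIso _ r).2 hr
  have hg' : DerivedCategory.Q.map g' = DerivedCategory.Q.map s' ≫ α := by
    rw [hα]
    simp only [s', g', Functor.map_comp, Category.assoc, IsIso.hom_inv_id_assoc]
  -- the cone of `g'` is exact in degrees `≥ m`
  have hcone : ∀ i, m ≤ i → (CochainComplex.mappingCone g').ExactAt i := by
    refine (coneExact_iff g' m).2 ⟨fun i hi => ?_, ?_⟩
    · rw [hg', Functor.map_comp]
      haveI := hαiso i hi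
      infer_instance
    · rw [hg', Functor.map_comp]
      haveI := hαepi
      infer_instance
  have hcK : KFT (CochainComplex.mappingCone g') :=
    kft_of_cell (Cell.cone g' hR' (cell_restrictCx V hP))
  have hcone' : ∀ i, m ≤ i → (CochainComplex.mappingCone ((pullCx q).map g')).ExactAt i :=
    fun i hi => (exactAt_pullCx_above q _ hcK (m - 1) (fun j hj => hcone j (by omega)) i
      (by omega)).of_iso (CochainComplex.mappingCone.mapHomologicalComplexIso g'
        (Scheme.Modules.pullback q))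
  obtain ⟨h1', h2'⟩ := (coneExact_iff ((pullCx q).map g') m).1 hcone'
  have hqs : QuasiIso ((pullCx q).map s') :=
    quasiIso_pullback_map q s' (kft_of_cell hR') (kft_of_isStrictlyPerfect E₁ hE₁) hs'
  haveI : IsIso (DerivedCategory.Q.map ((pullCx q).map s')) :=
    (DerivedCategory.isIso_Q_map_iff_quasiIso _ _).2 hqs
  have j := restrictLpullIso f V P hP F' (eF' ≪≫ (DCoh.Lpull f).mapIso eP.symm)
  refine ⟨(pullCx q).obj E₁,
    inv (DerivedCategory.Q.map ((pullCx q).map s')) ≫ DerivedCategory.Q.map ((pullCx q).map g') ≫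
      j.inv, isStrictlyPerfect_pullback q E₁ hE₁, fun i hi => ?_, ?_⟩
  · haveI := h1' i hi
    exact isIso_map_comp3 _ _ _ _
  · haveI := h2'
    exact epi_map_comp3 _ _ _ _

end Groth.Agent.Lib.Helper5.LpullLib
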