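import Mathlib
import Groth.Prelude.Def_DCoh2
import Groth.Agent.Lib.Helper5.Perf.LocNull
import Groth.Agent.Lib.Helper5.Perf.LpullPC

/-!
# Local lifting of maps from strictly perfect complexes through quasi-isomorphisms (helper5)
-/
set_option autoImplicit false
set_option linter.style.haveILetI false
universe u
open CategoryTheory CategoryTheory.Limits AlgebraicGeometry Opposite TopologicalSpace
attribute [local instance] HasDerivedCategory.standard

namespace Groth.Agent.Lib.Helper5.LocQis

open Groth.Agent.Lib.Helper5.LocNull Groth.Agent.Lib.Helper5.StalkAdj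

section General

variable {A : Type*} [Category A] [Abelian A]

/-- a map whose composite to the cone is null-homotopic lifts up to homotopy -/
theorem exists_lift_of_nullHomotopic_inr {K G F : CochainComplex A ℤ} (f : G ⟶ F) (α : K ⟶ F)
    (h : Homotopy (α ≫ CochainComplex.mappingCone.inr f) 0) :
    ∃ β : K ⟶ G, Nonempty (Homotopy (β ≫ f) α) := by
  let T := CochainComplex.mappingCone.triangleh f
  have hT : T ∈ distTriang (HomotopyCategory A (ComplexShape.up ℤ)) :=
    HomotopyCategory.mappingCone_triangleh_distinguished f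
  let g : (HomotopyCategory.quotient A (ComplexShape.up ℤ)).obj K ⟶ T.obj₂ :=
    (HomotopyCategory.quotient A (ComplexShape.up ℤ)).map α
  have hg : g ≫ T.mor₂ = 0 := by
    change (HomotopyCategory.quotient A (ComplexShape.up ℤ)).map α ≫
      (HomotopyCategory.quotient A (ComplexShape.up ℤ)).map (CochainComplex.mappingCone.inr f) = 0
    rw [← Functor.map_comp, HomotopyCategory.eq_of_homotopy _ _ h, Functor.map_zero]
  obtain ⟨γ, hγ⟩ := Pretriangulated.Triangle.coyoneda_exact₂ T hT g hg
  obtain ⟨β, rfl⟩ := (HomotopyCategory.quotient A (ComplexShape.up ℤ)).map_surjective γ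
  refine ⟨β, ⟨HomotopyCategory.homotopyOfEq _ _ ?_⟩⟩
  rw [Functor.map_comp]
  exact hγ.symm

end General

section Cone

variable {A : Type*} [Category A] [Abelian A] [HasDerivedCategory A]

/-- the cone of a chain map inducing isomorphisms on `H^j`, `j > a`, and an epimorphism on `H^a`
is exact in degrees `≥ a` (complex-level hypotheses) -/
theorem cone_exactAt {G F : CochainComplex A ℤ} (f : G ⟶ F) (a : ℤ)
    (hf : ∀ j : ℤ, a < j → IsIso (HomologicalComplex.homologyMap f j))
    (hfa : Epi (HomologicalComplex.homologyMap f a)) (i : ℤ) (hi : a ≤ i) :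
    (CochainComplex.mappingCone f).ExactAt i := by
  refine (Groth.Agent.Lib.Helper5.LpullLib.coneExact_iff f a).2 ⟨fun j hj => ?_, ?_⟩ i hi
  · exact (NatIso.isIso_map_iff (DerivedCategory.homologyFunctorFactors A j) f).2 (hf j hj)
  · let e := DerivedCategory.homologyFunctorFactors A a
    haveI : Epi ((HomologicalComplex.homologyFunctor A (ComplexShape.up ℤ) a).map f) := hfa
    have h1 : (DerivedCategory.homologyFunctor A a).map (DerivedCategory.Q.map f) =
        e.hom.app G ≫ (HomologicalComplex.homologyFunctor A (ComplexShape.up ℤ) a).map f ≫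
          e.inv.app F := by
      have := e.hom.naturality f
      rw [← reassoc_of% this, Iso.hom_inv_id_app]
      exact (Category.comp_id _).symm
    rw [h1]
    infer_instance

end Cone

variable {X : Scheme.{u}}

/-- **local lifting through a map which is a quasi-isomorphism in high degrees** -/
theorem exists_local_lift_qis {E F G : CochainComplex X.Modules ℤ}
    (α : E ⟶ F) (f : G ⟶ F) (hE : DCoh.IsStrictlyPerfect E) (a : ℤ)
    (hEa : ∀ j : ℤ, j < a → IsZero (E.X j))
    (hf : ∀ j : ℤ, a < j → IsIso (HomologicalComplex.homologyMap f j))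
    (hfa : Epi (HomologicalComplex.homologyMap f a)) (x : X) :
    ∃ (V : X.Opens) (β : (DCoh.restrictCx V).obj E ⟶ (DCoh.restrictCx V).obj G), x ∈ V ∧
      Nonempty (Homotopy (β ≫ (DCoh.restrictCx V).map f) ((DCoh.restrictCx V).map α)) := by
  have hC : ∀ i : ℤ, a ≤ i → IsZero ((CochainComplex.mappingCone f).homology i) := fun i hi =>
    (HomologicalComplex.exactAt_iff_isZero_homology _ _).1 (cone_exactAt f a hf hfa i hi)
  obtain ⟨V, hxV, ⟨h⟩⟩ := exists_nullHomotopy (α ≫ CochainComplex.mappingCone.inr f) hE a hEa hC x
  let R := Scheme.Modules.restrictFunctor V.ι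
  have h2 : Homotopy ((DCoh.restrictCx V).map α ≫
      CochainComplex.mappingCone.inr ((DCoh.restrictCx V).map f)) 0 := by
    have e1 : (DCoh.restrictCx V).map α ≫
        CochainComplex.mappingCone.inr ((DCoh.restrictCx V).map f) =
        (DCoh.restrictCx V).map (α ≫ CochainComplex.mappingCone.inr f) ≫
          (CochainComplex.mappingCone.mapHomologicalComplexIso f R).hom := by
      rw [Functor.map_comp, Category.assoc, CochainComplex.mappingCone.map_inr]
    refine (Homotopy.ofEq e1).trans ((h.compRight _).trans (Homotopy.ofEq ?_))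
    rw [zero_comp]
  obtain ⟨β, hβ⟩ := exists_lift_of_nullHomotopic_inr ((DCoh.restrictCx V).map f)
    ((DCoh.restrictCx V).map α) h2
  exact ⟨V, β, hxV, hβ⟩

end Groth.Agent.Lib.Helper5.LocQis
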