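import Mathlib
import Groth.Prelude.Def_DCoh3
import Groth.Agent.Lib.Helper5.Perf.LocQis

/-!
# A map in the derived category out of a strictly perfect complex is locally a chain map
-/

set_option autoImplicit false
set_option linter.style.haveILetI false

universe u

open CategoryTheory CategoryTheory.Limits AlgebraicGeometry Opposite TopologicalSpace

attribute [local instance] HasDerivedCategory.standard

namespace Groth.Agent.Lib.Helper5.LocRepr

open Groth.Agent.Lib.Helper5.LocQis

section Gen

variable {C₁ : Type*} [Category C₁] [Abelian C₁] [HasDerivedCategory C₁]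
  {C₂ : Type*} [Category C₂] [Abelian C₂] [HasDerivedCategory C₂]
  (R : C₁ ⥤ C₂) [R.Additive] [PreservesFiniteLimits R] [PreservesFiniteColimits R]

/-- `R.mapDerivedCategory (Q.map f)` in terms of `Q.map (R f)`. -/
theorem map_Q_map {K L : CochainComplex C₁ ℤ} (f : K ⟶ L) :
    R.mapDerivedCategory.map (DerivedCategory.Q.map f) =
      R.mapDerivedCategoryFactors.hom.app K ≫
        DerivedCategory.Q.map ((R.mapHomologicalComplex (ComplexShape.up ℤ)).map f) ≫
          R.mapDerivedCategoryFactors.inv.app L := by
  have := R.mapDerivedCategoryFactors_hom_naturality f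
  rw [← Category.assoc, ← this, Category.assoc, Iso.hom_inv_id_app]
  exact (Category.comp_id _).symm

/-- If `α = Q g ≫ (Q s)⁻¹` and `β ≫ R s` is homotopic to `R g`, then `R α` is represented
by `β`. -/
theorem map_eq_of_homotopy {E F F' : CochainComplex C₁ ℤ} (g : E ⟶ F') (s : F ⟶ F')
    [IsIso (DerivedCategory.Q.map s)]
    (β : (R.mapHomologicalComplex (ComplexShape.up ℤ)).obj E ⟶
      (R.mapHomologicalComplex (ComplexShape.up ℤ)).obj F)
    (h : Homotopy (β ≫ (R.mapHomologicalComplex (ComplexShape.up ℤ)).map s)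
      ((R.mapHomologicalComplex (ComplexShape.up ℤ)).map g)) :
    R.mapDerivedCategory.map (DerivedCategory.Q.map g ≫ inv (DerivedCategory.Q.map s)) =
      R.mapDerivedCategoryFactors.hom.app E ≫ DerivedCategory.Q.map β ≫
        R.mapDerivedCategoryFactors.inv.app F := by
  have h1 := DerivedCategory.Q_map_eq_of_homotopy _ h
  rw [Functor.map_comp] at h1
  rw [Functor.map_comp, Functor.map_inv, IsIso.comp_inv_eq, map_Q_map R g, map_Q_map R s]
  simp only [Category.assoc, Iso.inv_hom_id_app_assoc]
  rw [← h1]
  simp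

end Gen

variable {X : Scheme.{u}}

theorem locally_represented {E F : CochainComplex X.Modules ℤ}
    (hE : DCoh.IsStrictlyPerfect E) (α : DCoh.toD X E ⟶ DCoh.toD X F) (x : X) :
    ∃ V : X.Opens, x ∈ V ∧ ∀ [PreservesFiniteLimits (Scheme.Modules.restrictFunctor V.ι)],
      ∃ β : (DCoh.restrictCx V).obj E ⟶ (DCoh.restrictCx V).obj F,
        (DCoh.restrictD V.ι).map α =
          (Scheme.Modules.restrictFunctor V.ι).mapDerivedCategoryFactors.hom.app E ≫
            DerivedCategory.Q.map β ≫
            (Scheme.Modules.restrictFunctor V.ι).mapDerivedCategoryFactors.inv.app F := by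
  obtain ⟨F', g, s, hs, hα⟩ := DerivedCategory.left_fac α
  obtain ⟨a, b, hab⟩ := hE.1
  have hqi : QuasiIso s := (DerivedCategory.isIso_Q_map_iff_quasiIso _ s).1 hs
  obtain ⟨V, β, hxV, ⟨h⟩⟩ := exists_local_lift_qis g s hE a
    (fun j hj => hab j (Or.inl hj)) (fun j _ => inferInstance) inferInstance x
  refine ⟨V, hxV, ?_⟩
  intro inst
  refine ⟨β, ?_⟩
  have := map_eq_of_homotopy (Scheme.Modules.restrictFunctor V.ι) g s β h
  rw [← hα] at this
  exact this

end Groth.Agent.Lib.Helper5.LocRepr
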