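import Mathlib
import Groth.Prelude.Def_DCoh3
import Groth.Agent.Lib.Helper5.Perf.LocRepr
import Groth.Agent.Lib.Helper5.Perf.ConePerf

/-!
# Two out of three for perfect objects in a distinguished triangle
-/

set_option autoImplicit false
set_option linter.style.haveILetI false

universe u

open CategoryTheory CategoryTheory.Limits AlgebraicGeometry Opposite TopologicalSpace
  CategoryTheory.Pretriangulated

attribute [local instance] HasDerivedCategory.standard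

namespace Groth.Agent.Lib.Helper5.PerfTri

open Groth.Agent.Lib.Helper5.LocQis Groth.Agent.Lib.Helper5.LocNull
  Groth.Agent.Lib.Helper5.StalkAdj Groth.Agent.Lib.Helper5.LocRepr

variable {X : Scheme.{u}}

/-- `K` restricted along `j` is represented by a strictly perfect complex -/
def LPD {U : Scheme.{u}} (j : U ⟶ X) [IsOpenImmersion j] (K : DCoh.D X) : Prop :=
  ∃ E : CochainComplex U.Modules ℤ, DCoh.IsStrictlyPerfect E ∧
    Nonempty ((DCoh.restrictD j).obj K ≅ DerivedCategory.Q.obj E)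

theorem LPD_congr {U : Scheme.{u}} {j j' : U ⟶ X} [IsOpenImmersion j] [IsOpenImmersion j']
    (h : j = j') {K : DCoh.D X} (hK : LPD j K) : LPD j' K := by
  subst h
  exact hK

theorem LPD_of_iso {U : Scheme.{u}} (j : U ⟶ X) [IsOpenImmersion j] {K K' : DCoh.D X}
    (e : K ≅ K') (hK : LPD j K) : LPD j K' := by
  obtain ⟨E, hE, ⟨i⟩⟩ := hK
  exact ⟨E, hE, ⟨(DCoh.restrictD j).mapIso e.symm ≪≫ i⟩⟩

theorem isStrictlyPerfect_restrict {U : Scheme.{u}} (j : U ⟶ X) [IsOpenImmersion j]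
    {E : CochainComplex X.Modules ℤ} (hE : DCoh.IsStrictlyPerfect E) :
    DCoh.IsStrictlyPerfect ((RCx j).obj E) := by
  obtain ⟨⟨a, b, hab⟩, hfl⟩ := hE
  exact ⟨⟨a, b, fun i hi => Functor.map_isZero (Scheme.Modules.restrictFunctor j) (hab i hi)⟩,
    fun i => isFinLocFree_restrict j _ (hfl i)⟩

/-- restriction along a composite, objectwise on the derived category -/
noncomputable def restrictDCompObjIso {U U' : Scheme.{u}} (k : U' ⟶ U) (j : U ⟶ X)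
    [IsOpenImmersion k] [IsOpenImmersion j] (K : DCoh.D X) :
    (DCoh.restrictD (k ≫ j)).obj K ≅ (DCoh.restrictD k).obj ((DCoh.restrictD j).obj K) :=
  let F : CochainComplex X.Modules ℤ := DerivedCategory.Q.objPreimage K
  let e : DerivedCategory.Q.obj F ≅ K := DerivedCategory.Q.objObjPreimageIso K
  (DCoh.restrictD (k ≫ j)).mapIso e.symm ≪≫
    (Scheme.Modules.restrictFunctor (k ≫ j)).mapDerivedCategoryFactors.app F ≪≫
    DerivedCategory.Q.mapIso ((NatIso.mapHomologicalComplex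
      (Scheme.Modules.restrictFunctorComp k j) (ComplexShape.up ℤ)).app F) ≪≫
    ((Scheme.Modules.restrictFunctor k).mapDerivedCategoryFactors.app ((RCx j).obj F)).symm ≪≫
    (DCoh.restrictD k).mapIso
      ((Scheme.Modules.restrictFunctor j).mapDerivedCategoryFactors.app F).symm ≪≫
    (DCoh.restrictD k).mapIso ((DCoh.restrictD j).mapIso e)

theorem LPD_comp {U U' : Scheme.{u}} (k : U' ⟶ U) (j : U ⟶ X)
    [IsOpenImmersion k] [IsOpenImmersion j] {K : DCoh.D X} (hK : LPD j K) :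
    LPD (k ≫ j) K := by
  obtain ⟨E, hE, ⟨i⟩⟩ := hK
  exact ⟨(RCx k).obj E, isStrictlyPerfect_restrict k hE,
    ⟨restrictDCompObjIso k j K ≪≫ (DCoh.restrictD k).mapIso i ≪≫
      (Scheme.Modules.restrictFunctor k).mapDerivedCategoryFactors.app E⟩⟩

theorem exists_LPD_of_isPerfect {K : DCoh.D X} (hK : DCoh.IsPerfect K) (x : X) :
    ∃ V : X.Opens, x ∈ V ∧ LPD V.ι K := by
  obtain ⟨V, hxV, hV⟩ := hK x
  let F : CochainComplex X.Modules ℤ := DerivedCategory.Q.objPreimage K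
  let e : DerivedCategory.Q.obj F ≅ K := DerivedCategory.Q.objObjPreimageIso K
  obtain ⟨E, hE, ⟨i⟩⟩ := hV F ⟨e⟩
  exact ⟨V, hxV, E, hE, ⟨(DCoh.restrictD V.ι).mapIso e.symm ≪≫
    (Scheme.Modules.restrictFunctor V.ι).mapDerivedCategoryFactors.app F ≪≫ i⟩⟩

theorem isPerfect_of_LPD {K : DCoh.D X}
    (h : ∀ x : X, ∃ (U : Scheme.{u}) (j : U ⟶ X) (_ : IsOpenImmersion j),
      x ∈ Set.range j.base ∧ LPD j K) : DCoh.IsPerfect K := by
  intro x
  obtain ⟨U, j, hj, hx, hjK⟩ := h x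
  have h1 : LPD j.opensRange.ι K :=
    LPD_congr (Scheme.Hom.isoOpensRange_inv_comp j) (LPD_comp j.isoOpensRange.inv j hjK)
  obtain ⟨E, hE, ⟨i⟩⟩ := h1
  refine ⟨j.opensRange, hx, fun F ⟨eF⟩ => ⟨E, hE, ⟨?_⟩⟩⟩
  exact ((Scheme.Modules.restrictFunctor j.opensRange.ι).mapDerivedCategoryFactors.app F).symm ≪≫
    (DCoh.restrictD j.opensRange.ι).mapIso eF ≪≫ i

theorem isPerfect_of_iso {K K' : DCoh.D X} (e : K ≅ K') (hK : DCoh.IsPerfect K) :
    DCoh.IsPerfect K' := by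
  intro x
  obtain ⟨V, hxV, hV⟩ := hK x
  exact ⟨V, hxV, fun F ⟨eF⟩ => hV F ⟨eF ≪≫ e.symm⟩⟩

theorem isStrictlyPerfect_shift {E : CochainComplex X.Modules ℤ} (hE : DCoh.IsStrictlyPerfect E)
    (n : ℤ) : DCoh.IsStrictlyPerfect (E⟦n⟧) := by
  obtain ⟨⟨a, b, hab⟩, hfl⟩ := hE
  refine ⟨⟨a - n, b - n, fun i hi => ?_⟩, fun i => ?_⟩
  · exact hab (i + n) (by omega)
  · exact hfl (i + n)

theorem LPD_shift {U : Scheme.{u}} (j : U ⟶ X) [IsOpenImmersion j] {K : DCoh.D X}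
    (hK : LPD j K) (n : ℤ) : LPD j (K⟦n⟧) := by
  obtain ⟨E, hE, ⟨i⟩⟩ := hK
  exact ⟨E⟦n⟧, isStrictlyPerfect_shift hE n,
    ⟨((DCoh.restrictD j).commShiftIso n).app K ≪≫ (shiftFunctor _ n).mapIso i ≪≫
      ((DerivedCategory.Q.commShiftIso n).app E).symm⟩⟩

theorem isPerfect_shift {K : DCoh.D X} (hK : DCoh.IsPerfect K) (n : ℤ) :
    DCoh.IsPerfect (K⟦n⟧) := by
  apply isPerfect_of_LPD
  intro x
  obtain ⟨V, hxV, hV⟩ := exists_LPD_of_isPerfect hK x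
  exact ⟨V, V.ι, inferInstance, by simpa using hxV, LPD_shift V.ι hV n⟩

/-- core: the third vertex of a distinguished triangle whose first two vertices are represented
by strictly perfect complexes is locally so. -/
theorem LPD_obj₃ (T : Triangle (DCoh.D X)) (hT : T ∈ distTriang _) {U : Scheme.{u}} (j : U ⟶ X)
    [IsOpenImmersion j] (h₁ : LPD j T.obj₁) (h₂ : LPD j T.obj₂) (x : U) :
    ∃ W : U.Opens, x ∈ W ∧ LPD (W.ι ≫ j) T.obj₃ := by
  obtain ⟨E₁, hE₁, ⟨e₁⟩⟩ := h₁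
  obtain ⟨E₂, hE₂, ⟨e₂⟩⟩ := h₂
  let α : DerivedCategory.Q.obj E₁ ⟶ DerivedCategory.Q.obj E₂ :=
    e₁.inv ≫ (DCoh.restrictD j).map T.mor₁ ≫ e₂.hom
  obtain ⟨W, hxW, hW⟩ := locally_represented hE₁ α x
  obtain ⟨β, hβ⟩ := hW
  refine ⟨W, hxW, CochainComplex.mappingCone β, ?_, ⟨?_⟩⟩
  · exact Groth.Agent.Lib.Helper5.ConePerf.isStrictlyPerfect_mappingCone β
      (isStrictlyPerfect_restrict W.ι hE₁) (isStrictlyPerfect_restrict W.ι hE₂)
  · let T' := (DCoh.restrictD j).mapTriangle.obj T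
    have hT' : T' ∈ distTriang _ := (DCoh.restrictD j).map_distinguished T hT
    let T'' := (DCoh.restrictD W.ι).mapTriangle.obj T'
    have hT'' : T'' ∈ distTriang _ := (DCoh.restrictD W.ι).map_distinguished T' hT'
    let T₂ := DerivedCategory.Q.mapTriangle.obj (CochainComplex.mappingCone.triangle β)
    have hT₂ : T₂ ∈ distTriang _ := DerivedCategory.mappingCone_triangle_distinguished β
    let Φ := (Scheme.Modules.restrictFunctor W.ι).mapDerivedCategoryFactors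
    let i₁ : T''.obj₁ ≅ T₂.obj₁ := (DCoh.restrictD W.ι).mapIso e₁ ≪≫ Φ.app E₁
    let i₂ : T''.obj₂ ≅ T₂.obj₂ := (DCoh.restrictD W.ι).mapIso e₂ ≪≫ Φ.app E₂
    have comm : T''.mor₁ ≫ i₂.hom = i₁.hom ≫ T₂.mor₁ := by
      have h1 : (DCoh.restrictD W.ι).map ((DCoh.restrictD j).map T.mor₁) ≫
          (DCoh.restrictD W.ι).map e₂.hom =
          (DCoh.restrictD W.ι).map e₁.hom ≫ (DCoh.restrictD W.ι).map α := by
        rw [← Functor.map_comp, ← Functor.map_comp]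
        congr 1
        simp [α]
      change (DCoh.restrictD W.ι).map ((DCoh.restrictD j).map T.mor₁) ≫
        (DCoh.restrictD W.ι).map e₂.hom ≫ Φ.hom.app E₂ =
        ((DCoh.restrictD W.ι).map e₁.hom ≫ Φ.hom.app E₁) ≫ DerivedCategory.Q.map β
      rw [← Category.assoc, h1, hβ]
      simp [Φ]
    let iT := isoTriangleOfIso₁₂ T'' T₂ hT'' hT₂ i₁ i₂ comm
    exact restrictDCompObjIso W.ι j T.obj₃ ≪≫ Triangle.π₃.mapIso iT

theorem isPerfect_obj₃ (T : Triangle (DCoh.D X)) (hT : T ∈ distTriang _)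
    (h₁ : DCoh.IsPerfect T.obj₁) (h₂ : DCoh.IsPerfect T.obj₂) : DCoh.IsPerfect T.obj₃ := by
  apply isPerfect_of_LPD
  intro x
  obtain ⟨V₁, hx₁, hV₁⟩ := exists_LPD_of_isPerfect h₁ x
  obtain ⟨V₂, hx₂, hV₂⟩ := exists_LPD_of_isPerfect h₂ x
  let V : X.Opens := V₁ ⊓ V₂
  have hxV : x ∈ V := ⟨hx₁, hx₂⟩
  have k₁ : LPD V.ι T.obj₁ := LPD_congr (X.homOfLE_ι (inf_le_left : V ≤ V₁))
    (LPD_comp (X.homOfLE (inf_le_left : V ≤ V₁)) V₁.ι hV₁)
  have k₂ : LPD V.ι T.obj₂ := LPD_congr (X.homOfLE_ι (inf_le_right : V ≤ V₂))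
    (LPD_comp (X.homOfLE (inf_le_right : V ≤ V₂)) V₂.ι hV₂)
  obtain ⟨W, hxW, hW⟩ := LPD_obj₃ T hT V.ι k₁ k₂ ⟨x, hxV⟩
  exact ⟨W, W.ι ≫ V.ι, inferInstance, ⟨⟨⟨x, hxV⟩, hxW⟩, rfl⟩, hW⟩

/-- **two out of three for perfect objects** -/
theorem two_of_three (T : Triangle (DCoh.D X)) (hT : T ∈ distTriang _) :
    (DCoh.IsPerfect T.obj₁ → DCoh.IsPerfect T.obj₂ → DCoh.IsPerfect T.obj₃) ∧
    (DCoh.IsPerfect T.obj₁ → DCoh.IsPerfect T.obj₃ → DCoh.IsPerfect T.obj₂) ∧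
    (DCoh.IsPerfect T.obj₂ → DCoh.IsPerfect T.obj₃ → DCoh.IsPerfect T.obj₁) := by
  refine ⟨isPerfect_obj₃ T hT, fun h₁ h₃ => ?_, fun h₂ h₃ => ?_⟩
  · exact isPerfect_obj₃ T.invRotate (inv_rot_of_distTriang T hT) (isPerfect_shift h₃ (-1)) h₁
  · have h := isPerfect_obj₃ T.rotate (rot_of_distTriang T hT) h₂ h₃
    exact isPerfect_of_iso (shiftShiftNeg T.obj₁ (1 : ℤ)) (isPerfect_shift h (-1))

end Groth.Agent.Lib.Helper5.PerfTri
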