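import Mathlib
import Groth.Prelude.Def_DCoh3
import Groth.Prelude.Def_CohB1
import Groth.Agent.Lib.Helper5.Perf.PerfTri
import Groth.Agent.Lib.Helper5.Perf.PerfLocFree
import Groth.Agent.Lib.Helper5.Stalk.RpushSupp
import Groth.Agent.Lib.Helper5.Stalk.RpushGE
import Groth.Agent.Lib.Helper3.KInjD

/-!
# `Rj_*` of a perfect object with support closed in the ambient scheme is perfect
-/

set_option autoImplicit false
set_option linter.style.haveILetI false

universe u

open CategoryTheory CategoryTheory.Limits AlgebraicGeometry Opposite TopologicalSpace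
open scoped ZeroObject

attribute [local instance] HasDerivedCategory.standard

namespace Groth.Agent.Lib.Helper5.RpushOpen

open Groth.Agent.Lib.Helper5.LocalCoh Groth.Agent.Lib.Helper5.PerfCoh
  Groth.Agent.Lib.Helper5.StalkAdj Groth.Agent.Lib.Helper5.RpushRes
  Groth.Agent.Lib.Helper5.RpushSupp Groth.Agent.Lib.Helper5.PerfTri
  Groth.Agent.Lib.Helper5.LpullLib Groth.Agent.Helper3.KInjDer
  Groth.Agent.Lib.Helper5.LocNull

variable {X : Scheme.{u}}

/-- every object of `D(O_X)` is represented by a K-injective complex -/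
theorem exists_kInjective_repr (F : DCoh.D X) :
    ∃ I : CochainComplex X.Modules ℤ, I.IsKInjective ∧
      Nonempty (F ≅ DerivedCategory.Q.obj I) := by
  let K : CochainComplex X.Modules ℤ := DerivedCategory.Q.objPreimage F
  obtain ⟨I, f, hI, hf, -, -⟩ := Groth.Agent.Helper3.KInjD.exists_kInjective_resolution K
  haveI : IsIso (DerivedCategory.Q.map f) := (DerivedCategory.isIso_Q_map_iff_quasiIso _ _).2 hf
  exact ⟨I, hI, ⟨(DerivedCategory.Q.objObjPreimageIso F).symm ≪≫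
    asIso (DerivedCategory.Q.map f)⟩⟩

/-- `j^* Rj_* E ≅ E` for an open immersion `j` -/
theorem nonempty_restrictD_rpush_iso {U : Scheme.{u}} (j : U ⟶ X) [IsOpenImmersion j]
    [DCoh.HasRpush j] (E : DCoh.D U) :
    Nonempty ((DCoh.restrictD j).obj ((DCoh.Rpush j).obj E) ≅ E) := by
  obtain ⟨I, hI, ⟨e⟩⟩ := exists_kInjective_repr E
  haveI := hI
  haveI h1 : IsIso ((rpushUnit j).app
      ((HomotopyCategory.quotient U.Modules (ComplexShape.up ℤ)).obj I)) :=
    isIso_unit_app (DCoh.pushKh j) (rpushUnit j) I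
  let J : CochainComplex X.Modules ℤ :=
    ((Scheme.Modules.pushforward j).mapHomologicalComplex (ComplexShape.up ℤ)).obj I
  let e1 : (DCoh.Rpush j).obj E ≅ (DCoh.pushKh j).obj
      ((HomotopyCategory.quotient U.Modules (ComplexShape.up ℤ)).obj I) :=
    (DCoh.Rpush j).mapIso e ≪≫ (asIso ((rpushUnit j).app
      ((HomotopyCategory.quotient U.Modules (ComplexShape.up ℤ)).obj I))).symm
  let e2 : (DCoh.pushKh j).obj ((HomotopyCategory.quotient U.Modules (ComplexShape.up ℤ)).obj I) ≅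
      DerivedCategory.Q.obj J := Iso.refl _
  let e3 : (DCoh.restrictD j).obj (DerivedCategory.Q.obj J) ≅
      DerivedCategory.Q.obj ((RCx j).obj J) :=
    (Scheme.Modules.restrictFunctor j).mapDerivedCategoryFactors.app J
  let e4 : (RCx j).obj J ≅ I :=
    HomologicalComplex.Hom.isoOfComponents
      (fun i => (Scheme.Modules.restrictFunctorAdjCounitIso j).app (I.X i))
      (fun i k _ => ((Scheme.Modules.restrictFunctorAdjCounitIso j).hom.naturality (I.d i k)).symm)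
  exact ⟨(DCoh.restrictD j).mapIso (e1 ≪≫ e2) ≪≫ e3 ≪≫ DerivedCategory.Q.mapIso e4 ≪≫ e.symm⟩

/-- `Rf_* E` vanishes over an open over whose preimage `E` has no cohomology -/
theorem isZero_restrictD_rpush {Y : Scheme.{u}} (f : X ⟶ Y) [DCoh.HasRpush f] (V : Y.Opens)
    (E : DCoh.D X)
    (h : ∀ (k : ℤ) (x : X), x ∈ f ⁻¹ᵁ V → Subsingleton ((DCoh.HD E k).presheaf.stalk x)) :
    IsZero ((DCoh.restrictD V.ι).obj ((DCoh.Rpush f).obj E)) := by
  haveI : DCoh.HasRpush (f ∣_ V) :=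
    Groth.Agent.Helper3.KInjDer.hasRightDerivedFunctor (DCoh.pushKh (f ∣_ V))
  have hEU : IsZero ((DCoh.restrictD (f ⁻¹ᵁ V).ι).obj E) := by
    apply isZero_of_forall_isZero_HD
    intro k
    refine IsZero.of_iso ?_ (hdRestrictDIso E (f ⁻¹ᵁ V) k).symm
    apply isZero_restrict_of_stalks
    intro x hx
    exact h k x hx
  haveI : DCoh.HasLpull (f ∣_ V) := Groth.Agent.Lib.Helper5.LpullLib.hasLpull (f ∣_ V)
  haveI : (DCoh.Rpush (f ∣_ V)).IsRightAdjoint :=
    (Groth.Agent.Lib.Helper5.LpullLib.lpullRpushAdj (f ∣_ V)).isRightAdjoint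
  exact IsZero.of_iso (Functor.map_isZero (DCoh.Rpush (f ∣_ V)) hEU) ((rpushRestrictIso f V).app E)

theorem isFinLocFree_of_isZero (M : X.Modules) (hM : IsZero M) : FlatMod.IsFinLocFree M := by
  intro x
  exact ⟨⊤, 0, trivial, ⟨(Functor.map_isZero (Scheme.Modules.restrictFunctor (⊤ : X.Opens).ι)
    hM).iso (Groth.Agent.Lib.Helper5.Shrink.isZero_freeMod_zero _)⟩⟩

theorem isStrictlyPerfect_zero : DCoh.IsStrictlyPerfect (0 : CochainComplex X.Modules ℤ) := by
  have hz : ∀ i : ℤ, IsZero ((0 : CochainComplex X.Modules ℤ).X i) := fun i =>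
    Functor.map_isZero (HomologicalComplex.eval X.Modules (ComplexShape.up ℤ) i) (isZero_zero _)
  exact ⟨⟨0, 0, fun i _ => hz i⟩, fun i => isFinLocFree_of_isZero _ (hz i)⟩

theorem LPD_of_isZero {U : Scheme.{u}} (j : U ⟶ X) [IsOpenImmersion j] (K : DCoh.D X)
    (h : IsZero ((DCoh.restrictD j).obj K)) : LPD j K :=
  ⟨0, isStrictlyPerfect_zero, ⟨h.iso (Functor.map_isZero DerivedCategory.Q (isZero_zero _))⟩⟩

/-- **`Rj_*` of a perfect object with closed support is perfect** -/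
theorem isPerfect_rpush_open (U : X.Opens) [DCoh.HasRpush U.ι]
    (E : DCoh.D (U : Scheme.{u})) (hE : DCoh.IsPerfect E) (T : Set (U : Scheme.{u}))
    (hjT : IsClosed ((fun x : (U : Scheme.{u}) => U.ι.base x) '' T))
    (hsupp : ∀ i : ℤ, CohB1.support (DCoh.HD E i) ⊆ T) :
    DCoh.IsPerfect ((DCoh.Rpush U.ι).obj E) := by
  apply isPerfect_of_LPD
  intro x
  by_cases hx : x ∈ U
  · obtain ⟨e⟩ := nonempty_restrictD_rpush_iso U.ι E
    obtain ⟨W, hxW, hW⟩ := exists_LPD_of_isPerfect hE ⟨x, hx⟩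
    refine ⟨W, W.ι ≫ U.ι, inferInstance, ⟨⟨⟨x, hx⟩, hxW⟩, rfl⟩, ?_⟩
    obtain ⟨P, hP, ⟨i⟩⟩ := hW
    exact ⟨P, hP, ⟨restrictDCompObjIso W.ι U.ι _ ≪≫ (DCoh.restrictD W.ι).mapIso e ≪≫ i⟩⟩
  · let V : X.Opens := ⟨((fun x : (U : Scheme.{u}) => U.ι.base x) '' T)ᶜ, hjT.isOpen_compl⟩
    have hxV : x ∈ V := by
      rintro ⟨t, _, ht⟩
      exact hx (ht ▸ t.2)
    refine ⟨V, V.ι, inferInstance, by simpa using hxV,
      LPD_of_isZero V.ι _ (isZero_restrictD_rpush U.ι V E ?_)⟩
    intro k y hy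
    by_contra hns
    have hyT : y ∈ T := hsupp k hns
    exact hy ⟨y, hyT, rfl⟩

end Groth.Agent.Lib.Helper5.RpushOpen
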