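import Mathlib
import Groth.Agent.Lib.Helper5.Euler.AffLocal
import Groth.Agent.Lib.Helper5.Perf.PerfLocFree
import Groth.Agent.Lib.Lead.FLF1

/-!
# Finite projective modules give finite locally free sheaves; retracts of free modules
-/
set_option autoImplicit false
set_option linter.style.haveILetI false
universe u
open CategoryTheory CategoryTheory.Limits AlgebraicGeometry Opposite TopologicalSpace
open scoped TensorProduct

namespace Groth.Agent.Lib.Helper5.ProjLocFree

open Groth.Agent.Lib.Helper5.AffLocal Groth.Agent.Lib.Helper5.Shrink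
  Groth.Agent.Helper1.TildeBC Groth.Agent.Lead.FLF

/-- the tilde of a finite free module (over any index universe trick) is free -/
theorem isFinLocFree_tilde_of_free (A : Type u) [CommRing A] (N : Type u) [AddCommGroup N]
    [Module A N] [Module.Free A N] [Module.Finite A N] :
    FlatMod.IsFinLocFree (tilde (ModuleCat.of A N) : (Spec (CommRingCat.of A)).Modules) := by
  rcases subsingleton_or_nontrivial A with hA | hA
  · intro x
    haveI : IsEmpty (PrimeSpectrum A) := inferInstance
    exact (IsEmpty.false (show PrimeSpectrum A from x)).elim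
  let n := Module.finrank A N
  let b : Module.Basis (Fin n) A N := Module.finBasis A N
  let e : N ≃ₗ[A] (ULift.{u} (Fin n) →₀ A) :=
    b.repr ≪≫ₗ Finsupp.domLCongr Equiv.ulift.symm
  have i : (tilde (ModuleCat.of A N) : (Spec (CommRingCat.of A)).Modules) ≅ FlatMod.freeMod (Spec (CommRingCat.of A)) n :=
    (tilde.functor (CommRingCat.of A)).mapIso e.toModuleIso ≪≫
      (freeTildeIso (CommRingCat.of A) n).symm
  exact isFinLocFree_of_iso_free _ n i

/-- the tilde of a finite projective module is finite locally free -/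
theorem isFinLocFree_tilde_of_projective (R : Type u) [CommRing R] (M : Type u) [AddCommGroup M]
    [Module R M] [Module.Finite R M] [Module.Projective R M] :
    FlatMod.IsFinLocFree (tilde (ModuleCat.of R M) : (Spec (CommRingCat.of R)).Modules) := by
  apply isFinLocFree_of_charts
  intro y
  let p : Ideal R := y.asIdeal
  haveI : Module.FinitePresentation R M := Module.finitePresentation_of_projective R M
  haveI : Module.Free (Localization.AtPrime p) (LocalizedModule p.primeCompl M) :=
    Module.free_of_flat_of_isLocalRing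
  obtain ⟨r, hr, hfree, -⟩ := Module.FinitePresentation.exists_free_localizedModule_powers
    p.primeCompl (LocalizedModule.mkLinearMap p.primeCompl M) (Localization.AtPrime p)
  let A' := Localization.Away r
  let g : Spec (CommRingCat.of A') ⟶ Spec (CommRingCat.of R) :=
    Spec.map (CommRingCat.ofHom (algebraMap R A'))
  refine ⟨Spec (CommRingCat.of A'), g, inferInstance, ?_, ?_⟩
  · have h1 := Scheme.Hom.opensRange_localizationAway (R := CommRingCat.of R) r
    change y ∈ (Spec.map (CommRingCat.ofHom
      (algebraMap (CommRingCat.of R) (Localization.Away r)))).opensRange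
    rw [h1]
    exact hr
  · obtain ⟨e₁⟩ := Groth.Agent.Helper1.TildeBC.result R A' M
    haveI : Module.Free A' (A' ⊗[R] M) :=
      Module.Free.of_equiv ((IsLocalizedModule.isBaseChange (Submonoid.powers r) A'
        (LocalizedModule.mkLinearMap (Submonoid.powers r) M)).equiv).symm
    refine isFinLocFree_of_iso ?_ (isFinLocFree_tilde_of_free A' (A' ⊗[R] M))
    exact (e₁.symm ≪≫ ((Scheme.Modules.restrictFunctorIsoPullback g).app _).symm)

/-- splitting an idempotent endomorphism of a finite free module -/
theorem exists_split_idempotent (R : Type u) [CommRing R] (Q : Type u) [AddCommGroup Q]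
    [Module R Q] [Module.Finite R Q] [Module.Projective R Q]
    (ε : ModuleCat.of R Q ⟶ ModuleCat.of R Q) (hεε : ε ≫ ε = ε) :
    ∃ (M : Type u) (_ : AddCommGroup M) (_ : Module R M) (_ : Module.Finite R M)
      (_ : Module.Projective R M) (incl : ModuleCat.of R M ⟶ ModuleCat.of R Q)
      (cores : ModuleCat.of R Q ⟶ ModuleCat.of R M), cores ≫ incl = ε ∧ incl ≫ cores = 𝟙 _ := by
  let M : Submodule R Q := LinearMap.range ε.hom
  let incl : ModuleCat.of R M ⟶ ModuleCat.of R Q := ModuleCat.ofHom M.subtype
  let cores : ModuleCat.of R Q ⟶ ModuleCat.of R M := ModuleCat.ofHom ε.hom.rangeRestrict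
  have hci : cores ≫ incl = ε := by
    apply ModuleCat.hom_ext
    apply LinearMap.ext
    intro x
    rfl
  have hic : incl ≫ cores = 𝟙 _ := by
    apply ModuleCat.hom_ext
    apply LinearMap.ext
    rintro ⟨m, x, rfl⟩
    apply Subtype.ext
    change ε.hom (ε.hom x) = ε.hom x
    have := congrArg (fun f => f.hom x) hεε
    exact this
  have hfin : Module.Finite R M := Module.Finite.range ε.hom
  have hproj : Module.Projective R M :=
    Module.Projective.of_split M.subtype ε.hom.rangeRestrict
      (by
        have := congrArg ModuleCat.Hom.hom hic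
        exact this)
  exact ⟨M, inferInstance, inferInstance, hfin, hproj, incl, cores, hci, hic⟩

/-- a module on `Spec R` which is a retract of a finite free module is finite locally free -/
theorem isFinLocFree_of_retract_affine (R : CommRingCat.{u}) (n : ℕ) (N : (Spec R).Modules)
    (i : N ⟶ FlatMod.freeMod (Spec R) n) (p : FlatMod.freeMod (Spec R) n ⟶ N)
    (h : i ≫ p = 𝟙 N) : FlatMod.IsFinLocFree N := by
  obtain ⟨i', p', h'⟩ : ∃ (i' : N ⟶ (tilde.functor R).obj
      (ModuleCat.of R (ULift.{u} (Fin n) →₀ R))) (p' : (tilde.functor R).obj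
      (ModuleCat.of R (ULift.{u} (Fin n) →₀ R)) ⟶ N), i' ≫ p' = 𝟙 N :=
    ⟨i ≫ (freeTildeIso R n).hom, (freeTildeIso R n).inv ≫ p, by
      rw [Category.assoc, Iso.hom_inv_id_assoc, h]⟩
  obtain ⟨ε, hε⟩ : ∃ ε : ModuleCat.of R (ULift.{u} (Fin n) →₀ R) ⟶
      ModuleCat.of R (ULift.{u} (Fin n) →₀ R), (tilde.functor R).map ε = p' ≫ i' :=
    ⟨(tilde.fullyFaithfulFunctor (R := R)).preimage (p' ≫ i'),
      (tilde.fullyFaithfulFunctor (R := R)).map_preimage (p' ≫ i')⟩
  have hεε : ε ≫ ε = ε := by
    apply (tilde.functor R).map_injective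
    rw [Functor.map_comp, hε, Category.assoc, reassoc_of% h']
  obtain ⟨M, _, _, _, _, incl, cores, hci, hic⟩ :=
    exists_split_idempotent R (ULift.{u} (Fin n) →₀ R) ε hεε
  have h1 : (i' ≫ (tilde.functor R).map cores) ≫ ((tilde.functor R).map incl ≫ p') = 𝟙 N := by
    rw [Category.assoc, ← Functor.map_comp_assoc, hci, hε, Category.assoc, h', Category.comp_id,
      h']
  have h2 : ((tilde.functor R).map incl ≫ p') ≫ (i' ≫ (tilde.functor R).map cores) = 𝟙 _ := by
    rw [Category.assoc, ← Category.assoc p' i', ← hε, ← Functor.map_comp, ← Functor.map_comp,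
      ← hci, Category.assoc, hic, Category.comp_id, hic, CategoryTheory.Functor.map_id]
  exact isFinLocFree_of_iso (Iso.mk _ _ h1 h2).symm
    (isFinLocFree_tilde_of_projective R M)

variable {X : Scheme.{u}}

/-- `N` is locally a retract of a finite free module -/
def IsLocRetractFree (N : X.Modules) : Prop :=
  ∀ x : X, ∃ (V : Scheme.{u}) (j : V ⟶ X) (_ : IsOpenImmersion j) (n : ℕ),
    x ∈ Set.range j.base ∧ ∃ (i : N.restrict j ⟶ FlatMod.freeMod V n)
      (p : FlatMod.freeMod V n ⟶ N.restrict j), i ≫ p = 𝟙 _

/-- **a module which is locally a direct summand of a finite free module is finite locally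
free** -/
theorem isFinLocFree_of_isLocRetractFree (N : X.Modules) (hN : IsLocRetractFree N) :
    FlatMod.IsFinLocFree N := by
  apply isFinLocFree_of_charts
  intro x
  obtain ⟨V, j, hj, n, ⟨y, rfl⟩, i, p, hip⟩ := hN x
  obtain ⟨_, ⟨U, hU : IsAffineOpen U, rfl⟩, hyU, -⟩ :=
    V.isBasis_affineOpens.exists_subset_of_mem_open (Set.mem_univ y) isOpen_univ
  let k : Spec Γ(V, U) ⟶ V := hU.fromSpec
  refine ⟨Spec Γ(V, U), k ≫ j, inferInstance, ?_, ?_⟩
  · have hy : y ∈ Set.range k.base := by
      rw [hU.range_fromSpec]
      exact hyU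
    obtain ⟨w, hw⟩ := hy
    exact ⟨w, by rw [← hw]; rfl⟩
  · let Rk := Scheme.Modules.restrictFunctor k
    have h1 : FlatMod.IsFinLocFree ((N.restrict j).restrict k) :=
      isFinLocFree_of_retract_affine Γ(V, U) n _ (Rk.map i ≫ (restrictFreeIso k n).hom)
        ((restrictFreeIso k n).inv ≫ Rk.map p) (by
          rw [Category.assoc, Iso.hom_inv_id_assoc, ← Functor.map_comp, hip,
            CategoryTheory.Functor.map_id])
    exact isFinLocFree_of_iso ((Scheme.Modules.restrictFunctorComp k j).app N).symm h1

theorem isLocRetractFree_of_isFinLocFree (N : X.Modules) (hN : FlatMod.IsFinLocFree N) :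
    IsLocRetractFree N := by
  intro x
  obtain ⟨U, n, hxU, ⟨e⟩⟩ := hN x
  exact ⟨U, U.ι, inferInstance, n, by simpa using hxU, e.hom, e.inv, e.hom_inv_id⟩

end Groth.Agent.Lib.Helper5.ProjLocFree
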