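import Mathlib
import Groth.Agent.Lib.Helper5.Perf.ProjLocFree
import Groth.Agent.Lib.Helper5.Perf.LocLift
import Groth.Agent.Lib.Helper5.Stalk.FlatPull

/-!
# The kernel of an epimorphism between finite locally free modules is finite locally free
-/
set_option autoImplicit false
set_option linter.style.haveILetI false
universe u
open CategoryTheory CategoryTheory.Limits AlgebraicGeometry Opposite TopologicalSpace

namespace Groth.Agent.Lib.Helper5.KerFLF

open Groth.Agent.Lib.Helper5.ProjLocFree Groth.Agent.Lib.Helper5.LocLift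
  Groth.Agent.Lib.Helper5.StalkAdj Groth.Agent.Lead.FLF

variable {X : Scheme.{u}}

/-- a split epimorphism of modules: the kernel is a retract of the source, compatibly with an
exact functor -/
theorem exists_retract_kernel {A B : Type*} [Category A] [Abelian A] [Category B] [Abelian B]
    (G : A ⥤ B) [G.Additive] [PreservesFiniteLimits G] {P Q : A} (π : P ⟶ Q)
    (s : G.obj Q ⟶ G.obj P) (hs : s ≫ G.map π = 𝟙 _) :
    ∃ r : G.obj P ⟶ G.obj (kernel π), G.map (kernel.ι π) ≫ r = 𝟙 _ := by
  let q : G.obj P ⟶ G.obj P := 𝟙 _ - G.map π ≫ s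
  have hq : q ≫ G.map π = 0 := by
    dsimp only [q]
    rw [Preadditive.sub_comp, Category.id_comp, Category.assoc, hs, Category.comp_id, sub_self]
  refine ⟨kernel.lift (G.map π) q hq ≫ (PreservesKernel.iso G π).inv, ?_⟩
  have h1 : G.map (kernel.ι π) ≫ kernel.lift (G.map π) q hq = kernelComparison π G := by
    rw [← cancel_mono (kernel.ι (G.map π)), Category.assoc, kernel.lift_ι,
      kernelComparison_comp_ι]
    dsimp only [q]
    rw [Preadditive.comp_sub, Category.comp_id, ← Category.assoc, ← G.map_comp,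
      kernel.condition, G.map_zero, zero_comp, sub_zero]
  rw [← Category.assoc, h1, ← PreservesKernel.iso_hom, Iso.hom_inv_id]

theorem isFinLocFree_kernel {P Q : X.Modules} (π : P ⟶ Q) [Epi π]
    (hP : FlatMod.IsFinLocFree P) (hQ : FlatMod.IsFinLocFree Q) :
    FlatMod.IsFinLocFree (kernel π) := by
  apply isFinLocFree_of_isLocRetractFree
  intro x
  obtain ⟨V, j, hj, ⟨y, rfl⟩, s, hs⟩ := exists_lift hQ π (𝟙 Q) x
  rw [CategoryTheory.Functor.map_id] at hs
  obtain ⟨r, hr⟩ := exists_retract_kernel (Scheme.Modules.restrictFunctor j) π s hs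
  obtain ⟨W, n, hyW, ⟨θ⟩⟩ := isFinLocFree_restrict j P hP y
  let c := (Scheme.Modules.restrictFunctorComp W.ι j).app (kernel π)
  let RW := Scheme.Modules.restrictFunctor W.ι
  refine ⟨W, W.ι ≫ j, inferInstance, n, ⟨⟨y, hyW⟩, rfl⟩,
    c.hom ≫ RW.map ((Scheme.Modules.restrictFunctor j).map (kernel.ι π)) ≫ θ.hom,
    θ.inv ≫ RW.map r ≫ c.inv, ?_⟩
  simp only [Category.assoc, Iso.hom_inv_id_assoc]
  rw [← RW.map_comp_assoc, hr, CategoryTheory.Functor.map_id, Category.id_comp, Iso.hom_inv_id]

end Groth.Agent.Lib.Helper5.KerFLF
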