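import Mathlib
import Groth.Agent.Lib.Helper5.KProj.Colim
import Groth.Agent.Lib.Helper5.Stalk.CellPull
import Groth.Agent.Lib.Helper5.Stalk.FlatFree
import Groth.Agent.Lib.Helper5.Stalk.LpullComp

/-!
# The tilde of the K-projective cellular resolution is cellular K-flat (helper5)
-/
set_option autoImplicit false
set_option linter.unusedSectionVars false
set_option linter.unusedVariables false
set_option linter.style.haveILetI false
universe u
open CategoryTheory CategoryTheory.Limits HomologicalComplex AlgebraicGeometry ZeroObject
attribute [local instance] HasDerivedCategory.standard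

namespace Groth.Agent.Lib.Helper5.TildeCell

open Groth.Agent.Lib.Helper5.StalkAdj Groth.Agent.Lib.Helper5.KFlatSiteQ
  Groth.Agent.Lib.Helper5.LpullLib Groth.Agent.Lib.Helper5.KProj

/-- free sheaves of modules are stalkwise flat -/
theorem flatMod_free (X : Scheme.{u}) (ι : Type u) :
    FlatMod.IsFlat (SheafOfModules.free.{u} ι : X.Modules) := by
  intro x
  have e := PreservesCoproduct.iso (stalkSh X x) (fun _ : ι => Coh.structureModule X)
  haveI : Projective ((stalkSh X x).obj (SheafOfModules.free.{u} ι : X.Modules)) :=
    Projective.of_iso e.symm (projective_sigma' _ fun _ => projective_stalk_unit X x)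
  have : Module.Projective (X.presheaf.stalk x)
      ((stalkSh X x).obj (SheafOfModules.free.{u} ι : X.Modules)) := inferInstance
  show Module.Flat (X.presheaf.stalk x) ((stalkSh X x).obj (SheafOfModules.free.{u} ι : X.Modules))
  infer_instance

variable (R : CommRingCat.{u})

/-- the tilde of a free module is a flat sheaf of modules -/
theorem isFlat_tilde_finsupp (ι : Type u) :
    ModSite.IsFlat (O := (Spec R).sheaf) ((tilde.functor R).obj (ModuleCat.of R (ι →₀ R))) := by
  have h1 : ModSite.IsFlat (O := (Spec R).sheaf) (SheafOfModules.free.{u} ι : (Spec R).Modules) :=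
    Groth.Agent.Lib.Helper5.Misc.StalkFlatSch.isFlat_of_flatMod _ (flatMod_free (Spec R) ι)
  exact Groth.Agent.S6146.isFlat_of_iso (tildeFinsupp (R := R) ι).symm h1

/-- termwise tilde of complexes -/
noncomputable abbrev tildeCx :
    CochainComplex (ModuleCat.{u} R) ℤ ⥤ CochainComplex (Spec R).Modules ℤ :=
  (tilde.functor R).mapHomologicalComplex (ComplexShape.up ℤ)

instance : PreservesColimitsOfShape ℕ (tildeCx R) := by
  apply HomologicalComplex.preservesColimitsOfShape_of_eval
  intro i
  have e : tildeCx R ⋙ HomologicalComplex.eval (Spec R).Modules (ComplexShape.up ℤ) i ≅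
      HomologicalComplex.eval (ModuleCat.{u} R) (ComplexShape.up ℤ) i ⋙ tilde.functor R :=
    NatIso.ofComponents (fun K => Iso.refl _) (fun φ => by
      simp only [Iso.refl_hom]; rfl)
  haveI : PreservesColimitsOfShape ℕ (tilde.functor R) :=
    (tilde.adjunction (R := R)).leftAdjoint_preservesColimits.preservesColimitsOfShape
  exact preservesColimitsOfShape_of_natIso e.symm

variable {R}

theorem cell_tilde_stage (X : CochainComplex (ModuleCat.{u} R) ℤ) (k : ℕ) :
    Cell (Spec R).sheaf ((tildeCx R).obj (stage X k).P) := by
  induction k with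
  | zero =>
    apply Cell.zero
    · intro i j
      show (tilde.functor R).map ((0 : CochainComplex (ModuleCat.{u} R) ℤ).d i j) = 0
      rw [show (0 : CochainComplex (ModuleCat.{u} R) ℤ).d i j = 0 from
        (Functor.map_isZero (HomologicalComplex.eval _ _ i) (Limits.isZero_zero _)).eq_of_src _ _,
        Functor.map_zero]
    · intro n
      apply Groth.Agent.S6149.isFlat_of_isZero
      exact Functor.map_isZero (tilde.functor R)
        (Functor.map_isZero (HomologicalComplex.eval _ _ n) (Limits.isZero_zero _))
  | succ k ih =>
    have hc : Cell (Spec R).sheaf ((tildeCx R).obj (cellCx (stage X k).f)) := by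
      apply Cell.zero
      · intro i j
        show (tilde.functor R).map ((cellCx (stage X k).f).d i j) = 0
        rw [cellCx_d, Functor.map_zero]
      · intro n
        exact isFlat_tilde_finsupp R _
    exact Cell.iso (CochainComplex.mappingCone.mapHomologicalComplexIso (cellMap (stage X k).f)
      (tilde.functor R)).symm (Cell.cone ((tildeCx R).map (cellMap (stage X k).f)) hc ih)

theorem cell_tilde_res (X : CochainComplex (ModuleCat.{u} R) ℤ) :
    Cell (Spec R).sheaf ((tildeCx R).obj (res X)) :=
  Cell.iso (preservesColimitIso (tildeCx R) (stageD X)).symm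
    (Cell.colim (stageD X ⋙ tildeCx R) (fun k => cell_tilde_stage X k))

theorem kft_tilde_res (X : CochainComplex (ModuleCat.{u} R) ℤ) : KFT ((tildeCx R).obj (res X)) :=
  kft_of_cell (cell_tilde_res X)

end Groth.Agent.Lib.Helper5.TildeCell
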