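import Mathlib
import Groth.Agent.Lib.Helper5.Perf.TildeCell
import Groth.Agent.Lib.Helper5.KProj.LBC
import Groth.Agent.Lib.Helper1.TildeBC

/-!
# Derived pullback of `M~` along `Spec B ⟶ Spec A` is `(M ⊗^L_A B)~` (helper5)
-/
set_option autoImplicit false
set_option linter.unusedSectionVars false
set_option linter.unusedVariables false
set_option linter.style.haveILetI false
universe u
open CategoryTheory CategoryTheory.Limits HomologicalComplex AlgebraicGeometry
attribute [local instance] HasDerivedCategory.standard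

namespace Groth.Agent.Lib.Helper5.TildeCell

open Groth.Agent.Lib.Helper5.StalkAdj Groth.Agent.Lib.Helper5.KFlatSiteQ
  Groth.Agent.Lib.Helper5.LpullLib Groth.Agent.Lib.Helper5.KProj
  Groth.Agent.Lib.Helper5.KProj.DerHo

section Generic

variable {K D H : Type*} [Category K] [Category D] [Category H] (L : K ⥤ D)
  (W : MorphismProperty K) [L.IsLocalization W]
  (N : K ⥤ H) (LN : D ⥤ H) (ε : L ⋙ LN ⟶ N) [LN.IsLeftDerivedFunctor ε W]
  (G : D ⥤ H) (α : L ⋙ G ⟶ N) (good : K → Prop)

/-- the canonical map to a left derived functor is an isomorphism as soon as both counits are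
isomorphisms on a class of objects which represents every object of the localization -/
theorem isIso_leftDerivedLift (hgood : ∀ E : D, ∃ P, good P ∧ Nonempty (L.obj P ≅ E))
    (hε : ∀ P, good P → IsIso (ε.app P)) (hα : ∀ P, good P → IsIso (α.app P)) :
    IsIso (LN.leftDerivedLift ε W G α) := by
  apply (config := { allowSynthFailures := true }) NatIso.isIso_of_isIso_app
  intro E
  obtain ⟨P, hP, ⟨e⟩⟩ := hgood E
  have hnat : (LN.leftDerivedLift ε W G α).app E =
      G.map e.inv ≫ (LN.leftDerivedLift ε W G α).app (L.obj P) ≫ LN.map e.hom := by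
    rw [(LN.leftDerivedLift ε W G α).naturality_assoc, ← CategoryTheory.Functor.map_comp,
      e.inv_hom_id, CategoryTheory.Functor.map_id, Category.comp_id]
  rw [hnat]
  haveI : IsIso ((LN.leftDerivedLift ε W G α).app (L.obj P)) := by
    have hfac := LN.leftDerived_fac_app ε W G α P
    haveI := hε P hP
    have h6 : IsIso ((LN.leftDerivedLift ε W G α).app (L.obj P) ≫ ε.app P) := by
      rw [hfac]; exact hα P hP
    exact IsIso.of_isIso_comp_right _ (ε.app P)
  infer_instance

end Generic

variable {R S : CommRingCat.{u}} (f : R ⟶ S)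
  [PreservesFiniteLimits (tilde.functor R)]
  [PreservesFiniteLimits (tilde.functor S)]


/-- the homotopy category of complexes of `R`-modules -/
abbrev KA (R : CommRingCat.{u}) := HomotopyCategory (ModuleCat.{u} R) (ComplexShape.up ℤ)

/-- quasi-isomorphisms -/
abbrev WA (R : CommRingCat.{u}) : MorphismProperty (KA R) :=
  HomotopyCategory.quasiIso (ModuleCat.{u} R) (ComplexShape.up ℤ)

/-- the naive functor `K(A) ⥤ D(Spec B)`, `M ↦ (M ⊗_A B)~` -/
noncomputable abbrev naive : KA R ⥤ DCoh.D (Spec S) :=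
  DRing.baseChangeKh f.hom ⋙ DCoh.tildeD S

instance : (naive f).HasLeftDerivedFunctor (WA R) := by
  haveI := hasPointwiseLeftDerivedFunctor (naive f) (hasKProjRes_moduleCat R)
  infer_instance

/-- the left derived functor of the naive functor -/
noncomputable abbrev LN : Dual.D R ⥤ DCoh.D (Spec S) :=
  (naive f).totalLeftDerived DerivedCategory.Qh (WA R)

/-- its counit -/
noncomputable abbrev LNε : DerivedCategory.Qh ⋙ LN f ⟶ naive f :=
  (naive f).totalLeftDerivedCounit DerivedCategory.Qh (WA R)

/-- the good complexes: the cellular K-projective resolutions -/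
def Good (P : KA R) : Prop :=
  ∃ X : CochainComplex (ModuleCat.{u} R) ℤ,
    P = (HomotopyCategory.quotient (ModuleCat.{u} R) (ComplexShape.up ℤ)).obj (res X)

theorem exists_good (E : Dual.D R) :
    ∃ P : KA R, Good P ∧ Nonempty (DerivedCategory.Qh.obj P ≅ E) := by
  let E₀ : CochainComplex (ModuleCat.{u} R) ℤ := DerivedCategory.Q.objPreimage E
  refine ⟨_, ⟨E₀, rfl⟩, ⟨?_⟩⟩
  have h : IsIso (DerivedCategory.Q.map (resMap E₀)) :=
    (DerivedCategory.isIso_Q_map_iff_quasiIso _ _).2 inferInstance
  have e1 : DerivedCategory.Q.obj (res E₀) ≅ DerivedCategory.Q.obj E₀ :=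
    @asIso _ _ _ _ (DerivedCategory.Q.map (resMap E₀)) h
  exact e1 ≪≫ DerivedCategory.Q.objObjPreimageIso E

theorem isIso_LNε_app (P : KA R) (hP : Good P) : IsIso ((LNε f).app P) := by
  obtain ⟨X, rfl⟩ := hP
  exact isIso_app_of_isKProjective (naive f) (hasKProjRes_moduleCat R) (LN f) (LNε f) (res X)

section Psi

variable [DRing.HasLBaseChange f.hom]

/-- the counit of derived base change -/
noncomputable abbrev lbcε : DerivedCategory.Qh ⋙ DRing.LBaseChange f.hom ⟶ DRing.baseChangeKh f.hom :=
  (DRing.baseChangeKh f.hom).totalLeftDerivedCounit DerivedCategory.Qh (WA R)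

/-- the comparison datum for `LBC ⋙ tilde` -/
noncomputable def αΨ :
    DerivedCategory.Qh ⋙ (DRing.LBaseChange f.hom ⋙ DCoh.tildeD S) ⟶ naive f :=
  (Functor.associator _ _ _).inv ≫ Functor.whiskerRight (lbcε f) (DCoh.tildeD S)

theorem isIso_αΨ_app (P : KA R) (hP : Good P) : IsIso ((αΨ f).app P) := by
  obtain ⟨X, rfl⟩ := hP
  haveI : IsIso ((lbcε f).app
      ((HomotopyCategory.quotient (ModuleCat.{u} R) (ComplexShape.up ℤ)).obj (res X))) :=
    isIso_app_of_isKProjective (DRing.baseChangeKh f.hom) (hasKProjRes_moduleCat R)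
      (DRing.LBaseChange f.hom) (lbcε f) (res X)
  dsimp only [αΨ, NatTrans.comp_app, Functor.associator_inv_app, Functor.whiskerRight_app]
  infer_instance

/-- `LBC ⋙ tilde ⟶ L(naive)` -/
noncomputable def liftΨ : DRing.LBaseChange f.hom ⋙ DCoh.tildeD S ⟶ LN f :=
  (LN f).leftDerivedLift (LNε f) (WA R) _ (αΨ f)

instance isIso_liftΨ : IsIso (liftΨ f) :=
  isIso_leftDerivedLift DerivedCategory.Qh (WA R) (naive f) (LN f) (LNε f) _ (αΨ f) Good
    exists_good (isIso_LNε_app f) (isIso_αΨ_app f)

end Psi

section Phi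

instance additive_extTilde :
    (ModuleCat.extendScalars.{u, u, u} f.hom ⋙ tilde.functor S).Additive := by
  haveI : (ModuleCat.extendScalars.{u, u, u} f.hom).Additive := DRing.additive_extendScalars f.hom
  infer_instance

variable [DCoh.HasLpull (Spec.map f)]

/-- the comparison datum for `tilde ⋙ Lf^*` -/
noncomputable def αΦ :
    DerivedCategory.Qh ⋙ (DCoh.tildeD R ⋙
      DCoh.Lpull (Spec.map f)) ⟶ naive f :=
  haveI := additive_extTilde f
  (Functor.associator _ _ _).inv ≫
    Functor.whiskerRight (tilde.functor R).mapDerivedCategoryFactorsh.hom _ ≫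
    (Functor.associator _ _ _).hom ≫
    Functor.whiskerLeft _ (lpullCounit (Spec.map f)) ≫
    (Functor.associator _ _ _).inv ≫
    Functor.whiskerRight ((Functor.mapHomotopyCategoryCompIso
      (Groth.Agent.Helper1.TildeBC.pullbackTildeIso f) (ComplexShape.up ℤ)).hom ≫
      (Functor.mapHomotopyCategoryCompIso (Iso.refl (ModuleCat.extendScalars.{u, u, u} f.hom ⋙
        tilde.functor S)) (ComplexShape.up ℤ)).inv) DerivedCategory.Qh ≫
    (Functor.associator _ _ _).hom ≫
    Functor.whiskerLeft _ (tilde.functor S).mapDerivedCategoryFactorsh.inv ≫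
    (Functor.associator _ _ _).inv

theorem isIso_αΦ_app (P : KA R) (hP : Good P) : IsIso ((αΦ f).app P) := by
  obtain ⟨X, rfl⟩ := hP
  haveI h2 : IsIso ((lpullCounit (Spec.map f)).app
      ((HomotopyCategory.quotient _ (ComplexShape.up ℤ)).obj
        ((tildeCx R).obj (res X)))) :=
    isIso_counit_app (adaptedCx (Spec.map f))
      (DCoh.Lpull (Spec.map f))
      (lpullCounit (Spec.map f)) _ (kft_tilde_res X)
  haveI h2' : IsIso ((lpullCounit (Spec.map f)).app
      (((tilde.functor R).mapHomotopyCategory (ComplexShape.up ℤ)).obj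
        ((HomotopyCategory.quotient (ModuleCat.{u} R) (ComplexShape.up ℤ)).obj (res X)))) := h2
  dsimp only [αΦ, NatTrans.comp_app, Functor.associator_inv_app, Functor.associator_hom_app,
    Functor.whiskerRight_app, Functor.whiskerLeft_app]
  simp only [Category.id_comp, Category.comp_id]
  infer_instance

/-- `tilde ⋙ Lf^* ⟶ L(naive)` -/
noncomputable def liftΦ : DCoh.tildeD R ⋙
    DCoh.Lpull (Spec.map f) ⟶ LN f :=
  (LN f).leftDerivedLift (LNε f) (WA R) _ (αΦ f)

instance isIso_liftΦ : IsIso (liftΦ f) :=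
  isIso_leftDerivedLift DerivedCategory.Qh (WA R) (naive f) (LN f) (LNε f) _ (αΦ f) Good
    exists_good (isIso_LNε_app f) (isIso_αΦ_app f)

end Phi

theorem lbc_tilde_iso [DRing.HasLBaseChange f.hom] [DCoh.HasLpull (Spec.map f)] :
    Nonempty (DRing.LBaseChange f.hom ⋙ DCoh.tildeD S ≅
      DCoh.tildeD R ⋙ DCoh.Lpull (Spec.map f)) :=
  ⟨asIso (liftΨ f) ≪≫ (asIso (liftΦ f)).symm⟩

end Groth.Agent.Lib.Helper5.TildeCell
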