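import Mathlib
import Groth.Prelude.Def_DCoh3
import Groth.Agent.Lib.Helper5.Perf.KerFLF
import Groth.Agent.Lib.Helper5.Perf.RpushOpen

/-!
# Cycles of a strictly perfect complex which is exact in high degrees are finite locally free
-/
set_option autoImplicit false
set_option linter.style.haveILetI false
universe u
open CategoryTheory CategoryTheory.Limits AlgebraicGeometry Opposite TopologicalSpace

namespace Groth.Agent.Lib.Helper5.CyclesFLF

open Groth.Agent.Lib.Helper5.ProjLocFree Groth.Agent.Lib.Helper5.KerFLF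
  Groth.Agent.Lead.FLF Groth.Agent.Lib.Helper5.RpushOpen

variable {X : Scheme.{u}}

/-- the map `E^i ⟶ Z^{i+1}` -/
noncomputable abbrev toZ (E : CochainComplex X.Modules ℤ) (i : ℤ) :
    E.X i ⟶ kernel (E.d (i + 1) (i + 1 + 1)) :=
  kernel.lift (E.d (i + 1) (i + 1 + 1)) (E.d i (i + 1)) (E.d_comp_d _ _ _)

theorem epi_toZ (E : CochainComplex X.Modules ℤ) (i : ℤ) (h : E.ExactAt (i + 1)) :
    Epi (toZ E i) := by
  have h1 : (E.sc' i (i + 1) (i + 1 + 1)).Exact :=
    (E.exactAt_iff' i (i + 1) (i + 1 + 1) (by simp) (by simp)).1 h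
  exact (ShortComplex.exact_iff_epi_kernel_lift _).1 h1

/-- `Z^i ≅ ker (E^i ⟶ Z^{i+1})` -/
noncomputable def kernelToZIso (E : CochainComplex X.Modules ℤ) (i : ℤ) :
    kernel (toZ E i) ≅ kernel (E.d i (i + 1)) :=
  (kernelCompMono (toZ E i) (kernel.ι (E.d (i + 1) (i + 1 + 1)))).symm ≪≫
    kernelIsoOfEq (kernel.lift_ι _ _ _)

theorem isFinLocFree_kernel_d {E : CochainComplex X.Modules ℤ} (hE : DCoh.IsStrictlyPerfect E)
    (m : ℤ) (hex : ∀ i : ℤ, m < i → E.ExactAt i) (i : ℤ) (hi : m ≤ i) :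
    FlatMod.IsFinLocFree (kernel (E.d i (i + 1))) := by
  obtain ⟨⟨a, b, hab⟩, hfl⟩ := hE
  have key : ∀ k : ℕ, ∀ i : ℤ, m ≤ i → b + 1 - k ≤ i →
      FlatMod.IsFinLocFree (kernel (E.d i (i + 1))) := by
    intro k
    induction k with
    | zero =>
      intro i _ hi2
      have hz : IsZero (E.X i) := hab i (Or.inr (by push_cast at hi2; omega))
      exact isFinLocFree_of_isZero _ (IsZero.of_mono (kernel.ι (E.d i (i + 1))) hz)
    | succ k ih =>
      intro i hi1 hi2
      by_cases h : b + 1 - (k : ℤ) ≤ i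
      · exact ih i hi1 h
      · have hZ : FlatMod.IsFinLocFree (kernel (E.d (i + 1) (i + 1 + 1))) :=
          ih (i + 1) (by omega) (by push_cast at hi2; omega)
        haveI : Epi (toZ E i) := epi_toZ E i (hex (i + 1) (by omega))
        exact isFinLocFree_of_iso (kernelToZIso E i)
          (isFinLocFree_kernel (toZ E i) (hfl i) hZ)
  exact key (b + 1 - i).toNat i hi (by omega)

end Groth.Agent.Lib.Helper5.CyclesFLF
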