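import Mathlib

/-!
# Homology commutes with the functor induced on derived categories by an exact functor
-/

set_option autoImplicit false
set_option linter.style.haveILetI false

universe w₁ w₂ v₁ v₂ u₁ u₂

open CategoryTheory CategoryTheory.Limits

namespace Groth.Agent.Lib.Helper5.ExactHom

variable {C₁ : Type u₁} [Category.{v₁} C₁] [Abelian C₁] [HasDerivedCategory.{w₁} C₁]
  {C₂ : Type u₂} [Category.{v₂} C₂] [Abelian C₂] [HasDerivedCategory.{w₂} C₂]
  (R : C₁ ⥤ C₂) [R.Additive] [PreservesFiniteLimits R] [PreservesFiniteColimits R]

/-- homology of complexes commutes with an exact functor -/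
noncomputable def cxHomologyIso (i : ℤ) :
    R.mapHomologicalComplex (ComplexShape.up ℤ) ⋙
        HomologicalComplex.homologyFunctor C₂ (ComplexShape.up ℤ) i ≅
      HomologicalComplex.homologyFunctor C₁ (ComplexShape.up ℤ) i ⋙ R :=
  NatIso.ofComponents (fun K => ShortComplex.mapHomologyIso (K.sc i) R)
    (fun {K L} f => ShortComplex.mapHomologyIso_hom_naturality
      ((HomologicalComplex.shortComplexFunctor C₁ (ComplexShape.up ℤ) i).map f) R)

/-- homology on the derived category commutes with an exact functor -/
noncomputable def derivedHomologyIso (i : ℤ) :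
    R.mapDerivedCategory ⋙ DerivedCategory.homologyFunctor C₂ i ≅
      DerivedCategory.homologyFunctor C₁ i ⋙ R :=
  Localization.liftNatIso DerivedCategory.Q
    (HomologicalComplex.quasiIso C₁ (ComplexShape.up ℤ))
    (DerivedCategory.Q ⋙ (R.mapDerivedCategory ⋙ DerivedCategory.homologyFunctor C₂ i))
    (DerivedCategory.Q ⋙ (DerivedCategory.homologyFunctor C₁ i ⋙ R)) _ _
    ((Functor.associator _ _ _).symm ≪≫
      Functor.isoWhiskerRight R.mapDerivedCategoryFactors
        (DerivedCategory.homologyFunctor C₂ i) ≪≫
      Functor.associator _ _ _ ≪≫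
      Functor.isoWhiskerLeft (R.mapHomologicalComplex (ComplexShape.up ℤ))
        (DerivedCategory.homologyFunctorFactors C₂ i) ≪≫
      cxHomologyIso R i ≪≫
      Functor.isoWhiskerRight (DerivedCategory.homologyFunctorFactors C₁ i).symm R ≪≫
      Functor.associator _ _ _)

variable {R}

theorem isIso_homology_map {A B : DerivedCategory C₁} (α : A ⟶ B) (i : ℤ)
    (h : IsIso ((DerivedCategory.homologyFunctor C₁ i).map α)) :
    IsIso ((DerivedCategory.homologyFunctor C₂ i).map (R.mapDerivedCategory.map α)) := by
  have : IsIso ((DerivedCategory.homologyFunctor C₁ i ⋙ R).map α) := by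
    dsimp only [Functor.comp_map]
    infer_instance
  exact (NatIso.isIso_map_iff (derivedHomologyIso R i) α).2 this

theorem epi_homology_map {A B : DerivedCategory C₁} (α : A ⟶ B) (i : ℤ)
    (h : Epi ((DerivedCategory.homologyFunctor C₁ i).map α)) :
    Epi ((DerivedCategory.homologyFunctor C₂ i).map (R.mapDerivedCategory.map α)) := by
  have h1 : Epi (R.map ((DerivedCategory.homologyFunctor C₁ i).map α)) := inferInstance
  have hn := (derivedHomologyIso R i).hom.naturality α
  have h2 : (DerivedCategory.homologyFunctor C₂ i).map (R.mapDerivedCategory.map α) =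
      (derivedHomologyIso R i).hom.app A ≫ R.map ((DerivedCategory.homologyFunctor C₁ i).map α) ≫
        (derivedHomologyIso R i).inv.app B := by
    have : (R.mapDerivedCategory ⋙ DerivedCategory.homologyFunctor C₂ i).map α ≫
        (derivedHomologyIso R i).hom.app B =
        (derivedHomologyIso R i).hom.app A ≫
          (DerivedCategory.homologyFunctor C₁ i ⋙ R).map α := hn
    dsimp only [Functor.comp_map] at this
    rw [← Category.assoc, ← this, Category.assoc, Iso.hom_inv_id_app]
    exact (Category.comp_id _).symm
  rw [h2]
  infer_instance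

end Groth.Agent.Lib.Helper5.ExactHom
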