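import Mathlib
import Groth.Prelude.Def_DCoh3
import Groth.Prelude.Def_DTor2
import Groth.Agent.Lib.Helper5.Perf.FpFlat
import Groth.Agent.Lib.Helper5.Perf.CyclesFLF
import Groth.Agent.Lib.Helper5.Misc.StalkFlatSch
import Groth.Agent.Lib.Helper5.KFlatSite2.CokerFlat
import Groth.Agent.Lib.Helper5.Misc.TensorSES
import Groth.Agent.Lib.Helper5.TwoTerm.Bij
import Groth.Agent.S6149
import Groth.Agent.Lib.Helper5.Perf.LocRepr
import Groth.Agent.Lib.Helper5.Perf.PerfTri
import Groth.Agent.Lib.Helper5.Perf.PCApprox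
import Groth.Agent.Lib.Helper5.Perf.ExactHom

/-!
# A pseudo-coherent object of finite flat amplitude is perfect
-/
set_option autoImplicit false
set_option linter.style.haveILetI false
universe u
open CategoryTheory CategoryTheory.Limits AlgebraicGeometry Opposite TopologicalSpace

attribute [local instance] HasDerivedCategory.standard

namespace Groth.Agent.Lib.Helper5.FlatPC

open Groth.Agent.Lib.Helper5.FpFlat Groth.Agent.Lib.Helper5.CyclesFLF
  Groth.Agent.Lib.Helper5.StalkAdj Groth.Agent.Lead.FLF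

variable {X : Scheme.{u}}

/-! ### flatness in short exact sequences -/

theorem flatMod_X₁ (S : ShortComplex X.Modules) (hS : S.ShortExact)
    (h₂ : FlatMod.IsFlat S.X₂) (h₃ : FlatMod.IsFlat S.X₃) : FlatMod.IsFlat S.X₁ :=
  Groth.Agent.Lib.Helper5.Pure.flatMod_of_isFlat _
    (Groth.Agent.Lib.Helper5.TensorSES.isFlat_X₁ (O := X.sheaf) S hS
      (Groth.Agent.Lib.Helper5.Misc.StalkFlatSch.isFlat_of_flatMod _ h₂)
      (Groth.Agent.Lib.Helper5.Misc.StalkFlatSch.isFlat_of_flatMod _ h₃))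

theorem flatMod_X₂ (S : ShortComplex X.Modules) (hS : S.ShortExact)
    (h₁ : FlatMod.IsFlat S.X₁) (h₃ : FlatMod.IsFlat S.X₃) : FlatMod.IsFlat S.X₂ :=
  Groth.Agent.Lib.Helper5.Pure.flatMod_of_isFlat _
    (Groth.Agent.Lib.Helper5.TensorSES.isFlat_X₂ (O := X.sheaf) S hS
      (Groth.Agent.Lib.Helper5.Misc.StalkFlatSch.isFlat_of_flatMod _ h₁)
      (Groth.Agent.Lib.Helper5.Misc.StalkFlatSch.isFlat_of_flatMod _ h₃))

theorem flatMod_of_isZero (M : X.Modules) (h : IsZero M) : FlatMod.IsFlat M :=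
  Groth.Agent.Lib.Helper5.Pure.flatMod_of_isFlat _
    (Groth.Agent.S6149.isFlat_of_isZero (O := X.sheaf) M h)

theorem flatMod_kernel {P Q : X.Modules} (π : P ⟶ Q) [Epi π] (hP : FlatMod.IsFlat P)
    (hQ : FlatMod.IsFlat Q) : FlatMod.IsFlat (kernel π) :=
  flatMod_X₁ (ShortComplex.mk (kernel.ι π) π (kernel.condition π))
    { exact := ShortComplex.exact_kernel π
      mono_f := inferInstanceAs (Mono (kernel.ι π))
      epi_g := inferInstanceAs (Epi π) } hP hQ

/-- the cycles of a bounded above complex which is flat and exact in high degrees are flat -/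
theorem flatMod_kernel_d (E : CochainComplex X.Modules ℤ) (b : ℤ)
    (hb : ∀ i : ℤ, b < i → IsZero (E.X i)) (m : ℤ) (hfl : ∀ i : ℤ, m ≤ i → FlatMod.IsFlat (E.X i))
    (hex : ∀ i : ℤ, m < i → E.ExactAt i) (i : ℤ) (hi : m ≤ i) :
    FlatMod.IsFlat (kernel (E.d i (i + 1))) := by
  have key : ∀ k : ℕ, ∀ i : ℤ, m ≤ i → b + 1 - k ≤ i →
      FlatMod.IsFlat (kernel (E.d i (i + 1))) := by
    intro k
    induction k with
    | zero =>
      intro i _ hi2
      have hz : IsZero (E.X i) := hb i (by push_cast at hi2; omega)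
      exact flatMod_of_isZero _ (IsZero.of_mono (kernel.ι (E.d i (i + 1))) hz)
    | succ k ih =>
      intro i hi1 hi2
      by_cases h : b + 1 - (k : ℤ) ≤ i
      · exact ih i hi1 h
      · have hZ : FlatMod.IsFlat (kernel (E.d (i + 1) (i + 1 + 1))) :=
          ih (i + 1) (by omega) (by push_cast at hi2; omega)
        haveI : Epi (toZ E i) := epi_toZ E i (hex (i + 1) (by omega))
        exact flatMod_of_iso (kernelToZIso E i)
          (flatMod_kernel (toZ E i) (hfl i hi1) hZ)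
  exact key (b + 1 - i).toNat i hi (by omega)

/-- in an exact complex, a term whose predecessor vanishes is isomorphic to the next cycles -/
theorem isIso_toZ (E : CochainComplex X.Modules ℤ) (i : ℤ) (h0 : IsZero (E.X (i - 1)))
    (h1 : E.ExactAt i) (h2 : E.ExactAt (i + 1)) : IsIso (toZ E i) := by
  haveI : Epi (toZ E i) := epi_toZ E i h2
  haveI : Mono (toZ E i) := by
    have hz : IsZero (kernel (E.d i (i + 1))) := by
      have hex : (E.sc' (i - 1) i (i + 1)).Exact :=
        (E.exactAt_iff' (i - 1) i (i + 1) (by simp) (by simp)).1 h1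
      haveI : Epi (kernel.lift (E.d i (i + 1)) (E.d (i - 1) i) (E.d_comp_d _ _ _)) :=
        (ShortComplex.exact_iff_epi_kernel_lift _).1 hex
      exact IsZero.of_epi (kernel.lift (E.d i (i + 1)) (E.d (i - 1) i) (E.d_comp_d _ _ _)) h0
    have hz' : IsZero (kernel (toZ E i)) := IsZero.of_iso hz (kernelToZIso E i)
    exact Preadditive.mono_of_kernel_zero (hz'.eq_of_src _ _)
  exact isIso_of_mono_of_epi _

/-! ### mapping cones -/

open CochainComplex in
theorem isZero_mappingCone_X {K₁ K₂ : CochainComplex X.Modules ℤ} (φ : K₁ ⟶ K₂) (p : ℤ)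
    (h1 : IsZero (K₁.X (p + 1))) (h2 : IsZero (K₂.X p)) : IsZero ((mappingCone φ).X p) := by
  refine IsZero.of_iso ?_ (mappingCone.triangleRotateShortComplexSplitting φ p).isoBinaryBiproduct
  rw [IsZero.iff_id_eq_zero]
  apply biprod.hom_ext
  · exact h2.eq_of_tgt _ _
  · exact h1.eq_of_tgt _ _

open CochainComplex in
theorem flatMod_mappingCone_X {K₁ K₂ : CochainComplex X.Modules ℤ} (φ : K₁ ⟶ K₂) (n : ℤ)
    (h₁ : FlatMod.IsFlat (K₁.X (n + 1))) (h₂ : FlatMod.IsFlat (K₂.X n)) :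
    FlatMod.IsFlat ((mappingCone φ).X n) :=
  flatMod_X₂ _ (mappingCone.triangleRotateShortComplexSplitting φ n).shortExact h₂ h₁

open CochainComplex in
theorem flatMod_of_mappingCone_X {K₁ K₂ : CochainComplex X.Modules ℤ} (φ : K₁ ⟶ K₂) (n : ℤ)
    (hz : IsZero (K₂.X n)) (h : FlatMod.IsFlat ((mappingCone φ).X n)) :
    FlatMod.IsFlat (K₁.X (n + 1)) := by
  have hS := (mappingCone.triangleRotateShortComplexSplitting φ n).shortExact
  haveI := hS.epi_g
  haveI : Mono ((mappingCone.triangleRotateShortComplex φ).map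
      (HomologicalComplex.eval _ _ n)).g := hS.exact.mono_g (hz.eq_of_src _ _)
  have hiso : IsIso ((mappingCone.triangleRotateShortComplex φ).map
      (HomologicalComplex.eval _ _ n)).g := isIso_of_mono_of_epi _
  exact flatMod_of_iso (@asIso _ _ _ _ _ hiso) h

/-! ### the canonical truncation of an approximation -/

section Gen

variable {A : Type*} [Category A] [Abelian A]

/-- opcycles as a cokernel -/
noncomputable def opcyclesCokerIso (K : CochainComplex A ℤ) (n : ℤ) :
    K.opcycles n ≅ cokernel (K.d (n - 1) n) :=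
  ShortComplex.opcyclesMapIso (K.isoSc' (n - 1) n (n + 1) (by simp) (by simp)) ≪≫
    (K.sc' (n - 1) n (n + 1)).opcyclesIsoCokernel

end Gen

theorem hasCokerCharts_of_coker_flf (F : X.Modules) {P Z : X.Modules} (t : P ⟶ Z)
    (hP : FlatMod.IsFinLocFree P) (hZ : FlatMod.IsFinLocFree Z) (e : F ≅ cokernel t) :
    HasCokerCharts F := by
  intro x
  obtain ⟨W, hxW, hW⟩ := Groth.Agent.Lib.Helper5.AffLocal.exists_free_nhd_finset'
    (Finset.univ : Finset Bool) (fun i => if i then P else Z)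
    (fun i => by cases i <;> simpa) x
  obtain ⟨a, ⟨θP⟩⟩ := hW true (Finset.mem_univ _)
  obtain ⟨b, ⟨θZ⟩⟩ := hW false (Finset.mem_univ _)
  simp only [if_true] at θP
  simp only [Bool.false_eq_true, if_false] at θZ
  let RW := Scheme.Modules.restrictFunctor W.ι
  exact ⟨W, W.ι, inferInstance, a, b, ⟨⟨x, hxW⟩, rfl⟩,
    θP.inv ≫ RW.map t ≫ θZ.hom,
    ⟨RW.mapIso e ≪≫ Groth.Agent.Lib.Helper5.FtFp.cokernelTransportIso RW t θP θZ⟩⟩

open CochainComplex in
/-- **chain level**: if `β : K ⟶ F` is a quasi-isomorphism in degrees `≥ a` from a strictly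
perfect complex to a complex of flat modules vanishing outside `[a, b]`, then the canonical
truncation `τ_{≥ a} K` is strictly perfect and isomorphic to `F` in the derived category -/
theorem truncGE_perfect {F K : CochainComplex X.Modules ℤ} {a b : ℤ}
    (hF : DCoh.VanishesOutside F a b) (hFfl : ∀ i : ℤ, FlatMod.IsFlat (F.X i))
    (hK : DCoh.IsStrictlyPerfect K) (β : K ⟶ F) (hβ : ∀ i : ℤ, a ≤ i → QuasiIsoAt β i) :
    DCoh.IsStrictlyPerfect (K.truncGE a) ∧
      Nonempty (DerivedCategory.Q.obj F ≅ DerivedCategory.Q.obj (K.truncGE a)) := by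
  haveI hFge : F.IsStrictlyGE a := by
    rw [CochainComplex.isStrictlyGE_iff]
    exact fun i hi => hF i (Or.inl hi)
  obtain ⟨L, hL⟩ : ∃ L : CochainComplex X.Modules ℤ, L = K.truncGE a := ⟨_, rfl⟩
  haveI : QuasiIso (CochainComplex.truncGEMap β a) :=
    (CochainComplex.quasiIso_truncGEMap_iff β a).2 hβ
  obtain ⟨γ, hγ⟩ : ∃ γ : K.truncGE a ⟶ F,
      γ = CochainComplex.truncGEMap β a ≫ inv (F.πTruncGE a) := ⟨_, rfl⟩
  haveI : QuasiIso γ := by
    rw [hγ]
    infer_instance
  haveI : IsIso (DerivedCategory.Q.map γ) :=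
    (DerivedCategory.isIso_Q_map_iff_quasiIso _ γ).2 inferInstance
  obtain ⟨⟨a', b', hab'⟩, hKfl⟩ := hK
  have hLX : ∀ i : ℤ, a < i → ((K.truncGE a).X i ≅ K.X i) := fun i hi => K.truncGEXIso a i hi
  have hLz : ∀ i : ℤ, i < a → IsZero ((K.truncGE a).X i) := fun i hi =>
    (K.truncGE a).isZero_of_isStrictlyGE a i hi
  have hLflf : ∀ i : ℤ, a < i → FlatMod.IsFinLocFree ((K.truncGE a).X i) := fun i hi =>
    isFinLocFree_of_iso (hLX i hi).symm (hKfl i)
  -- the cone of `γ`
  have hCac : (mappingCone γ).Acyclic := Helper5.TwoTerm.acyclic_mappingCone γ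
  have hCfl : ∀ i : ℤ, a ≤ i → FlatMod.IsFlat ((mappingCone γ).X i) := fun i hi =>
    flatMod_mappingCone_X γ i
      (Groth.Agent.Lib.Helper5.StalkAdj.flatMod_of_isFinLocFree _ (hLflf (i + 1) (by omega)))
      (hFfl i)
  have hCz : ∀ i : ℤ, max (max b b') a < i → IsZero ((mappingCone γ).X i) := fun i hi =>
    isZero_mappingCone_X γ i
      (IsZero.of_iso (hab' (i + 1) (Or.inr (by omega))) (hLX (i + 1) (by omega)))
      (hF i (Or.inr (by omega)))
  have hCz' : IsZero ((mappingCone γ).X (a - 1 - 1)) :=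
    isZero_mappingCone_X γ (a - 1 - 1) (hLz _ (by omega)) (hF _ (Or.inl (by omega)))
  have hZfl : FlatMod.IsFlat (kernel ((mappingCone γ).d (a - 1 + 1) (a - 1 + 1 + 1))) :=
    flatMod_kernel_d (mappingCone γ) (max (max b b') a) hCz a hCfl (fun i _ => hCac i) (a - 1 + 1)
      (by omega)
  haveI := isIso_toZ (mappingCone γ) (a - 1) hCz' (hCac _) (hCac _)
  have hC1 : FlatMod.IsFlat ((mappingCone γ).X (a - 1)) :=
    flatMod_of_iso (asIso (toZ (mappingCone γ) (a - 1))).symm hZfl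
  have hLa' : FlatMod.IsFlat ((K.truncGE a).X (a - 1 + 1)) :=
    flatMod_of_mappingCone_X γ (a - 1) (hF _ (Or.inl (by omega))) hC1
  have hLa : FlatMod.IsFlat ((K.truncGE a).X a) :=
    flatMod_of_iso (HomologicalComplex.XIsoOfEq _ (by omega)) hLa'
  -- finite local freeness of the boundary term
  have hLaflf : FlatMod.IsFinLocFree ((K.truncGE a).X a) :=
    isFinLocFree_of_hasCokerCharts _
      (hasCokerCharts_of_coker_flf _ (K.d (a - 1) a) (hKfl _) (hKfl _)
        (K.truncGEXIsoOpcycles a ≪≫ opcyclesCokerIso K a)) hLa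
  refine ⟨⟨⟨a, max a b', fun i hi => ?_⟩, fun i => ?_⟩,
    ⟨(asIso (DerivedCategory.Q.map γ)).symm⟩⟩
  · rcases hi with hi | hi
    · exact hLz i hi
    · exact IsZero.of_iso (hab' i (Or.inr (by omega))) (hLX i (by omega))
  · rcases lt_trichotomy i a with h | h | h
    · exact Groth.Agent.Lib.Helper5.RpushOpen.isFinLocFree_of_isZero _ (hLz i h)
    · subst h
      exact hLaflf
    · exact hLflf i h

/-! ### the derived category level -/

open Groth.Agent.Lib.Helper5.PerfTri Groth.Agent.Lib.Helper5.LocRepr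
  Groth.Agent.Lib.Helper5.PCApprox Groth.Agent.Lib.Helper5.ExactHom

theorem quasiIsoAt_of_isIso_homology_Q_map {A : Type*} [Category A] [Abelian A]
    [HasDerivedCategory A] {K L : CochainComplex A ℤ} (β : K ⟶ L) (i : ℤ)
    (h : IsIso ((DerivedCategory.homologyFunctor A i).map (DerivedCategory.Q.map β))) :
    QuasiIsoAt β i := by
  rw [quasiIsoAt_iff_isIso_homologyMap]
  have h1 : IsIso ((DerivedCategory.Q ⋙ DerivedCategory.homologyFunctor A i).map β) := h
  exact (NatIso.isIso_map_iff (DerivedCategory.homologyFunctorFactors A i) β).1 h1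

theorem exists_LPD_of_approx {U : Scheme.{u}} {F K : CochainComplex U.Modules ℤ} {a b : ℤ}
    (hF : DCoh.VanishesOutside F a b) (hFfl : ∀ i : ℤ, FlatMod.IsFlat (F.X i))
    (hK : DCoh.IsStrictlyPerfect K)
    (α : DerivedCategory.Q.obj K ⟶ DerivedCategory.Q.obj F)
    (hα : ∀ i : ℤ, a ≤ i → IsIso ((DerivedCategory.homologyFunctor _ i).map α)) (x : U) :
    ∃ W : U.Opens, x ∈ W ∧ LPD W.ι (DerivedCategory.Q.obj F) := by
  obtain ⟨W, hxW, hW⟩ := locally_represented hK α x
  obtain ⟨β, hβ⟩ := hW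
  refine ⟨W, hxW, ?_⟩
  have hβq : ∀ i : ℤ, a ≤ i → QuasiIsoAt β i := by
    intro i hi
    apply quasiIsoAt_of_isIso_homology_Q_map
    have h1 : IsIso ((DerivedCategory.homologyFunctor _ i).map ((DCoh.restrictD W.ι).map α)) :=
      isIso_homology_map α i (hα i hi)
    rw [hβ, Functor.map_comp, Functor.map_comp] at h1
    haveI := h1
    haveI := IsIso.of_isIso_comp_left
      ((DerivedCategory.homologyFunctor _ i).map
        ((Scheme.Modules.restrictFunctor W.ι).mapDerivedCategoryFactors.hom.app K))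
      ((DerivedCategory.homologyFunctor _ i).map (DerivedCategory.Q.map β) ≫
        (DerivedCategory.homologyFunctor _ i).map
          ((Scheme.Modules.restrictFunctor W.ι).mapDerivedCategoryFactors.inv.app F))
    exact IsIso.of_isIso_comp_right
      ((DerivedCategory.homologyFunctor _ i).map (DerivedCategory.Q.map β))
      ((DerivedCategory.homologyFunctor _ i).map
        ((Scheme.Modules.restrictFunctor W.ι).mapDerivedCategoryFactors.inv.app F))
  obtain ⟨hL, ⟨e⟩⟩ := truncGE_perfect (X := W) (F := (DCoh.restrictCx W).obj F)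
    (K := (DCoh.restrictCx W).obj K) (a := a) (b := b)
    (fun i hi => Functor.map_isZero (Scheme.Modules.restrictFunctor W.ι) (hF i hi))
    (fun i => flatMod_restrict W.ι _ (hFfl i))
    (isStrictlyPerfect_restrict W.ι hK) β hβq
  exact ⟨_, hL, ⟨(Scheme.Modules.restrictFunctor W.ι).mapDerivedCategoryFactors.app F ≪≫ e⟩⟩

/-- **an `(a - 1)`-pseudo-coherent object with flat amplitude in `[a, b]` is perfect** -/
theorem isPerfect_of_flatAmplitude_of_pseudoCoherent (E : DCoh.D X) (a b : ℤ)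
    (h1 : DCoh.HasFlatAmplitudeIn a b E) (h2 : DCoh.IsPseudoCoherentD (a - 1) E) :
    DCoh.IsPerfect E := by
  obtain ⟨F, hF, hFfl, ⟨eF⟩⟩ := h1
  apply isPerfect_of_LPD
  intro x
  obtain ⟨V, hxV, K, α, hK, hα⟩ := exists_approx_of_isPC h2 x
  let FV : CochainComplex (V : Scheme.{u}).Modules ℤ := (DCoh.restrictCx V).obj F
  let eV : (DCoh.restrictD V.ι).obj E ≅ DerivedCategory.Q.obj FV :=
    (DCoh.restrictD V.ι).mapIso eF.symm ≪≫
      (Scheme.Modules.restrictFunctor V.ι).mapDerivedCategoryFactors.app F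
  have hα' : ∀ i : ℤ, a ≤ i → IsIso ((DerivedCategory.homologyFunctor _ i).map (α ≫ eV.hom)) := by
    intro i hi
    haveI := hα.1 i (by omega)
    rw [Functor.map_comp]
    infer_instance
  obtain ⟨W, hxW, hW⟩ := exists_LPD_of_approx (U := V) (F := FV) (K := K) (a := a) (b := b)
    (fun i hi => Functor.map_isZero (Scheme.Modules.restrictFunctor V.ι) (hF i hi))
    (fun i => flatMod_restrict V.ι _ (hFfl i)) hK (α ≫ eV.hom) hα' ⟨x, hxV⟩
  have h3 : LPD W.ι ((DCoh.restrictD V.ι).obj E) := by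
    obtain ⟨L, hL, ⟨i⟩⟩ := hW
    exact ⟨L, hL, ⟨(DCoh.restrictD W.ι).mapIso eV ≪≫ i⟩⟩
  obtain ⟨L, hL, ⟨i⟩⟩ := h3
  exact ⟨W, W.ι ≫ V.ι, inferInstance, ⟨⟨⟨x, hxV⟩, hxW⟩, rfl⟩,
    ⟨L, hL, ⟨restrictDCompObjIso W.ι V.ι E ≪≫ i⟩⟩⟩

end Groth.Agent.Lib.Helper5.FlatPC
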