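import Mathlib

/-!
# Four/five lemma for the homology of a morphism of distinguished triangles in the derived category
-/

set_option autoImplicit false

universe w v u

open CategoryTheory CategoryTheory.Limits CategoryTheory.Pretriangulated

namespace Groth.Agent.Lib.Helper5.HomFive

variable {C : Type u} [Category.{v} C] [Abelian C] [HasDerivedCategory.{w} C]

open DerivedCategory ComposableArrows

section

variable {T T' : Triangle (DerivedCategory C)} (φ : T ⟶ T') (n n' : ℤ) (h : n + 1 = n')

/-- the morphism between the six term exact sequences -/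
noncomputable def seqHom :
    (homologyFunctor C 0).homologySequenceComposableArrows₅ T n n' h ⟶
      (homologyFunctor C 0).homologySequenceComposableArrows₅ T' n n' h :=
  homMk₅ ((homologyFunctor C n).map φ.hom₁) ((homologyFunctor C n).map φ.hom₂)
    ((homologyFunctor C n).map φ.hom₃) ((homologyFunctor C n').map φ.hom₁)
    ((homologyFunctor C n').map φ.hom₂) ((homologyFunctor C n').map φ.hom₃)
    (by
      change (homologyFunctor C n).map T.mor₁ ≫ (homologyFunctor C n).map φ.hom₂ =
        (homologyFunctor C n).map φ.hom₁ ≫ (homologyFunctor C n).map T'.mor₁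
      rw [← Functor.map_comp, ← Functor.map_comp, φ.comm₁])
    (by
      change (homologyFunctor C n).map T.mor₂ ≫ (homologyFunctor C n).map φ.hom₃ =
        (homologyFunctor C n).map φ.hom₂ ≫ (homologyFunctor C n).map T'.mor₂
      rw [← Functor.map_comp, ← Functor.map_comp, φ.comm₂])
    (by
      exact ((homologyFunctor C 0).homologySequenceδ_naturality T T' φ n n' h).symm)
    (by
      change (homologyFunctor C n').map T.mor₁ ≫ (homologyFunctor C n').map φ.hom₂ =
        (homologyFunctor C n').map φ.hom₁ ≫ (homologyFunctor C n').map T'.mor₁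
      rw [← Functor.map_comp, ← Functor.map_comp, φ.comm₁])
    (by
      change (homologyFunctor C n').map T.mor₂ ≫ (homologyFunctor C n').map φ.hom₃ =
        (homologyFunctor C n').map φ.hom₂ ≫ (homologyFunctor C n').map T'.mor₂
      rw [← Functor.map_comp, ← Functor.map_comp, φ.comm₂])

variable (hT : T ∈ distTriang _) (hT' : T' ∈ distTriang _)

include hT hT' h in
/-- five lemma -/
theorem isIso_homology_hom₃
    (h₁ : Epi ((homologyFunctor C n).map φ.hom₁))
    (h₂ : IsIso ((homologyFunctor C n).map φ.hom₂))
    (h₃ : IsIso ((homologyFunctor C n').map φ.hom₁))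
    (h₄ : Mono ((homologyFunctor C n').map φ.hom₂)) :
    IsIso ((homologyFunctor C n).map φ.hom₃) := by
  have hR₁ := (homologyFunctor C 0).homologySequenceComposableArrows₅_exact T hT n n' h
  have hR₂ := (homologyFunctor C 0).homologySequenceComposableArrows₅_exact T' hT' n n' h
  exact Abelian.isIso_of_epi_of_isIso_of_isIso_of_mono' (k := 0) (by omega) hR₁ hR₂
    (seqHom φ n n' h) 0 1 2 3 4 rfl rfl rfl rfl rfl h₁ h₂ h₃ h₄

include hT hT' h in
/-- four lemma (epi) -/
theorem epi_homology_hom₃
    (h₂ : Epi ((homologyFunctor C n).map φ.hom₂))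
    (h₃ : Epi ((homologyFunctor C n').map φ.hom₁))
    (h₄ : Mono ((homologyFunctor C n').map φ.hom₂)) :
    Epi ((homologyFunctor C n).map φ.hom₃) := by
  have hR₁ := (homologyFunctor C 0).homologySequenceComposableArrows₅_exact T hT n n' h
  have hR₂ := (homologyFunctor C 0).homologySequenceComposableArrows₅_exact T' hT' n n' h
  exact Abelian.epi_of_epi_of_epi_of_mono'' (k := 1) (by omega) hR₁ hR₂
    (seqHom φ n n' h) 1 2 3 4 rfl rfl rfl rfl h₂ h₃ h₄

end

end Groth.Agent.Lib.Helper5.HomFive
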