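import Mathlib
import Groth.Prelude.Def_DCoh3
import Groth.Agent.Lib.Helper5.Perf.PerfTri
import Groth.Agent.Lib.Helper5.Perf.ExactHom
import Groth.Agent.Lib.Helper5.Misc.StupidTruncH
import Groth.Agent.Lib.Helper5.Perf.RpushOpen
import Groth.Agent.Lib.Lead.FLF1

/-!
# Approximations by strictly perfect complexes (pseudo-coherence), basic transfer lemmas
-/

set_option autoImplicit false
set_option linter.style.haveILetI false

universe u

open CategoryTheory CategoryTheory.Limits AlgebraicGeometry Opposite TopologicalSpace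
  CategoryTheory.Pretriangulated

attribute [local instance] HasDerivedCategory.standard

namespace Groth.Agent.Lib.Helper5.PCApprox

open Groth.Agent.Lib.Helper5.LocQis Groth.Agent.Lib.Helper5.LocNull
  Groth.Agent.Lib.Helper5.StalkAdj Groth.Agent.Lib.Helper5.LocRepr
  Groth.Agent.Lib.Helper5.PerfTri Groth.Agent.Lib.Helper5.ExactHom
  Groth.Agent.Lib.Helper5.Misc.StupidTrunc

section Gen

variable {C : Type*} [Category C] {D : Type*} [Category D]

theorem epi_map_iff_of_natIso {F G : C ⥤ D} (e : F ≅ G) {X Y : C} (f : X ⟶ Y) :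
    Epi (F.map f) ↔ Epi (G.map f) := by
  constructor
  · intro h
    rw [← NatIso.naturality_1 e f]
    infer_instance
  · intro h
    rw [← NatIso.naturality_2 e f]
    infer_instance

end Gen

variable {U : Scheme.{u}}

/-- `α` is an isomorphism on `H^i` for `i > m` and an epimorphism on `H^m` -/
def IsApprox (m : ℤ) {A B : DCoh.D U} (α : A ⟶ B) : Prop :=
  (∀ i : ℤ, m < i → IsIso ((DerivedCategory.homologyFunctor _ i).map α)) ∧
    Epi ((DerivedCategory.homologyFunctor _ m).map α)

theorem IsApprox.comp_iso {m : ℤ} {A B B' : DCoh.D U} {α : A ⟶ B} (h : IsApprox m α)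
    (e : B ≅ B') : IsApprox m (α ≫ e.hom) := by
  refine ⟨fun i hi => ?_, ?_⟩
  · haveI := h.1 i hi
    rw [Functor.map_comp]
    infer_instance
  · haveI := h.2
    rw [Functor.map_comp]
    infer_instance

theorem IsApprox.iso_comp {m : ℤ} {A A' B : DCoh.D U} {α : A ⟶ B} (h : IsApprox m α)
    (e : A' ≅ A) : IsApprox m (e.hom ≫ α) := by
  refine ⟨fun i hi => ?_, ?_⟩
  · haveI := h.1 i hi
    rw [Functor.map_comp]
    infer_instance
  · haveI := h.2
    rw [Functor.map_comp]
    infer_instance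

theorem IsApprox.epi {m : ℤ} {A B : DCoh.D U} {α : A ⟶ B} (h : IsApprox m α) (i : ℤ)
    (hi : m ≤ i) : Epi ((DerivedCategory.homologyFunctor _ i).map α) := by
  rcases hi.lt_or_eq with h1 | h1
  · haveI := h.1 i h1
    infer_instance
  · subst h1
    exact h.2

/-- restriction of an approximation along an open immersion -/
theorem IsApprox.restrict {m : ℤ} {A B : DCoh.D U} {α : A ⟶ B} (h : IsApprox m α)
    {U' : Scheme.{u}} (k : U' ⟶ U) [IsOpenImmersion k] :
    IsApprox m ((DCoh.restrictD k).map α) :=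
  ⟨fun i hi => isIso_homology_map α i (h.1 i hi), epi_homology_map α m h.2⟩

/-- `K` admits an `m`-approximation by a strictly perfect complex -/
def Approx (m : ℤ) (K : DCoh.D U) : Prop :=
  ∃ (E : CochainComplex U.Modules ℤ) (α : DerivedCategory.Q.obj E ⟶ K),
    DCoh.IsStrictlyPerfect E ∧ IsApprox m α

/-- `K` admits an `m`-approximation by a strictly perfect complex vanishing below degree `m` -/
def ApproxT (m : ℤ) (K : DCoh.D U) : Prop :=
  ∃ (E : CochainComplex U.Modules ℤ) (α : DerivedCategory.Q.obj E ⟶ K),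
    DCoh.IsStrictlyPerfect E ∧ (∀ i : ℤ, i < m → IsZero (E.X i)) ∧ IsApprox m α

theorem Approx.of_iso {m : ℤ} {K K' : DCoh.D U} (h : Approx m K) (e : K ≅ K') :
    Approx m K' := by
  obtain ⟨E, α, hE, hα⟩ := h
  exact ⟨E, α ≫ e.hom, hE, hα.comp_iso e⟩

theorem Approx.restrict {m : ℤ} {K : DCoh.D U} (h : Approx m K)
    {U' : Scheme.{u}} (k : U' ⟶ U) [IsOpenImmersion k] :
    Approx m ((DCoh.restrictD k).obj K) := by
  obtain ⟨E, α, hE, hα⟩ := h
  exact ⟨(RCx k).obj E,
    ((Scheme.Modules.restrictFunctor k).mapDerivedCategoryFactors.app E).inv ≫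
      (DCoh.restrictD k).map α, isStrictlyPerfect_restrict k hE,
    (hα.restrict k).iso_comp ((Scheme.Modules.restrictFunctor k).mapDerivedCategoryFactors.app E).symm⟩

theorem isStrictlyPerfect_sigmaGE {E : CochainComplex U.Modules ℤ}
    (hE : DCoh.IsStrictlyPerfect E) (a : ℤ) : DCoh.IsStrictlyPerfect (sigmaGE E a) := by
  obtain ⟨⟨a₀, b₀, hab⟩, hfl⟩ := hE
  refine ⟨⟨a₀, b₀, fun i hi => ?_⟩, fun i => ?_⟩
  · by_cases h : a ≤ i
    · haveI := isIso_ιGE_f E h
      exact IsZero.of_iso (hab i hi) (asIso ((ιGE E a).f i))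
    · exact isZero_tX E h
  · by_cases h : a ≤ i
    · haveI := isIso_ιGE_f E h
      exact Groth.Agent.Lead.FLF.isFinLocFree_of_iso (asIso ((ιGE E a).f i)).symm
        (hfl i)
    · exact Groth.Agent.Lib.Helper5.RpushOpen.isFinLocFree_of_isZero _ (isZero_tX E h)

theorem Approx.approxT {m : ℤ} {K : DCoh.D U} (h : Approx m K) : ApproxT m K := by
  obtain ⟨E, α, hE, hα⟩ := h
  refine ⟨sigmaGE E m, DerivedCategory.Q.map (ιGE E m) ≫ α, isStrictlyPerfect_sigmaGE hE m,
    fun i hi => isZero_sigmaGE_X E hi, ⟨fun i hi => ?_, ?_⟩⟩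
  · haveI := hα.1 i hi
    haveI : IsIso ((DerivedCategory.homologyFunctor _ i).map
        (DerivedCategory.Q.map (ιGE E m))) := by
      have h1 : IsIso ((HomologicalComplex.homologyFunctor _ (ComplexShape.up ℤ) i).map
        (ιGE E m)) := isIso_homologyMap_ιGE E m i hi
      exact (NatIso.isIso_map_iff (DerivedCategory.homologyFunctorFactors _ i) (ιGE E m)).2 h1
    rw [Functor.map_comp]
    infer_instance
  · haveI := hα.2
    haveI : Epi ((DerivedCategory.homologyFunctor _ m).map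
        (DerivedCategory.Q.map (ιGE E m))) := by
      have h1 : Epi ((HomologicalComplex.homologyFunctor _ (ComplexShape.up ℤ) m).map
        (ιGE E m)) := epi_homologyMap_ιGE E m
      exact (epi_map_iff_of_natIso (DerivedCategory.homologyFunctorFactors _ m) (ιGE E m)).2 h1
    rw [Functor.map_comp]
    infer_instance

variable {X : Scheme.{u}}

theorem approx_comp {m : ℤ} {U U' : Scheme.{u}} (k : U' ⟶ U) (j : U ⟶ X)
    [IsOpenImmersion k] [IsOpenImmersion j] {K : DCoh.D X}
    (h : Approx m ((DCoh.restrictD j).obj K)) : Approx m ((DCoh.restrictD (k ≫ j)).obj K) :=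
  (h.restrict k).of_iso (restrictDCompObjIso k j K).symm

theorem approx_congr {m : ℤ} {U : Scheme.{u}} {j j' : U ⟶ X} [IsOpenImmersion j]
    [IsOpenImmersion j'] (hj : j = j') {K : DCoh.D X}
    (h : Approx m ((DCoh.restrictD j).obj K)) : Approx m ((DCoh.restrictD j').obj K) := by
  subst hj
  exact h

theorem exists_approx_of_isPC {m : ℤ} {K : DCoh.D X} (hK : DCoh.IsPseudoCoherentD m K) (x : X) :
    ∃ V : X.Opens, x ∈ V ∧ Approx m ((DCoh.restrictD V.ι).obj K) := by
  obtain ⟨V, hxV, hV⟩ := hK x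
  let F : CochainComplex X.Modules ℤ := DerivedCategory.Q.objPreimage K
  let e : DerivedCategory.Q.obj F ≅ K := DerivedCategory.Q.objObjPreimageIso K
  obtain ⟨E, α, hE, h1, h2⟩ := hV F ⟨e⟩
  have hA : Approx m (DerivedCategory.Q.obj ((DCoh.restrictCx V).obj F)) := ⟨E, α, hE, h1, h2⟩
  exact ⟨V, hxV, hA.of_iso
    (((Scheme.Modules.restrictFunctor V.ι).mapDerivedCategoryFactors.app F).symm ≪≫
      (DCoh.restrictD V.ι).mapIso e)⟩

theorem isPC_of_approx {m : ℤ} {K : DCoh.D X}
    (h : ∀ x : X, ∃ (U : Scheme.{u}) (j : U ⟶ X) (_ : IsOpenImmersion j),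
      x ∈ Set.range j.base ∧ Approx m ((DCoh.restrictD j).obj K)) :
    DCoh.IsPseudoCoherentD m K := by
  intro x
  obtain ⟨U, j, hj, hx, hjK⟩ := h x
  have h1 : Approx m ((DCoh.restrictD j.opensRange.ι).obj K) :=
    approx_congr (Scheme.Hom.isoOpensRange_inv_comp j) (approx_comp j.isoOpensRange.inv j hjK)
  refine ⟨j.opensRange, hx, fun F ⟨eF⟩ => ?_⟩
  obtain ⟨E, α, hE, h2, h3⟩ := h1.of_iso ((DCoh.restrictD j.opensRange.ι).mapIso eF.symm ≪≫
    (Scheme.Modules.restrictFunctor j.opensRange.ι).mapDerivedCategoryFactors.app F)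
  exact ⟨E, α, hE, h2, h3⟩

end Groth.Agent.Lib.Helper5.PCApprox
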