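import Mathlib
import Groth.Prelude.Def_DCoh3
import Groth.Agent.Lib.Helper5.Perf.PCApprox
import Groth.Agent.Lib.Helper5.Perf.HomFive

/-!
# Pseudo-coherence in distinguished triangles
-/

set_option autoImplicit false
set_option linter.style.haveILetI false

universe u

open CategoryTheory CategoryTheory.Limits AlgebraicGeometry Opposite TopologicalSpace
  CategoryTheory.Pretriangulated

attribute [local instance] HasDerivedCategory.standard

namespace Groth.Agent.Lib.Helper5.PCTri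

open Groth.Agent.Lib.Helper5.LocQis Groth.Agent.Lib.Helper5.LocNull
  Groth.Agent.Lib.Helper5.StalkAdj Groth.Agent.Lib.Helper5.LocRepr
  Groth.Agent.Lib.Helper5.PerfTri Groth.Agent.Lib.Helper5.ExactHom
  Groth.Agent.Lib.Helper5.PCApprox Groth.Agent.Lib.Helper5.HomFive

variable {U : Scheme.{u}}

/-- local lifting through an approximation, in the derived category -/
theorem exists_local_lift {E E_L F_L : CochainComplex U.Modules ℤ}
    (hE : DCoh.IsStrictlyPerfect E) (a : ℤ) (hEa : ∀ i : ℤ, i < a → IsZero (E.X i))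
    (α_L : DerivedCategory.Q.obj E_L ⟶ DerivedCategory.Q.obj F_L) (hα : IsApprox a α_L)
    (ψ : DerivedCategory.Q.obj E ⟶ DerivedCategory.Q.obj F_L) (x : U) :
    ∃ W : U.Opens, x ∈ W ∧ ∃ β : (DCoh.restrictCx W).obj E ⟶ (DCoh.restrictCx W).obj E_L,
      ((Scheme.Modules.restrictFunctor W.ι).mapDerivedCategoryFactors.hom.app E ≫
        DerivedCategory.Q.map β ≫
        (Scheme.Modules.restrictFunctor W.ι).mapDerivedCategoryFactors.inv.app E_L) ≫
        (DCoh.restrictD W.ι).map α_L = (DCoh.restrictD W.ι).map ψ := by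
  obtain ⟨F₂, g₂, s₂, hs₂, hα₂⟩ := DerivedCategory.left_fac α_L
  obtain ⟨F'', g₁, s₁, hs₁, hψ₁⟩ := DerivedCategory.left_fac (ψ ≫ DerivedCategory.Q.map s₂)
  -- `Q g₂' = α_L ≫ Q s`, `Q g₁ = ψ ≫ Q s`
  let s : F_L ⟶ F'' := s₂ ≫ s₁
  haveI hs : IsIso (DerivedCategory.Q.map s) := by
    dsimp only [s]
    rw [Functor.map_comp]
    infer_instance
  let g₂' : E_L ⟶ F'' := g₂ ≫ s₁
  have e₂ : DerivedCategory.Q.map g₂' = α_L ≫ DerivedCategory.Q.map s := by
    dsimp only [g₂', s]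
    rw [Functor.map_comp, Functor.map_comp, hα₂]
    simp
  have e₁ : DerivedCategory.Q.map g₁ = ψ ≫ DerivedCategory.Q.map s := by
    dsimp only [s]
    rw [Functor.map_comp, ← Category.assoc, hψ₁]
    simp
  have hA : IsApprox a (DerivedCategory.Q.map g₂') := by
    rw [e₂]
    exact hα.comp_iso (asIso (DerivedCategory.Q.map s))
  have hf : ∀ j : ℤ, a < j → IsIso (HomologicalComplex.homologyMap g₂' j) := fun j hj =>
    (NatIso.isIso_map_iff (DerivedCategory.homologyFunctorFactors _ j) g₂').1 (hA.1 j hj)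
  have hfa : Epi (HomologicalComplex.homologyMap g₂' a) :=
    (epi_map_iff_of_natIso (DerivedCategory.homologyFunctorFactors _ a) g₂').1 hA.2
  obtain ⟨W, β, hxW, ⟨h⟩⟩ := exists_local_lift_qis g₁ g₂' hE a hEa hf hfa x
  refine ⟨W, hxW, β, ?_⟩
  have h1 := DerivedCategory.Q_map_eq_of_homotopy _ h
  rw [Functor.map_comp] at h1
  have k₂ := map_Q_map (Scheme.Modules.restrictFunctor W.ι) g₂'
  have k₁ := map_Q_map (Scheme.Modules.restrictFunctor W.ι) g₁
  rw [e₂, Functor.map_comp] at k₂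
  rw [e₁, Functor.map_comp] at k₁
  haveI : IsIso ((DCoh.restrictD W.ι).map (DerivedCategory.Q.map s)) := inferInstance
  rw [← cancel_mono ((DCoh.restrictD W.ι).map (DerivedCategory.Q.map s))]
  rw [Category.assoc, k₂, k₁, ← h1]
  simp

/-- core: the third vertex of a distinguished triangle -/
theorem approx_obj₃ (T : Triangle (DCoh.D U)) (hT : T ∈ distTriang _) (m : ℤ)
    (h₁ : Approx (m + 1) T.obj₁) (h₂ : Approx m T.obj₂) (x : U) :
    ∃ W : U.Opens, x ∈ W ∧ Approx m ((DCoh.restrictD W.ι).obj T.obj₃) := by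
  obtain ⟨E_K, α_K, hE_K, hz_K, hα_K⟩ := h₁.approxT
  obtain ⟨E_L, α_L, hE_L, hα_L⟩ := h₂
  let F_L : CochainComplex U.Modules ℤ := DerivedCategory.Q.objPreimage T.obj₂
  let e_L : DerivedCategory.Q.obj F_L ≅ T.obj₂ := DerivedCategory.Q.objObjPreimageIso T.obj₂
  obtain ⟨W, hxW, β, hβ⟩ := exists_local_lift hE_K m (fun i hi => hz_K i (by omega))
    (α_L ≫ e_L.inv) (hα_L.comp_iso e_L.symm) (α_K ≫ T.mor₁ ≫ e_L.inv) x
  refine ⟨W, hxW, ?_⟩
  let R := DCoh.restrictD W.ι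
  let Φ := (Scheme.Modules.restrictFunctor W.ι).mapDerivedCategoryFactors
  -- the commutative square
  have hsq : (Φ.hom.app E_K ≫ DerivedCategory.Q.map β ≫ Φ.inv.app E_L) ≫ R.map α_L =
      R.map α_K ≫ R.map T.mor₁ := by
    haveI : IsIso (R.map e_L.inv) := inferInstance
    rw [← cancel_mono (R.map e_L.inv)]
    simp only [R, Φ, Category.assoc, Functor.map_comp] at hβ ⊢
    exact hβ
  let T'' := R.mapTriangle.obj T
  have hT'' : T'' ∈ distTriang _ := R.map_distinguished T hT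
  let T₂ := DerivedCategory.Q.mapTriangle.obj (CochainComplex.mappingCone.triangle β)
  have hT₂ : T₂ ∈ distTriang _ := DerivedCategory.mappingCone_triangle_distinguished β
  let a₁ : T₂.obj₁ ⟶ T''.obj₁ := Φ.inv.app E_K ≫ R.map α_K
  let a₂ : T₂.obj₂ ⟶ T''.obj₂ := Φ.inv.app E_L ≫ R.map α_L
  have hA₁ : IsApprox (m + 1) a₁ := (hα_K.restrict W.ι).iso_comp (Φ.app E_K).symm
  have hA₂ : IsApprox m a₂ := (hα_L.restrict W.ι).iso_comp (Φ.app E_L).symm
  have comm : T₂.mor₁ ≫ a₂ = a₁ ≫ T''.mor₁ := by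
    change DerivedCategory.Q.map β ≫ Φ.inv.app E_L ≫ R.map α_L =
      (Φ.inv.app E_K ≫ R.map α_K) ≫ R.map T.mor₁
    rw [Category.assoc, ← hsq]
    simp
  obtain ⟨a₃, hc₂, hc₃⟩ := complete_distinguished_triangle_morphism T₂ T'' hT₂ hT'' a₁ a₂ comm
  let φ : T₂ ⟶ T'' :=
    { hom₁ := a₁, hom₂ := a₂, hom₃ := a₃, comm₁ := comm, comm₂ := hc₂, comm₃ := hc₃ }
  refine ⟨CochainComplex.mappingCone β, a₃, ?_, ⟨fun i hi => ?_, ?_⟩⟩
  · exact Groth.Agent.Lib.Helper5.ConePerf.isStrictlyPerfect_mappingCone β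
      (isStrictlyPerfect_restrict W.ι hE_K) (isStrictlyPerfect_restrict W.ι hE_L)
  · haveI := hA₂.1 (i + 1) (by omega)
    exact isIso_homology_hom₃ φ i (i + 1) rfl hT₂ hT'' (hA₁.epi i (by omega)) (hA₂.1 i hi)
      (hA₁.1 (i + 1) (by omega)) inferInstance
  · haveI := hA₂.1 (m + 1) (by omega)
    exact epi_homology_hom₃ φ m (m + 1) rfl hT₂ hT'' hA₂.2 hA₁.2 inferInstance

/-- shift of approximations -/
theorem Approx.shift {m : ℤ} {K : DCoh.D U} (h : Approx m K) (n m' : ℤ) (hm : n + m' = m) :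
    Approx m' (K⟦n⟧) := by
  obtain ⟨E, α, hE, hα⟩ := h
  refine ⟨E⟦n⟧, (DerivedCategory.Q.commShiftIso n).hom.app E ≫ α⟦n⟧',
    isStrictlyPerfect_shift hE n, ?_⟩
  refine IsApprox.iso_comp ?_ ((DerivedCategory.Q.commShiftIso n).app E)
  refine ⟨fun i hi => ?_, ?_⟩
  · have h1 := hα.1 (n + i) (by omega)
    exact (NatIso.isIso_map_iff
      ((DerivedCategory.homologyFunctor U.Modules 0).shiftIso n i (n + i) rfl) α).2 h1
  · have h1 : Epi ((DerivedCategory.homologyFunctor U.Modules (n + m')).map α) := by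
      rw [hm]
      exact hα.2
    exact (epi_map_iff_of_natIso
      ((DerivedCategory.homologyFunctor U.Modules 0).shiftIso n m' (n + m') rfl) α).2 h1

variable {X : Scheme.{u}}

theorem isPC_of_iso {m : ℤ} {K K' : DCoh.D X} (e : K ≅ K') (hK : DCoh.IsPseudoCoherentD m K) :
    DCoh.IsPseudoCoherentD m K' := by
  intro x
  obtain ⟨V, hxV, hV⟩ := hK x
  exact ⟨V, hxV, fun F ⟨eF⟩ => hV F ⟨eF ≪≫ e.symm⟩⟩

theorem isPC_shift {m : ℤ} {K : DCoh.D X} (hK : DCoh.IsPseudoCoherentD m K) (n m' : ℤ)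
    (hm : n + m' = m) : DCoh.IsPseudoCoherentD m' (K⟦n⟧) := by
  apply isPC_of_approx
  intro x
  obtain ⟨V, hxV, hV⟩ := exists_approx_of_isPC hK x
  exact ⟨V, V.ι, inferInstance, by simpa using hxV,
    (Approx.shift hV n m' hm).of_iso (((DCoh.restrictD V.ι).commShiftIso n).app K).symm⟩

theorem isPC_obj₃ (T : Triangle (DCoh.D X)) (hT : T ∈ distTriang _) (m : ℤ)
    (h₁ : DCoh.IsPseudoCoherentD (m + 1) T.obj₁) (h₂ : DCoh.IsPseudoCoherentD m T.obj₂) :
    DCoh.IsPseudoCoherentD m T.obj₃ := by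
  apply isPC_of_approx
  intro x
  obtain ⟨V₁, hx₁, hV₁⟩ := exists_approx_of_isPC h₁ x
  obtain ⟨V₂, hx₂, hV₂⟩ := exists_approx_of_isPC h₂ x
  let V : X.Opens := V₁ ⊓ V₂
  have hxV : x ∈ V := ⟨hx₁, hx₂⟩
  have k₁ : Approx (m + 1) ((DCoh.restrictD V.ι).obj T.obj₁) :=
    approx_congr (X.homOfLE_ι (inf_le_left : V ≤ V₁))
      (approx_comp (X.homOfLE (inf_le_left : V ≤ V₁)) V₁.ι hV₁)
  have k₂ : Approx m ((DCoh.restrictD V.ι).obj T.obj₂) :=
    approx_congr (X.homOfLE_ι (inf_le_right : V ≤ V₂))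
      (approx_comp (X.homOfLE (inf_le_right : V ≤ V₂)) V₂.ι hV₂)
  let T' := (DCoh.restrictD V.ι).mapTriangle.obj T
  have hT' : T' ∈ distTriang _ := (DCoh.restrictD V.ι).map_distinguished T hT
  obtain ⟨W, hxW, hW⟩ := approx_obj₃ T' hT' m k₁ k₂ ⟨x, hxV⟩
  exact ⟨W, W.ι ≫ V.ι, inferInstance, ⟨⟨⟨x, hxV⟩, hxW⟩, rfl⟩,
    hW.of_iso (restrictDCompObjIso W.ι V.ι T.obj₃).symm⟩

/-- **pseudo-coherence in distinguished triangles** -/
theorem isPC_triangle (m : ℤ) (T : Triangle (DCoh.D X)) (hT : T ∈ distTriang _) :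
    (DCoh.IsPseudoCoherentD (m + 1) T.obj₁ → DCoh.IsPseudoCoherentD m T.obj₂ →
      DCoh.IsPseudoCoherentD m T.obj₃) ∧
    (DCoh.IsPseudoCoherentD m T.obj₁ → DCoh.IsPseudoCoherentD m T.obj₃ →
      DCoh.IsPseudoCoherentD m T.obj₂) ∧
    (DCoh.IsPseudoCoherentD (m + 1) T.obj₂ → DCoh.IsPseudoCoherentD m T.obj₃ →
      DCoh.IsPseudoCoherentD (m + 1) T.obj₁) := by
  refine ⟨isPC_obj₃ T hT m, fun h₁ h₃ => ?_, fun h₂ h₃ => ?_⟩
  · exact isPC_obj₃ T.invRotate (inv_rot_of_distTriang T hT) m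
      (isPC_shift h₃ (-1) (m + 1) (by omega)) h₁
  · exact isPC_obj₃ T.invRotate.invRotate
      (inv_rot_of_distTriang _ (inv_rot_of_distTriang T hT)) (m + 1)
      (isPC_shift h₂ (-1) (m + 1 + 1) (by omega)) (isPC_shift h₃ (-1) (m + 1) (by omega))

end Groth.Agent.Lib.Helper5.PCTri
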