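import Mathlib
import Groth.Prelude.Def_DCoh3
import Groth.Agent.Lib.Helper5.Perf.PCTri

/-!
# Direct summands of pseudo-coherent objects are pseudo-coherent
-/

set_option autoImplicit false
set_option linter.style.haveILetI false

universe u

open CategoryTheory CategoryTheory.Limits AlgebraicGeometry Opposite TopologicalSpace
  CategoryTheory.Pretriangulated
open scoped ZeroObject

attribute [local instance] HasDerivedCategory.standard

namespace Groth.Agent.Lib.Helper5.PCBiprod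

open Groth.Agent.Lib.Helper5.LocQis Groth.Agent.Lib.Helper5.LocNull
  Groth.Agent.Lib.Helper5.StalkAdj Groth.Agent.Lib.Helper5.LocRepr
  Groth.Agent.Lib.Helper5.PerfTri Groth.Agent.Lib.Helper5.ExactHom
  Groth.Agent.Lib.Helper5.PCApprox Groth.Agent.Lib.Helper5.PCTri
  Groth.Agent.Lib.Helper5.RpushOpen

section Gen

variable {C : Type*} [Category C] [HasZeroMorphisms C]

theorem isZero_of_retract {A B : C} (i : A ⟶ B) (p : B ⟶ A) (h : i ≫ p = 𝟙 A) (hB : IsZero B) :
    IsZero A := by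
  rw [IsZero.iff_id_eq_zero, ← h, hB.eq_of_tgt i 0, zero_comp]

end Gen

section Tri

variable {C : Type*} [Category C] [HasZeroObject C] [HasShift C ℤ] [Preadditive C]
  [∀ n : ℤ, (shiftFunctor C n).Additive] [Pretriangulated C]

/-- the split triangle attached to a bilimit bicone -/
theorem bicone_triangle_distinguished {K L : C} (b : BinaryBicone K L) (hb : b.IsBilimit) :
    Triangle.mk b.inl b.snd (0 : L ⟶ K⟦(1 : ℤ)⟧) ∈ distTriang C := by
  refine isomorphic_distinguished _ (binaryBiproductTriangle_distinguished K L) _ ?_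
  refine Triangle.isoMk _ _ (Iso.refl _) (biprod.uniqueUpToIso K L hb) (Iso.refl _) ?_ ?_ ?_
  · change b.inl ≫ biprod.lift b.fst b.snd = 𝟙 K ≫ biprod.inl
    apply biprod.hom_ext
    · rw [Category.assoc, biprod.lift_fst, Category.id_comp, biprod.inl_fst, b.inl_fst]
    · rw [Category.assoc, biprod.lift_snd, Category.id_comp, biprod.inl_snd, b.inl_snd]
  · change b.snd ≫ 𝟙 L = biprod.lift b.fst b.snd ≫ biprod.snd
    rw [Category.comp_id, biprod.lift_snd]
  · change (0 : L ⟶ K⟦(1 : ℤ)⟧) ≫ (shiftFunctor C (1 : ℤ)).map (𝟙 K) = 𝟙 L ≫ 0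
    rw [zero_comp, comp_zero]

theorem bicone_triangle_distinguished' {K L : C} (b : BinaryBicone K L) (hb : b.IsBilimit) :
    Triangle.mk b.inr b.fst (0 : K ⟶ L⟦(1 : ℤ)⟧) ∈ distTriang C := by
  refine isomorphic_distinguished _ (binaryBiproductTriangle_distinguished L K) _ ?_
  refine Triangle.isoMk _ _ (Iso.refl _)
    (biprod.uniqueUpToIso K L hb ≪≫ biprod.braiding K L) (Iso.refl _) ?_ ?_ ?_
  · change b.inr ≫ (biprod.lift b.fst b.snd ≫ biprod.lift biprod.snd biprod.fst) =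
      𝟙 L ≫ biprod.inl
    apply biprod.hom_ext
    · simp
    · simp
  · change b.fst ≫ 𝟙 K = (biprod.lift b.fst b.snd ≫ biprod.lift biprod.snd biprod.fst) ≫
      biprod.snd
    simp
  · change (0 : K ⟶ L⟦(1 : ℤ)⟧) ≫ (shiftFunctor C (1 : ℤ)).map (𝟙 L) = 𝟙 K ≫ 0
    rw [zero_comp, comp_zero]

end Tri

variable {U : Scheme.{u}}

theorem approx_zero (M : ℤ) (K : DCoh.D U)
    (h : ∀ i : ℤ, M ≤ i → IsZero ((DerivedCategory.homologyFunctor _ i).obj K)) :
    Approx M K := by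
  refine ⟨0, 0, isStrictlyPerfect_zero, ⟨fun i hi => ?_, ?_⟩⟩
  · have hs : IsZero ((DerivedCategory.homologyFunctor U.Modules i).obj
        (DerivedCategory.Q.obj (0 : CochainComplex U.Modules ℤ))) :=
      Functor.map_isZero _ (Functor.map_isZero DerivedCategory.Q (isZero_zero _))
    exact ⟨0, hs.eq_of_src _ _, (h i hi.le).eq_of_src _ _⟩
  · exact ⟨fun g g' _ => (h M le_rfl).eq_of_src g g'⟩

theorem exists_bound_of_approx {m : ℤ} {S : DCoh.D U} (h : Approx m S) :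
    ∃ M : ℤ, m ≤ M ∧ ∀ i : ℤ, M ≤ i →
      IsZero ((DerivedCategory.homologyFunctor _ i).obj S) := by
  obtain ⟨E, α, ⟨⟨a, b, hab⟩, _⟩, hα⟩ := h
  refine ⟨max b m + 1, by omega, fun i hi => ?_⟩
  haveI : IsIso ((DerivedCategory.homologyFunctor _ i).map α) := hα.1 i (by omega)
  have hz0 : IsZero (E.homology i) :=
    ShortComplex.isZero_homology_of_isZero_X₂ (E.sc i) (hab i (Or.inr (by omega)))
  have hz : IsZero ((DerivedCategory.homologyFunctor _ i).obj (DerivedCategory.Q.obj E)) :=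
    IsZero.of_iso hz0 ((DerivedCategory.homologyFunctorFactors _ i).app E)
  exact IsZero.of_iso hz (asIso ((DerivedCategory.homologyFunctor _ i).map α)).symm

theorem isPC_of_approx_self {m : ℤ} {K : DCoh.D U} (h : Approx m K) :
    DCoh.IsPseudoCoherentD m K := by
  apply isPC_of_approx
  intro x
  exact ⟨(⊤ : U.Opens), (⊤ : U.Opens).ι, inferInstance, by simp, h.restrict _⟩

theorem isPC_mono {m m' : ℤ} (hm : m ≤ m') {K : DCoh.D U} (h : DCoh.IsPseudoCoherentD m K) :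
    DCoh.IsPseudoCoherentD m' K := by
  intro x
  obtain ⟨V, hxV, hV⟩ := h x
  refine ⟨V, hxV, fun F hF => ?_⟩
  obtain ⟨E, α, hE, h1, h2⟩ := hV F hF
  refine ⟨E, α, hE, fun i hi => h1 i (by omega), ?_⟩
  rcases hm.lt_or_eq with h3 | h3
  · haveI := h1 m' h3
    infer_instance
  · subst h3
    exact h2

theorem isPC_local {X : Scheme.{u}} {m : ℤ} {K : DCoh.D X}
    (h : ∀ x : X, ∃ V : X.Opens, x ∈ V ∧
      DCoh.IsPseudoCoherentD m ((DCoh.restrictD V.ι).obj K)) :
    DCoh.IsPseudoCoherentD m K := by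
  apply isPC_of_approx
  intro x
  obtain ⟨V, hxV, hV⟩ := h x
  obtain ⟨W, hxW, hW⟩ := exists_approx_of_isPC hV ⟨x, hxV⟩
  exact ⟨W, W.ι ≫ V.ι, inferInstance, ⟨⟨⟨x, hxV⟩, hxW⟩, rfl⟩,
    hW.of_iso (restrictDCompObjIso W.ι V.ι K).symm⟩

/-- the swindle -/
theorem swindle (m : ℤ) (T₁ T₂ : Triangle (DCoh.D U)) (hT₁ : T₁ ∈ distTriang _)
    (hT₂ : T₂ ∈ distTriang _) (e₁ : T₂.obj₁ ≅ T₁.obj₃) (e₂ : T₂.obj₂ ≅ T₁.obj₂)
    (e₃ : T₂.obj₃ ≅ T₁.obj₁) (hS : DCoh.IsPseudoCoherentD m T₁.obj₂) (M : ℤ) (hmM : m ≤ M)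
    (hK : DCoh.IsPseudoCoherentD M T₁.obj₁) (hL : DCoh.IsPseudoCoherentD M T₁.obj₃) :
    DCoh.IsPseudoCoherentD m T₁.obj₁ ∧ DCoh.IsPseudoCoherentD m T₁.obj₃ := by
  have key : ∀ n : ℕ, m ≤ M - n →
      DCoh.IsPseudoCoherentD (M - n) T₁.obj₁ ∧ DCoh.IsPseudoCoherentD (M - n) T₁.obj₃ := by
    intro n
    induction n with
    | zero =>
      intro _
      simpa using ⟨hK, hL⟩
    | succ n ih =>
      intro hn
      obtain ⟨hK', hL'⟩ := ih (by push_cast at hn ⊢; omega)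
      have hS' : DCoh.IsPseudoCoherentD (M - ((n + 1 : ℕ) : ℤ)) T₁.obj₂ := isPC_mono hn hS
      have hm' : (M - ((n + 1 : ℕ) : ℤ)) + 1 = M - n := by push_cast; ring
      have hK'' : DCoh.IsPseudoCoherentD ((M - ((n + 1 : ℕ) : ℤ)) + 1) T₁.obj₁ := by
        rw [hm']; exact hK'
      have hL'' : DCoh.IsPseudoCoherentD ((M - ((n + 1 : ℕ) : ℤ)) + 1) T₁.obj₃ := by
        rw [hm']; exact hL'
      have h3 : DCoh.IsPseudoCoherentD (M - ((n + 1 : ℕ) : ℤ)) T₁.obj₃ :=
        isPC_obj₃ T₁ hT₁ _ hK'' hS'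
      have h1 : DCoh.IsPseudoCoherentD (M - ((n + 1 : ℕ) : ℤ)) T₂.obj₃ :=
        isPC_obj₃ T₂ hT₂ _ (isPC_of_iso e₁.symm hL'') (isPC_of_iso e₂.symm hS')
      exact ⟨isPC_of_iso e₃ h1, h3⟩
  have h := key (M - m).toNat (by omega)
  rwa [show M - ((M - m).toNat : ℤ) = m by omega] at h

variable {X : Scheme.{u}}

/-- **direct summands of pseudo-coherent objects** -/
theorem isPC_of_isBilimit (m : ℤ) {K L : DCoh.D X} (b : BinaryBicone K L) (hb : b.IsBilimit)
    (h : DCoh.IsPseudoCoherentD m b.pt) :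
    DCoh.IsPseudoCoherentD m K ∧ DCoh.IsPseudoCoherentD m L := by
  suffices hloc : ∀ x : X, ∃ V : X.Opens, x ∈ V ∧
      (DCoh.IsPseudoCoherentD m ((DCoh.restrictD V.ι).obj K) ∧
        DCoh.IsPseudoCoherentD m ((DCoh.restrictD V.ι).obj L)) by
    constructor
    · apply isPC_local
      intro x
      obtain ⟨V, hxV, hV⟩ := hloc x
      exact ⟨V, hxV, hV.1⟩
    · apply isPC_local
      intro x
      obtain ⟨V, hxV, hV⟩ := hloc x
      exact ⟨V, hxV, hV.2⟩
  intro x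
  obtain ⟨V, hxV, hV⟩ := exists_approx_of_isPC h x
  refine ⟨V, hxV, ?_⟩
  let R := DCoh.restrictD V.ι
  obtain ⟨M, hmM, hM⟩ := exists_bound_of_approx hV
  let T₁ := R.mapTriangle.obj (Triangle.mk b.inl b.snd (0 : L ⟶ K⟦(1 : ℤ)⟧))
  let T₂ := R.mapTriangle.obj (Triangle.mk b.inr b.fst (0 : K ⟶ L⟦(1 : ℤ)⟧))
  have hT₁ : T₁ ∈ distTriang _ := R.map_distinguished _ (bicone_triangle_distinguished b hb)
  have hT₂ : T₂ ∈ distTriang _ := R.map_distinguished _ (bicone_triangle_distinguished' b hb)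
  have hzK : ∀ i : ℤ, M ≤ i →
      IsZero ((DerivedCategory.homologyFunctor _ i).obj (R.obj K)) := fun i hi =>
    isZero_of_retract ((DerivedCategory.homologyFunctor _ i).map (R.map b.inl))
      ((DerivedCategory.homologyFunctor _ i).map (R.map b.fst))
      (by rw [← Functor.map_comp, ← Functor.map_comp, b.inl_fst, CategoryTheory.Functor.map_id, CategoryTheory.Functor.map_id])
      (hM i hi)
  have hzL : ∀ i : ℤ, M ≤ i →
      IsZero ((DerivedCategory.homologyFunctor _ i).obj (R.obj L)) := fun i hi =>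
    isZero_of_retract ((DerivedCategory.homologyFunctor _ i).map (R.map b.inr))
      ((DerivedCategory.homologyFunctor _ i).map (R.map b.snd))
      (by rw [← Functor.map_comp, ← Functor.map_comp, b.inr_snd, CategoryTheory.Functor.map_id, CategoryTheory.Functor.map_id])
      (hM i hi)
  exact swindle m T₁ T₂ hT₁ hT₂ (Iso.refl _) (Iso.refl _) (Iso.refl _)
    (isPC_of_approx_self hV) M hmM (isPC_of_approx_self (approx_zero M _ hzK))
    (isPC_of_approx_self (approx_zero M _ hzL))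

end Groth.Agent.Lib.Helper5.PCBiprod
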