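import Mathlib
import Groth.Agent.Lib.Helper5.Perf.LpullPerf
import Groth.Prelude.Def_DCoh3

/-!
# Perfect objects are relatively perfect over a flat base (helper5)
-/
set_option autoImplicit false
set_option linter.unusedSectionVars false
set_option linter.unusedVariables false
set_option linter.style.haveILetI false
universe u
open CategoryTheory CategoryTheory.Limits HomologicalComplex AlgebraicGeometry
attribute [local instance] HasDerivedCategory.standard

namespace Groth.Agent.Lib.Helper5.LpullLib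

open Groth.Agent.Lib.Helper5.StalkAdj

variable {X S : Scheme.{u}} (f : X ⟶ S)

/-- a finite locally free module on the source of a flat morphism is flat over the base -/
theorem isFlatOver_of_isFinLocFree [Flat f] (M : X.Modules) (hM : FlatMod.IsFinLocFree M) :
    FlatMod.IsFlatOver f M := by
  intro x
  have h1 : Module.Flat (X.presheaf.stalk x) (M.presheaf.stalk x) :=
    flatMod_of_isFinLocFree M hM x
  unfold FlatMod.IsFlatOverAt
  letI := FlatMod.moduleStalkOver f M x
  letI := (f.stalkMap x).hom.toAlgebra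
  haveI : IsScalarTower (S.presheaf.stalk (f x)) (X.presheaf.stalk x) (M.presheaf.stalk x) :=
    IsScalarTower.of_algebraMap_smul (fun r m => rfl)
  haveI : Module.Flat (S.presheaf.stalk (f x)) (X.presheaf.stalk x) := Flat.stalkMap f x
  exact Module.Flat.trans _ (X.presheaf.stalk x) _

/-- perfect objects are pseudo-coherent -/
theorem isPseudoCoherentD_of_isPerfect (E : DCoh.D X) (hE : DCoh.IsPerfect E) (m : ℤ) :
    DCoh.IsPseudoCoherentD m E := by
  intro x
  obtain ⟨V, hxV, hV⟩ := hE x
  refine ⟨V, hxV, fun F hF => ?_⟩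
  obtain ⟨E', hE', ⟨e⟩⟩ := hV F hF
  exact ⟨E', e.inv, hE', fun i _ => inferInstance, inferInstance⟩

/-- perfect objects have locally finite tor dimension over a flat base -/
theorem locHasFiniteRelTorDim_of_isPerfect [Flat f] (E : DCoh.D X) (hE : DCoh.IsPerfect E) :
    DCoh.LocHasFiniteRelTorDim f E := by
  intro x
  obtain ⟨V, hxV, hV⟩ := hE x
  let F₀ : CochainComplex X.Modules ℤ := DerivedCategory.Q.objPreimage E
  have e₀ : DCoh.toD X F₀ ≅ E := DerivedCategory.Q.objObjPreimageIso E
  obtain ⟨E', ⟨⟨a, b, hab⟩, hfl⟩, ⟨e⟩⟩ := hV F₀ ⟨e₀⟩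
  refine ⟨V, a, b, hxV, fun F' ⟨eF'⟩ => ?_⟩
  refine ⟨E', hab, fun i => isFlatOver_of_isFinLocFree (V.ι ≫ f) _ (hfl i), ⟨?_⟩⟩
  have i1 : DCoh.toD X F' ≅ DCoh.toD X F₀ := eF' ≪≫ e₀.symm
  exact e.symm ≪≫ (resDIso V F₀).symm ≪≫ (resD V).mapIso i1.symm ≪≫ resDIso V F'

end Groth.Agent.Lib.Helper5.LpullLib
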