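import Mathlib
import Groth.Prelude.Def_DCoh3
import Groth.Prelude.Def_DTor2
import Groth.Agent.Lib.Helper5.Perf.FlatPC
import Groth.Agent.Lib.Helper5.Perf.RelPerf
import Groth.Agent.Lib.Helper5.Perf.PCBiprod
import Groth.Agent.Lib.Helper5.KFlatSite2.TorAmpIff

/-!
# Perfect = pseudo-coherent + locally of finite tor dimension; direct summands
-/
set_option autoImplicit false
set_option linter.style.haveILetI false
universe u
open CategoryTheory CategoryTheory.Limits AlgebraicGeometry Opposite TopologicalSpace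

attribute [local instance] HasDerivedCategory.standard

namespace Groth.Agent.Lib.Helper5.PerfIff

open Groth.Agent.Lib.Helper5.FpFlat Groth.Agent.Lib.Helper5.FlatPC
  Groth.Agent.Lib.Helper5.PerfTri Groth.Agent.Lib.Helper5.PCApprox
  Groth.Agent.Lib.Helper5.PCBiprod

variable {X : Scheme.{u}}

/-- restriction of a pseudo-coherent object to an open -/
theorem isPC_restrict {m : ℤ} {K : DCoh.D X} (hK : DCoh.IsPseudoCoherentD m K) (V : X.Opens) :
    DCoh.IsPseudoCoherentD m ((DCoh.restrictD V.ι).obj K) := by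
  apply isPC_of_approx
  rintro ⟨x, hxV⟩
  obtain ⟨W, hxW, hW⟩ := exists_approx_of_isPC hK x
  let j' : ((V ⊓ W : X.Opens) : Scheme.{u}) ⟶ (V : Scheme.{u}) := X.homOfLE inf_le_left
  let k : ((V ⊓ W : X.Opens) : Scheme.{u}) ⟶ (W : Scheme.{u}) := X.homOfLE inf_le_right
  have h1 : Approx m ((DCoh.restrictD (k ≫ W.ι)).obj K) := approx_comp k W.ι hW
  have h2 : Approx m ((DCoh.restrictD (j' ≫ V.ι)).obj K) :=
    approx_congr (by simp [j', k]) h1
  refine ⟨_, j', inferInstance, ⟨⟨x, ⟨hxV, hxW⟩⟩, Subtype.ext (by simp [j'])⟩, ?_⟩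
  exact h2.of_iso (restrictDCompObjIso j' V.ι K)

/-- perfectness is local -/
theorem isPerfect_local {K : DCoh.D X}
    (h : ∀ x : X, ∃ V : X.Opens, x ∈ V ∧ DCoh.IsPerfect ((DCoh.restrictD V.ι).obj K)) :
    DCoh.IsPerfect K := by
  apply isPerfect_of_LPD
  intro x
  obtain ⟨V, hxV, hV⟩ := h x
  obtain ⟨W, hxW, L, hL, ⟨i⟩⟩ := exists_LPD_of_isPerfect hV ⟨x, hxV⟩
  exact ⟨W, W.ι ≫ V.ι, inferInstance, ⟨⟨⟨x, hxV⟩, hxW⟩, rfl⟩,
    ⟨L, hL, ⟨restrictDCompObjIso W.ι V.ι K ≪≫ i⟩⟩⟩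

theorem hasFlatAmplitudeIn_of_iso {K K' : DCoh.D X} (e : K ≅ K') {a b : ℤ}
    (h : DCoh.HasFlatAmplitudeIn a b K) : DCoh.HasFlatAmplitudeIn a b K' := by
  obtain ⟨E, hE, hfl, ⟨i⟩⟩ := h
  exact ⟨E, hE, hfl, ⟨i ≪≫ e⟩⟩

/-- the canonical representative -/
noncomputable abbrev rep (K : DCoh.D X) : CochainComplex X.Modules ℤ :=
  DerivedCategory.Q.objPreimage K

noncomputable abbrev repIso (K : DCoh.D X) : DerivedCategory.Q.obj (rep K) ≅ K :=
  DerivedCategory.Q.objObjPreimageIso K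

/-- restriction of an object, through a representative -/
noncomputable def restrictRepIso (K : DCoh.D X) (V : X.Opens) (F : CochainComplex X.Modules ℤ)
    (e : DCoh.toD X F ≅ K) :
    DerivedCategory.Q.obj ((DCoh.restrictCx V).obj F) ≅ (DCoh.restrictD V.ι).obj K :=
  ((Scheme.Modules.restrictFunctor V.ι).mapDerivedCategoryFactors.app F).symm ≪≫
    (DCoh.restrictD V.ι).mapIso e

/-- a convenient form of `LocHasFiniteTorDim` -/
theorem locHasFiniteTorDim_iff (K : DCoh.D X) :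
    DCoh.LocHasFiniteTorDim K ↔ ∀ x : X, ∃ (V : X.Opens) (a b : ℤ), x ∈ V ∧
      DCoh.HasFlatAmplitudeIn a b ((DCoh.restrictD V.ι).obj K) := by
  constructor
  · intro h x
    obtain ⟨V, a, b, hxV, hV⟩ := h x
    exact ⟨V, a, b, hxV, hasFlatAmplitudeIn_of_iso (restrictRepIso K V (rep K) (repIso K))
      (hV (rep K) ⟨repIso K⟩)⟩
  · intro h x
    obtain ⟨V, a, b, hxV, hV⟩ := h x
    exact ⟨V, a, b, hxV, fun F' ⟨e⟩ =>
      hasFlatAmplitudeIn_of_iso (restrictRepIso K V F' e).symm hV⟩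

/-- a strictly perfect complex has finite flat amplitude -/
theorem hasFlatAmplitudeIn_of_isStrictlyPerfect {E : CochainComplex X.Modules ℤ}
    (hE : DCoh.IsStrictlyPerfect E) :
    ∃ a b : ℤ, DCoh.HasFlatAmplitudeIn a b (DerivedCategory.Q.obj E) := by
  obtain ⟨⟨a, b, hab⟩, hfl⟩ := hE
  exact ⟨a, b, E, hab,
    fun i => Groth.Agent.Lib.Helper5.StalkAdj.flatMod_of_isFinLocFree _ (hfl i), ⟨Iso.refl _⟩⟩

theorem locHasFiniteTorDim_of_isPerfect {K : DCoh.D X} (hK : DCoh.IsPerfect K) :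
    DCoh.LocHasFiniteTorDim K := by
  rw [locHasFiniteTorDim_iff]
  intro x
  obtain ⟨V, hxV, L, hL, ⟨i⟩⟩ := exists_LPD_of_isPerfect hK x
  obtain ⟨a, b, hab⟩ := hasFlatAmplitudeIn_of_isStrictlyPerfect hL
  exact ⟨V, a, b, hxV, hasFlatAmplitudeIn_of_iso i.symm hab⟩

/-- **perfect = pseudo-coherent of all orders + locally of finite tor dimension** -/
theorem isPerfect_iff (E : DCoh.D X) :
    DCoh.IsPerfect E ↔ (∀ m : ℤ, DCoh.IsPseudoCoherentD m E) ∧ DCoh.LocHasFiniteTorDim E := by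
  constructor
  · intro h
    exact ⟨fun m => Groth.Agent.Lib.Helper5.LpullLib.isPseudoCoherentD_of_isPerfect E h m,
      locHasFiniteTorDim_of_isPerfect h⟩
  · rintro ⟨hpc, htd⟩
    rw [locHasFiniteTorDim_iff] at htd
    apply isPerfect_local
    intro x
    obtain ⟨V, a, b, hxV, hV⟩ := htd x
    exact ⟨V, hxV, isPerfect_of_flatAmplitude_of_pseudoCoherent _ a b hV
      (isPC_restrict (hpc (a - 1)) V)⟩

/-! ### direct summands -/

theorem hasFlatAmplitudeIn_mono {K : DCoh.D X} {a b b' : ℤ} (hb : b ≤ b')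
    (h : DCoh.HasFlatAmplitudeIn a b K) : DCoh.HasFlatAmplitudeIn a b' K := by
  obtain ⟨E, hE, hfl, e⟩ := h
  exact ⟨E, fun i hi => hE i (by omega), hfl, e⟩

theorem hasFlatAmplitudeIn_of_retract {K K' : DCoh.D X} {a b : ℤ} (i : K ⟶ K') (r : K' ⟶ K)
    (h : i ≫ r = 𝟙 K) (hK' : DCoh.HasFlatAmplitudeIn a b K') :
    DCoh.HasFlatAmplitudeIn a (max a b) K :=
  (Groth.Agent.Lib.Helper5.Pure.torAmplitude_iff_flatAmplitude K a (max a b) (le_max_left _ _)
    (fun G => Groth.Agent.Lib.Helper5.LTM.hasLTensorMod G)).1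
    (Groth.Agent.Lib.Helper5.LTM.hasTorAmplitudeIn_of_retract i r h
      (Groth.Agent.Lib.Helper5.LTM.hasTorAmplitudeIn_of_hasFlatAmplitudeIn
        (hasFlatAmplitudeIn_mono (le_max_right _ _) hK')))

theorem locHasFiniteTorDim_of_retract {K K' : DCoh.D X} (i : K ⟶ K') (r : K' ⟶ K)
    (h : i ≫ r = 𝟙 K) (hK' : DCoh.LocHasFiniteTorDim K') : DCoh.LocHasFiniteTorDim K := by
  rw [locHasFiniteTorDim_iff] at hK' ⊢
  intro x
  obtain ⟨V, a, b, hxV, hV⟩ := hK' x
  refine ⟨V, a, max a b, hxV, hasFlatAmplitudeIn_of_retract ((DCoh.restrictD V.ι).map i)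
    ((DCoh.restrictD V.ι).map r) ?_ hV⟩
  rw [← Functor.map_comp, h, CategoryTheory.Functor.map_id]

/-- **direct summands of perfect objects are perfect** -/
theorem isPerfect_of_isBilimit {K L : DCoh.D X} (b : BinaryBicone K L) (hb : b.IsBilimit)
    (h : DCoh.IsPerfect b.pt) : DCoh.IsPerfect K ∧ DCoh.IsPerfect L := by
  obtain ⟨hpc, htd⟩ := (isPerfect_iff b.pt).1 h
  constructor
  · exact (isPerfect_iff K).2 ⟨fun m => (isPC_of_isBilimit m b hb (hpc m)).1,
      locHasFiniteTorDim_of_retract b.inl b.fst b.inl_fst htd⟩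
  · exact (isPerfect_iff L).2 ⟨fun m => (isPC_of_isBilimit m b hb (hpc m)).2,
      locHasFiniteTorDim_of_retract b.inr b.snd b.inr_snd htd⟩

theorem isPerfect_of_biprod (K L : DCoh.D X) [HasBinaryBiproduct K L]
    (h : DCoh.IsPerfect (K ⊞ L)) : DCoh.IsPerfect K ∧ DCoh.IsPerfect L :=
  isPerfect_of_isBilimit (BinaryBiproduct.bicone K L) (BinaryBiproduct.isBilimit K L) h

end Groth.Agent.Lib.Helper5.PerfIff
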