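import Mathlib
import Groth.Prelude.Def_DCoh3
import Groth.Agent.Lib.Helper5.TildePC.Main
import Groth.Agent.Lib.Helper5.DRing.PCNoeth
import Groth.Agent.Lib.Helper5.QC.RpushPC
import Groth.Agent.Lib.Helper5.Perf.PerfCoh
import Groth.Agent.Lib.Helper5.Perf.PCBiprod
import Groth.Agent.Lib.Helper5.Stalk.FlatPull
import Groth.Agent.Lib.Helper1.CohAbel
import Groth.Agent.Lib.Helper1.CohRestr

/-!
# Pseudo-coherence on a Noetherian scheme is coherence of the cohomology sheaves (helper5)
-/

set_option autoImplicit false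
universe u
open CategoryTheory CategoryTheory.Limits AlgebraicGeometry

attribute [local instance] HasDerivedCategory.standard

namespace Groth.Agent.Lib.Helper5.PCCoh

open Groth.Agent.Lib.Helper5.PCApprox Groth.Agent.Lib.Helper5.ExactHom
  Groth.Agent.Lib.Helper5.LocalCoh Groth.Agent.Lib.Helper5.PerfCoh
  Groth.Agent.Lib.Helper5.RpushSupp Groth.Agent.Lib.Helper5.QC
  Groth.Agent.Lib.Helper5.TildePC Groth.Agent.Helper1

variable {X : Scheme.{u}}

/-- cohomology sheaves commute with restriction along any open immersion -/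
noncomputable def hdRestrictJIso {U : Scheme.{u}} (j : U ⟶ X) [IsOpenImmersion j]
    (E : DCoh.D X) (i : ℤ) :
    DCoh.HD ((DCoh.restrictD j).obj E) i ≅ (DCoh.HD E i).restrict j :=
  (derivedHomologyIso (Scheme.Modules.restrictFunctor j) i).app E

/-- a quasi-coherent quotient of a coherent module is coherent -/
theorem isCoh_of_epi {P N : X.Modules} (φ : P ⟶ N) [Epi φ] (hP : Coh.IsCoh P)
    (hN : N.IsQuasicoherent) : Coh.IsCoh N := by
  haveI := hP.1
  haveI := hN
  let S : ShortComplex X.Modules := ShortComplex.mk (kernel.ι φ) φ (kernel.condition φ)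
  haveI : S.X₁.IsQuasicoherent := QcAbel.isQuasicoherent_kernel φ
  haveI : S.X₂.IsQuasicoherent := hP.1
  haveI : S.X₃.IsQuasicoherent := hN
  haveI : Mono S.f := inferInstanceAs (Mono (kernel.ι φ))
  haveI : Epi S.g := inferInstanceAs (Epi φ)
  have hS : S.ShortExact :=
    { exact := ShortComplex.exact_of_f_is_kernel _ (kernelIsKernel φ) }
  exact ⟨hN, FtLocal.isFiniteType_right hS hP.2⟩

/-- on a locally Noetherian scheme, an `m`-pseudo-coherent object of `D_QCoh` has coherent
cohomology sheaves in degrees `≥ m` -/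
theorem isCoh_HD_of_isPC [IsLocallyNoetherian X] (E : DCoh.D X) (hE : DCoh.IsQCohD E) (m : ℤ)
    (h : DCoh.IsPseudoCoherentD m E) (i : ℤ) (hi : m ≤ i) : Coh.IsCoh (DCoh.HD E i) := by
  apply isCoh_of_locally
  intro x
  obtain ⟨V, hxV, P, α, hP, hα⟩ := exists_approx_of_isPC h x
  refine ⟨V, hxV, ?_⟩
  haveI : IsLocallyNoetherian (V : Scheme.{u}) := isLocallyNoetherian_of_isOpenImmersion V.ι
  haveI := hα.epi i hi
  have h1 : Coh.IsCoh (DCoh.HD (DerivedCategory.Q.obj P) i) :=
    isCoh_of_iso ((DerivedCategory.homologyFunctorFactors _ i).app P).symm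
      (isCoh_homology_of_isStrictlyPerfect P hP i)
  haveI : (DCoh.HD E i).IsQuasicoherent := hE i
  have h2 : ((DCoh.HD E i).restrict V.ι).IsQuasicoherent :=
    inferInstanceAs ((Scheme.Modules.restrictFunctor V.ι).obj (DCoh.HD E i)).IsQuasicoherent
  have h3 : Coh.IsCoh (DCoh.HD ((DCoh.restrictD V.ι).obj E) i) :=
    isCoh_of_epi ((DerivedCategory.homologyFunctor _ i).map α) h1
      (QcAbel.isQuasicoherent_of_iso (hdRestrictDIso E V i))
  exact isCoh_of_iso (hdRestrictDIso E V i).symm h3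

/-- on a locally Noetherian scheme, an object of `D_QCoh` which is locally bounded above with
coherent cohomology sheaves in degrees `≥ m` is `m`-pseudo-coherent -/
theorem isPC_of_isCoh_HD [IsLocallyNoetherian X] (E : DCoh.D X) (hE : DCoh.IsQCohD E) (m : ℤ)
    (hc : ∀ i : ℤ, m ≤ i → Coh.IsCoh (DCoh.HD E i)) (b : ℤ)
    (hb : ∀ i : ℤ, b < i → IsZero (DCoh.HD E i)) : DCoh.IsPseudoCoherentD m E := by
  apply isPC_of_approx
  intro x
  obtain ⟨_, ⟨W, hW : IsAffineOpen W, rfl⟩, hxW, -⟩ :=
    X.isBasis_affineOpens.exists_subset_of_mem_open (Set.mem_univ x) isOpen_univ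
  let R : CommRingCat.{u} := Γ(X, W)
  let j : Spec R ⟶ X := hW.fromSpec
  haveI : IsOpenImmersion j := inferInstanceAs (IsOpenImmersion hW.fromSpec)
  refine ⟨Spec R, j, inferInstance, ?_, ?_⟩
  · have : (j.opensRange : Set X) = W := by
      rw [hW.opensRange_fromSpec]
    rw [← Scheme.Hom.coe_opensRange, this]
    exact hxW
  have hres : ∀ i : ℤ, ((DCoh.HD E i).restrict j).IsQuasicoherent := fun i => by
    haveI : (DCoh.HD E i).IsQuasicoherent := hE i
    exact inferInstanceAs ((Scheme.Modules.restrictFunctor j).obj (DCoh.HD E i)).IsQuasicoherent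
  have hq : DCoh.IsQCohD ((DCoh.restrictD j).obj E) := fun i =>
    QcAbel.isQuasicoherent_of_iso (hdRestrictJIso j E i).symm
  obtain ⟨M, ⟨eM⟩⟩ := ((tildeD_main R).2.2 _).1 hq
  refine (approx_tildeD_of_isPseudoCoherent R M m ?_).of_iso eM
  haveI : IsNoetherianRing R := IsLocallyNoetherian.component_noetherian ⟨W, hW⟩
  let e : ∀ i : ℤ, (tilde.functor R).obj ((DerivedCategory.homologyFunctor _ i).obj M) ≅
      (DCoh.HD E i).restrict j := fun i =>
    ((derivedHomologyIso (tilde.functor R) i).app M).symm ≪≫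
      (DerivedCategory.homologyFunctor _ i).mapIso eM ≪≫ hdRestrictJIso j E i
  let e' : ∀ i : ℤ, (DerivedCategory.homologyFunctor (ModuleCat.{u} R) i).obj M ≅
      (moduleSpecΓFunctor (R := R)).obj ((DCoh.HD E i).restrict j) := fun i =>
    (tilde.toTildeΓNatIso (R := R)).app _ ≪≫ (moduleSpecΓFunctor (R := R)).mapIso (e i)
  rw [Groth.Agent.Helper5.PCDev.pc_iff_noetherian]
  refine ⟨⟨b, fun i hi => ?_⟩, fun i hi => ?_⟩
  · have hz : IsZero ((DCoh.HD E i).restrict j) :=
      Functor.map_isZero (Scheme.Modules.restrictFunctor j) (hb i hi)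
    have hz' : IsZero ((DerivedCategory.homologyFunctor (ModuleCat.{u} R) i).obj M) :=
      IsZero.of_iso (Functor.map_isZero (moduleSpecΓFunctor (R := R)) hz) (e' i)
    exact ModuleCat.subsingleton_of_isZero hz'
  · have hfin : Module.Finite R Γ((DCoh.HD E i).restrict j, ⊤) :=
      AffFin.finite_restrict (DCoh.HD E i) (hc i hi).1 (hc i hi).2 j
    have hfin' : Module.Finite R ((moduleSpecΓFunctor (R := R)).obj ((DCoh.HD E i).restrict j)) :=
      hfin
    exact Module.Finite.equiv (e' i).symm.toLinearEquiv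

/-- **pseudo-coherence on a Noetherian scheme** -/
theorem isPC_iff_noetherian [IsNoetherian X] (E : DCoh.D X) (hE : DCoh.IsQCohD E) (m : ℤ) :
    DCoh.IsPseudoCoherentD m E ↔
      (∀ i : ℤ, m ≤ i → Coh.IsCoh (DCoh.HD E i)) ∧ ∃ b : ℤ, E.IsLE b := by
  constructor
  · intro h
    exact ⟨fun i hi => isCoh_HD_of_isPC E hE m h i hi, exists_isLE_of_isPC E m h⟩
  · rintro ⟨hc, b, hb⟩
    exact isPC_of_isCoh_HD E hE m hc b (fun i hi => DerivedCategory.isZero_of_isLE E b i hi)

end Groth.Agent.Lib.Helper5.PCCoh
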