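import Mathlib
import Groth.Prelude.Def_DCoh3
import Groth.Agent.Lib.Helper5.Misc.DerFaithful
import Groth.Agent.Lib.Helper5.Perf.PCCohNoeth
import Groth.Agent.Lib.Helper5.ProjAmp.Split
import Groth.Agent.Lib.Helper5.TorAmp.Char
import Groth.Agent.Lib.Helper5.TildePC.FromApprox

/-!
# Vanishing of maps out of perfect objects on affine schemes (helper5)
-/

set_option autoImplicit false
universe u
open CategoryTheory CategoryTheory.Limits AlgebraicGeometry

attribute [local instance] HasDerivedCategory.standard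

namespace Groth.Agent.Lib.Helper5.HomVanish

open Groth.Agent.Lib.Helper5.ExactHom Groth.Agent.Lib.Helper5.QC
  Groth.Agent.Lib.Helper5.TildePC Groth.Agent.Helper5.ProjAmp Groth.Agent.Lib.Helper5.PCCoh
  Groth.Agent.Helper1 Groth.Agent.Lib.Helper5.PerfTri Groth.Agent.Helper5.TorAmp

section Ring

variable {R : Type u} [CommRing R]

/-- maps from an object of projective amplitude `[a, b]` to an object without cohomology in
degrees `[a, b]` vanish -/
theorem hom_eq_zero_of_projAmp_range {a b : ℤ} {P : Dual.D R} (hP : HasProjAmp a b P)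
    (N : Dual.D R)
    (hN : ∀ i : ℤ, a ≤ i → i ≤ b →
      IsZero ((DerivedCategory.homologyFunctor (ModuleCat.{u} R) i).obj N))
    (g : P ⟶ N) : g = 0 := by
  have hLE : P.IsLE b := by
    obtain ⟨P₀, h1, h2, ⟨e⟩⟩ := hP
    have : P₀.IsStrictlyLE b := isStrictlyLE_of_vanishesAbove (fun j hj => h1 j (Or.inr hj))
    exact DerivedCategory.TStructure.t.isLE_of_iso e b
  let t : Triangulated.TStructure (Dual.D R) := DerivedCategory.TStructure.t
  have hg : t.liftTruncLE g b ≫ (t.truncLEι b).app N = g := t.liftTruncLE_ι g b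
  have hz : ∀ i : ℤ, a ≤ i →
      IsZero ((DerivedCategory.homologyFunctor (ModuleCat.{u} R) i).obj
        ((t.truncLE b).obj N)) := by
    intro i hi
    by_cases hib : i ≤ b
    · have hT := t.triangleLEGT_distinguished b N
      have hex := DerivedCategory.HomologySequence.exact₁ _ hT (i - 1) i (by omega)
      have h1 : IsZero ((DerivedCategory.homologyFunctor (ModuleCat.{u} R) (i - 1)).obj
          ((t.truncGT b).obj N)) := by
        haveI : ((t.truncGT b).obj N).IsGE (b + 1) := inferInstance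
        exact DerivedCategory.isZero_of_isGE _ (b + 1) (i - 1) (by omega)
      exact hex.isZero_X₂ (h1.eq_of_src _ _) ((hN i hi hib).eq_of_tgt _ _)
    · haveI : ((t.truncLE b).obj N).IsLE b := inferInstance
      exact DerivedCategory.isZero_of_isLE _ b i (by omega)
  rw [← hg, hom_eq_zero_of_projAmp hP _ hz (t.liftTruncLE g b), zero_comp]

end Ring

section Spec

variable (R : CommRingCat.{u})

/-- the tilde functor reflects zero objects -/
theorem isZero_of_isZero_tilde (N : ModuleCat.{u} R)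
    (h : IsZero ((tilde.functor R).obj N)) : IsZero N :=
  IsZero.of_iso (Functor.map_isZero (moduleSpecΓFunctor (R := R)) h)
    ((tilde.toTildeΓNatIso (R := R)).app N)

/-- maps from `P^~`, `P` of projective amplitude `[a, b]`, to an object of `D_QCoh(Spec R)`
without cohomology in degrees `[a, b]` vanish -/
theorem hom_eq_zero_tildeD {a b : ℤ} (P : Dual.D R) (hP : HasProjAmp a b P)
    (M : DCoh.D (Spec (CommRingCat.of R))) (hM : DCoh.IsQCohD M)
    (hz : ∀ i : ℤ, a ≤ i → i ≤ b → IsZero (DCoh.HD M i))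
    (φ : (DCoh.tildeD R).obj P ⟶ M) : φ = 0 := by
  obtain ⟨N, ⟨eN⟩⟩ := ((tildeD_main R).2.2 M).1 hM
  haveI : (DCoh.tildeD R).Full := (tildeD_main R).1
  obtain ⟨ψ, hψ⟩ := (DCoh.tildeD R).map_surjective (φ ≫ eN.inv)
  have hN : ∀ i : ℤ, a ≤ i → i ≤ b →
      IsZero ((DerivedCategory.homologyFunctor (ModuleCat.{u} R) i).obj N) := by
    intro i hi hib
    apply isZero_of_isZero_tilde
    refine IsZero.of_iso (hz i hi hib) ?_
    exact ((derivedHomologyIso (tilde.functor R) i).app N).symm ≪≫
      (DerivedCategory.homologyFunctor _ i).mapIso eN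
  have h0 : ψ = 0 := hom_eq_zero_of_projAmp_range hP N hN ψ
  have h1 : φ ≫ eN.inv = 0 := by rw [← hψ, h0, Functor.map_zero]
  have h2 := congrArg (fun t => t ≫ eN.hom) h1
  simpa using h2

/-- maps from a strictly perfect complex concentrated in `[a, b]` on `Spec R` to an object of
`D_QCoh` without cohomology in degrees `[a, b]` vanish -/
theorem hom_eq_zero_strictlyPerfect {a b : ℤ}
    (E : CochainComplex (Spec (CommRingCat.of R)).Modules ℤ)
    (hab : DCoh.VanishesOutside E a b) (hfl : ∀ i : ℤ, FlatMod.IsFinLocFree (E.X i))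
    (M : DCoh.D (Spec (CommRingCat.of R))) (hM : DCoh.IsQCohD M)
    (hz : ∀ i : ℤ, a ≤ i → i ≤ b → IsZero (DCoh.HD M i))
    (φ : DerivedCategory.Q.obj E ⟶ M) : φ = 0 := by
  have hq : ∀ i : ℤ, (E.X i).IsQuasicoherent := fun i =>
    Groth.Agent.Lead.FLF.isQuasicoherent_of_isFinLocFree _ (hfl i)
  let P : CochainComplex (ModuleCat.{u} R) ℤ := (ΓCx R).obj E
  let c : (tCx R).obj P ≅ E := tΓIso R E hq
  let e' : (DCoh.tildeD R).obj (DerivedCategory.Q.obj P) ≅ DerivedCategory.Q.obj E :=
    tildeQIso R P ≪≫ DerivedCategory.Q.mapIso c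
  have hP : HasProjAmp a b (DerivedCategory.Q.obj P) :=
    ⟨P, fun i hi => Functor.map_isZero (moduleSpecΓFunctor (R := R)) (hab i hi),
      fun i => (finite_projective_Γ_of_isFinLocFree R (E.X i) (hfl i)).2, ⟨Iso.refl _⟩⟩
  have h1 := hom_eq_zero_tildeD R _ hP M hM hz (e'.hom ≫ φ)
  have h2 := congrArg (fun t => e'.inv ≫ t) h1
  simpa using h2

end Spec

section Affine

variable {U : Scheme.{u}} [IsAffine U]

/-- restriction along the inverse of `U ≅ Spec Γ(U, ⊤)` is faithful on derived categories -/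
theorem faithful_restrictD_isoSpec_inv :
    (DCoh.restrictD (U.isoSpec.inv)).Faithful := by
  let φ : U ≅ Spec (CommRingCat.of Γ(U, ⊤)) := U.isoSpec
  let e : Scheme.Modules.restrictFunctor φ.inv ⋙ Scheme.Modules.restrictFunctor φ.hom ≅
      𝟭 U.Modules :=
    (Scheme.Modules.restrictFunctorComp φ.hom φ.inv).symm ≪≫
      Scheme.Modules.restrictFunctorCongr φ.hom_inv_id ≪≫ Scheme.Modules.restrictFunctorId
  exact Groth.Agent.Lib.Helper5.DerFaithful.faithful_mapDerivedCategory
    (Scheme.Modules.restrictFunctor φ.inv) (Scheme.Modules.restrictFunctor φ.hom) e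

/-- maps out of `K` into objects of `D_QCoh` without cohomology in degrees `[a, b]` vanish -/
def Van {Z : Scheme.{u}} (a b : ℤ) (K : DCoh.D Z) : Prop :=
  ∀ M : DCoh.D Z, DCoh.IsQCohD M → (∀ i : ℤ, a ≤ i → i ≤ b → IsZero (DCoh.HD M i)) →
    ∀ φ : K ⟶ M, φ = 0

theorem Van.of_iso {Z : Scheme.{u}} {a b : ℤ} {K K' : DCoh.D Z} (h : Van a b K) (e : K ≅ K') :
    Van a b K' := by
  intro M hM hz φ
  have h1 := h M hM hz (e.hom ≫ φ)
  have h2 := congrArg (fun t => e.inv ≫ t) h1
  simpa using h2

/-- restriction along an open immersion preserves `D_QCoh` -/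
theorem isQCohD_restrictJ {Z Z' : Scheme.{u}} (j : Z' ⟶ Z) [IsOpenImmersion j] (M : DCoh.D Z)
    (hM : DCoh.IsQCohD M) : DCoh.IsQCohD ((DCoh.restrictD j).obj M) := by
  intro i
  haveI : (DCoh.HD M i).IsQuasicoherent := hM i
  haveI : ((DCoh.HD M i).restrict j).IsQuasicoherent :=
    inferInstanceAs ((Scheme.Modules.restrictFunctor j).obj (DCoh.HD M i)).IsQuasicoherent
  exact QcAbel.isQuasicoherent_of_iso (hdRestrictJIso j M i).symm

/-- descent of the vanishing property from `Spec Γ(U, ⊤)` to the affine scheme `U` -/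
theorem van_of_isoSpec {a b : ℤ} (K : DCoh.D U)
    (h : Van a b ((DCoh.restrictD (U.isoSpec.inv)).obj K)) : Van a b K := by
  intro M hM hz φ
  haveI := faithful_restrictD_isoSpec_inv (U := U)
  apply (DCoh.restrictD (U.isoSpec.inv)).map_injective
  rw [Functor.map_zero]
  refine h _ (isQCohD_restrictJ _ M hM) (fun i hi hib => ?_) _
  exact IsZero.of_iso (Functor.map_isZero (Scheme.Modules.restrictFunctor _) (hz i hi hib))
    (hdRestrictJIso (U.isoSpec.inv) M i)

/-- an object of `D(O_U)`, `U` affine, which is represented by a strictly perfect complex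
concentrated in `[a, b]` has the vanishing property -/
theorem van_of_strictlyPerfect {a b : ℤ} (E : CochainComplex U.Modules ℤ)
    (hab : DCoh.VanishesOutside E a b) (hfl : ∀ i : ℤ, FlatMod.IsFinLocFree (E.X i)) :
    Van a b (DerivedCategory.Q.obj E) := by
  apply van_of_isoSpec
  refine Van.of_iso ?_ ((Scheme.Modules.restrictFunctor
    (U.isoSpec.inv)).mapDerivedCategoryFactors.app E).symm
  have hE' := isStrictlyPerfect_restrict (U.isoSpec.inv) (E := E) ⟨⟨a, b, hab⟩, hfl⟩
  intro M hM hz φ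
  exact hom_eq_zero_strictlyPerfect Γ(U, ⊤) _
    (fun i hi => Functor.map_isZero (Scheme.Modules.restrictFunctor _) (hab i hi))
    hE'.2 M hM hz φ

end Affine

end Groth.Agent.Lib.Helper5.HomVanish
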