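import Mathlib
import Groth.Prelude.Def_DCoh3
import Groth.Prelude.Def_CohB1
import Groth.Agent.Lib.Helper5.Perf.PCApprox
import Groth.Agent.Lib.Helper5.Perf.CyclesFLF
import Groth.Agent.Lib.Helper5.Perf.FtFpCharts
import Groth.Agent.Lib.Helper5.Stalk.RpushSupp

/-!
# The top cohomology sheaf of a pseudo-coherent object
-/
set_option autoImplicit false
set_option linter.style.haveILetI false
universe u
open CategoryTheory CategoryTheory.Limits AlgebraicGeometry Opposite TopologicalSpace

attribute [local instance] HasDerivedCategory.standard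

namespace Groth.Agent.Lib.Helper5.PCTop

open Groth.Agent.Lib.Helper5.PCApprox Groth.Agent.Lib.Helper5.CyclesFLF
  Groth.Agent.Lib.Helper5.FtFp Groth.Agent.Lib.Helper5.StalkAdj
  Groth.Agent.Lib.Helper5.RpushSupp

section Gen

variable {A : Type*} [Category A] [Abelian A]

/-- the map `E^{i-1} ⟶ Z^i` -/
noncomputable abbrev toZ' (E : CochainComplex A ℤ) (i : ℤ) :
    E.X (i - 1) ⟶ kernel (E.d i (i + 1)) :=
  kernel.lift (E.d i (i + 1)) (E.d (i - 1) i) (E.d_comp_d _ _ _)

/-- homology as the cokernel of `E^{i-1} ⟶ Z^i` -/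
noncomputable def homologyCokerIso (E : CochainComplex A ℤ) (i : ℤ) :
    E.homology i ≅ cokernel (toZ' E i) :=
  ShortComplex.homologyMapIso (E.isoSc' (i - 1) i (i + 1) (by simp) (by simp)) ≪≫
    (E.sc' (i - 1) i (i + 1)).homologyIsoCokernelLift

end Gen

variable {U : Scheme.{u}}

theorem exactAt_of_approx {E : CochainComplex U.Modules ℤ} {K' : DCoh.D U}
    (α : DerivedCategory.Q.obj E ⟶ K') {m : ℤ} (hα : IsApprox m α) (i : ℤ) (hi : m < i)
    (hz : IsZero ((DerivedCategory.homologyFunctor _ i).obj K')) : E.ExactAt i := by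
  haveI := hα.1 i hi
  have h1 : IsZero ((DerivedCategory.homologyFunctor _ i).obj (DerivedCategory.Q.obj E)) :=
    IsZero.of_iso hz (asIso ((DerivedCategory.homologyFunctor _ i).map α))
  have h2 : IsZero (E.homology i) :=
    IsZero.of_iso h1 ((DerivedCategory.homologyFunctorFactors _ i).app E).symm
  exact (HomologicalComplex.exactAt_iff_isZero_homology _ _).2 h2

variable {X : Scheme.{u}}

theorem isZero_HD_restrictD (K : DCoh.D X) (V : X.Opens) (i : ℤ) (h : IsZero (DCoh.HD K i)) :
    IsZero ((DerivedCategory.homologyFunctor _ i).obj ((DCoh.restrictD V.ι).obj K)) :=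
  IsZero.of_iso (Functor.map_isZero (Scheme.Modules.restrictFunctor V.ι) h)
    (hdRestrictDIso K V i).symm

/-- **the top cohomology sheaf of a pseudo-coherent object is of finite type, resp. of finite
presentation** -/
theorem top_cohomology (m : ℤ) (K : DCoh.D X) (hK : DCoh.IsPseudoCoherentD m K) :
    ((∀ i : ℤ, m < i → IsZero (DCoh.HD K i)) → CohB1.IsFT (DCoh.HD K m)) ∧
    ((∀ i : ℤ, m + 1 < i → IsZero (DCoh.HD K i)) → CohB1.IsFP (DCoh.HD K (m + 1))) := by
  constructor
  · intro hz
    apply isFT_of_local_epi_flf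
    intro x
    obtain ⟨V, hxV, E, α, hE, hα⟩ := exists_approx_of_isPC hK x
    have hex : ∀ i : ℤ, m < i → E.ExactAt i := fun i hi =>
      exactAt_of_approx α hα i hi (isZero_HD_restrictD K V i (hz i hi))
    haveI := hα.2
    refine ⟨V, hxV, kernel (E.d m (m + 1)),
      cokernel.π (toZ' E m) ≫ (homologyCokerIso E m).inv ≫
        ((DerivedCategory.homologyFunctorFactors _ m).app E).inv ≫
        (DerivedCategory.homologyFunctor _ m).map α ≫ (hdRestrictDIso K V m).inv,
      isFinLocFree_kernel_d hE m hex m le_rfl, ?_⟩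
    infer_instance
  · intro hz
    apply isFP_of_local_coker_flf
    intro x
    obtain ⟨V, hxV, E, α, hE, hα⟩ := exists_approx_of_isPC hK x
    have hex : ∀ i : ℤ, m + 1 < i → E.ExactAt i := fun i hi =>
      exactAt_of_approx α hα i (by omega) (isZero_HD_restrictD K V i (hz i hi))
    haveI := hα.1 (m + 1) (by omega)
    refine ⟨V, hxV, E.X (m + 1 - 1), kernel (E.d (m + 1) (m + 1 + 1)), toZ' E (m + 1),
      hE.2 _, isFinLocFree_kernel_d hE (m + 1) hex (m + 1) le_rfl, ⟨?_⟩⟩
    exact hdRestrictDIso K V (m + 1) ≪≫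
      (asIso ((DerivedCategory.homologyFunctor _ (m + 1)).map α)).symm ≪≫
      (DerivedCategory.homologyFunctorFactors _ (m + 1)).app E ≪≫ homologyCokerIso E (m + 1)

end Groth.Agent.Lib.Helper5.PCTop
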