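import Mathlib
import Groth.Prelude.Def_DCoh3
import Groth.Prelude.Def_CohB1
import Groth.Agent.Lib.Helper5.Perf.PCTop
import Groth.Agent.Lib.Helper5.Perf.PCTri
import Groth.Agent.Lib.Helper5.Perf.PCBiprod
import Groth.Agent.Lib.Helper7.CohStalk.FiniteAss

/-!
# Pseudo-coherence of a module placed in degree `0`
-/
set_option autoImplicit false
set_option linter.style.haveILetI false
universe u
open CategoryTheory CategoryTheory.Limits AlgebraicGeometry Opposite TopologicalSpace

attribute [local instance] HasDerivedCategory.standard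

namespace Groth.Agent.Lib.Helper5.PCSingle

open Groth.Agent.Lib.Helper5.PCApprox Groth.Agent.Lib.Helper5.CyclesFLF
  Groth.Agent.Lib.Helper5.FtFp Groth.Agent.Lib.Helper5.StalkAdj
  Groth.Agent.Lib.Helper5.RpushSupp Groth.Agent.Lib.Helper5.PCTop
  Groth.Agent.Lib.Helper5.PCTri Groth.Agent.Lib.Helper5.PCBiprod
  Groth.Agent.Lib.Helper5.RpushOpen

variable {X : Scheme.{u}}

/-- top cohomology of an `m`-pseudo-coherent object, up to isomorphism: finite type -/
theorem isFT_of_iso_HD (m : ℤ) (K : DCoh.D X) (hK : DCoh.IsPseudoCoherentD m K)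
    (hz : ∀ i : ℤ, m < i → IsZero (DCoh.HD K i)) (G : X.Modules) (e : DCoh.HD K m ≅ G) :
    CohB1.IsFT G := by
  apply isFT_of_local_epi_flf
  intro x
  obtain ⟨V, hxV, E, α, hE, hα⟩ := exists_approx_of_isPC hK x
  have hex : ∀ i : ℤ, m < i → E.ExactAt i := fun i hi =>
    exactAt_of_approx α hα i hi (isZero_HD_restrictD K V i (hz i hi))
  haveI := hα.2
  refine ⟨V, hxV, kernel (E.d m (m + 1)),
    cokernel.π (toZ' E m) ≫ (homologyCokerIso E m).inv ≫
      ((DerivedCategory.homologyFunctorFactors _ m).app E).inv ≫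
      (DerivedCategory.homologyFunctor _ m).map α ≫ (hdRestrictDIso K V m).inv ≫
      (Scheme.Modules.restrictFunctor V.ι).map e.hom,
    isFinLocFree_kernel_d hE m hex m le_rfl, ?_⟩
  infer_instance

/-- top cohomology of an `m`-pseudo-coherent object, up to isomorphism: finite presentation -/
theorem isFP_of_iso_HD (m m' : ℤ) (hm : m + 1 = m') (K : DCoh.D X)
    (hK : DCoh.IsPseudoCoherentD m K)
    (hz : ∀ i : ℤ, m' < i → IsZero (DCoh.HD K i)) (G : X.Modules)
    (e : DCoh.HD K m' ≅ G) : CohB1.IsFP G := by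
  subst hm
  apply isFP_of_local_coker_flf
  intro x
  obtain ⟨V, hxV, E, α, hE, hα⟩ := exists_approx_of_isPC hK x
  have hex : ∀ i : ℤ, m + 1 < i → E.ExactAt i := fun i hi =>
    exactAt_of_approx α hα i (by omega) (isZero_HD_restrictD K V i (hz i hi))
  haveI := hα.1 (m + 1) (by omega)
  refine ⟨V, hxV, E.X (m + 1 - 1), kernel (E.d (m + 1) (m + 1 + 1)), toZ' E (m + 1),
    hE.2 _, isFinLocFree_kernel_d hE (m + 1) hex (m + 1) le_rfl, ⟨?_⟩⟩
  exact (Scheme.Modules.restrictFunctor V.ι).mapIso e.symm ≪≫ hdRestrictDIso K V (m + 1) ≪≫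
    (asIso ((DerivedCategory.homologyFunctor _ (m + 1)).map α)).symm ≪≫
    (DerivedCategory.homologyFunctorFactors _ (m + 1)).app E ≪≫ homologyCokerIso E (m + 1)

/-- cohomology of a module in degree `0` -/
theorem isZero_HD_inD (F : X.Modules) (i : ℤ) (hi : i ≠ 0) : IsZero (DCoh.HD (DCoh.inD X F) i) := by
  rcases lt_or_gt_of_ne hi with h | h
  · exact DerivedCategory.isZero_of_isGE _ 0 i h
  · exact DerivedCategory.isZero_of_isLE _ 0 i h

noncomputable def hdInDIso (F : X.Modules) : DCoh.HD (DCoh.inD X F) 0 ≅ F :=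
  (DerivedCategory.singleFunctorCompHomologyFunctorIso X.Modules 0).app F

theorem isFT_of_isPC (F : X.Modules) (h : DCoh.IsPseudoCoherentD 0 (DCoh.inD X F)) :
    CohB1.IsFT F :=
  isFT_of_iso_HD 0 _ h (fun i hi => isZero_HD_inD F i (by omega)) F (hdInDIso F)

theorem isFP_of_isPC (F : X.Modules) (h : DCoh.IsPseudoCoherentD (-1) (DCoh.inD X F)) :
    CohB1.IsFP F :=
  isFP_of_iso_HD (-1) 0 (by norm_num) _ h (fun i hi => isZero_HD_inD F i (by omega)) F
    (hdInDIso F)

/-! ### the converse -/

/-- restriction of a module placed in degree `0` -/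
noncomputable def restrictInDIso (F : X.Modules) (V : X.Opens) :
    (DCoh.restrictD V.ι).obj (DCoh.inD X F) ≅ DCoh.inD V (F.restrict V.ι) :=
  ((Scheme.Modules.restrictFunctor V.ι).mapDerivedCategorySingleFunctor 0).app F

variable {U : Scheme.{u}}

theorem isStrictlyPerfect_single (P : U.Modules) (hP : FlatMod.IsFinLocFree P) :
    DCoh.IsStrictlyPerfect ((CochainComplex.singleFunctor U.Modules 0).obj P) := by
  refine ⟨⟨0, 0, fun i hi => ?_⟩, fun i => ?_⟩
  · exact HomologicalComplex.isZero_single_obj_X _ _ _ _ (by omega)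
  · by_cases h : i = 0
    · subst h
      exact Groth.Agent.Lead.FLF.isFinLocFree_of_iso
        (HomologicalComplex.singleObjXSelf (ComplexShape.up ℤ) 0 P).symm hP
    · exact isFinLocFree_of_isZero _ (HomologicalComplex.isZero_single_obj_X _ _ _ _ h)

theorem isApprox_id (m : ℤ) (K : DCoh.D U) : IsApprox m (𝟙 K) :=
  ⟨fun i _ => by rw [CategoryTheory.Functor.map_id]; infer_instance,
    by rw [CategoryTheory.Functor.map_id]; infer_instance⟩

/-- a finite locally free module in degree `0` is approximated by itself -/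
theorem approx_single_flf (m : ℤ) (P : U.Modules) (hP : FlatMod.IsFinLocFree P) :
    Approx m (DCoh.inD U P) :=
  ⟨(CochainComplex.singleFunctor U.Modules 0).obj P, 𝟙 (DCoh.inD U P),
    isStrictlyPerfect_single P hP, isApprox_id m _⟩

/-- a quotient of a finite locally free module, in degree `0`, is `0`-approximated -/
theorem approx_single_of_epi (P N : U.Modules) (hP : FlatMod.IsFinLocFree P) (π : P ⟶ N)
    (hπ : Epi π) : Approx 0 (DCoh.inD U N) := by
  refine ⟨(CochainComplex.singleFunctor U.Modules 0).obj P,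
    (DerivedCategory.singleFunctor U.Modules 0).map π, isStrictlyPerfect_single P hP,
    ⟨fun i hi => ?_, ?_⟩⟩
  · have hs : IsZero (DCoh.HD (DCoh.inD U P) i) := isZero_HD_inD P i (by omega)
    have ht : IsZero (DCoh.HD (DCoh.inD U N) i) := isZero_HD_inD N i (by omega)
    exact ⟨0, hs.eq_of_src _ _, ht.eq_of_src _ _⟩
  · exact (epi_map_iff_of_natIso
      (DerivedCategory.singleFunctorCompHomologyFunctorIso U.Modules 0) π).2 hπ

/-- free module on a finite index type -/
noncomputable def freeIsoOfFinite (V : Scheme.{u}) (I : Type u) [Finite I] :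
    SheafOfModules.free (R := V.ringCatSheaf) I ≅ FlatMod.freeMod V (Nat.card I) :=
  Sigma.whiskerEquiv (f := fun _ : I => Coh.structureModule V)
    (g := fun _ : Fin (Nat.card I) => Coh.structureModule V) (Finite.equivFin I)
    (fun _ => Iso.refl _)

theorem isFinLocFree_free (V : Scheme.{u}) (I : Type u) [Finite I] :
    FlatMod.IsFinLocFree (SheafOfModules.free (R := V.ringCatSheaf) I) :=
  Groth.Agent.Lib.Helper5.Shrink.isFinLocFree_of_iso_free _ _ (freeIsoOfFinite V I)

theorem isPC_of_generators (N : U.Modules) (G : SheafOfModules.GeneratingSections N)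
    [G.IsFiniteType] : DCoh.IsPseudoCoherentD 0 (DCoh.inD U N) :=
  isPC_of_approx_self (approx_single_of_epi _ N (isFinLocFree_free U G.I) G.π G.epi)

theorem isPC_of_isFT (F : X.Modules) (h : CohB1.IsFT F) :
    DCoh.IsPseudoCoherentD 0 (DCoh.inD X F) := by
  apply isPC_local
  intro x
  obtain ⟨W, hxW, hW⟩ := Groth.Agent.Helper7.FinType.exists_generators_of_le F h x
  obtain ⟨G, hG⟩ := hW W le_rfl
  exact ⟨W, hxW, isPC_of_iso (restrictInDIso F W).symm (isPC_of_generators _ G)⟩

theorem isPC_of_presentation (N : U.Modules) (P : SheafOfModules.Presentation N) [P.IsFinite] :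
    DCoh.IsPseudoCoherentD (-1) (DCoh.inD U N) := by
  let S : ShortComplex U.Modules :=
    ShortComplex.mk (kernel.ι P.generators.π) P.generators.π (kernel.condition P.generators.π)
  have hS : S.ShortExact :=
    { exact := ShortComplex.exact_kernel _
      mono_f := inferInstanceAs (Mono (kernel.ι P.generators.π))
      epi_g := inferInstanceAs (Epi P.generators.π) }
  have h₁ : DCoh.IsPseudoCoherentD 0 (DCoh.inD U (kernel P.generators.π)) :=
    @isPC_of_generators U (kernel P.generators.π) P.relations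
      (SheafOfModules.Presentation.IsFinite.isFiniteType_relations)
  have h₂ : DCoh.IsPseudoCoherentD (-1)
      (DCoh.inD U (SheafOfModules.free (R := U.ringCatSheaf) P.generators.I)) :=
    isPC_of_approx_self (approx_single_flf (-1) _ (isFinLocFree_free U P.generators.I))
  exact isPC_obj₃ hS.singleTriangle hS.singleTriangle_distinguished (-1) h₁ h₂

open Scheme.Modules in
set_option backward.isDefEq.respectTransparency false in
/-- a module of finite presentation has, locally, finite presentations over every small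
enough open -/
theorem exists_presentation_of_le (M : X.Modules)
    (hM : SheafOfModules.IsFinitePresentation.{u, u, u} M) (x : X) :
    ∃ W : X.Opens, x ∈ W ∧ ∀ V : X.Opens, V ≤ W →
      ∃ P : SheafOfModules.Presentation (M.restrict V.ι), P.IsFinite := by
  obtain ⟨σ, hσ⟩ := hM.exists_quasicoherentData
  obtain ⟨I, W, cov, pres⟩ := σ
  have hfin : ∀ i, (pres i).IsFinite := fun i => hσ.isFinite_presentation i
  rw [Opens.coversTop_iff] at cov
  obtain ⟨i, hxi⟩ : ∃ i, x ∈ W i := by
    have : x ∈ (⨆ i, W i : X.Opens) := by rw [cov]; trivial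
    simpa [Opens.mem_iSup] using this
  refine ⟨W i, hxi, fun V hV => ?_⟩
  let u := X.homOfLE (U := V) (V := W i) hV
  have : PreservesColimitsOfSize.{u, u} (restrictFunctor u) := inferInstance
  let F := (overEquiv (W i)).functor ⋙ restrictFunctor u
  let iso : SheafOfModules.overFunctor X.ringCatSheaf _ ⋙ F ≅ restrictFunctor
    (Scheme.Opens.ι V) := (Functor.associator _ _ _).symm ≪≫
      Functor.isoWhiskerRight (Scheme.Modules.overFunctorEquiv _) _ ≪≫
      (restrictFunctorComp _ _).symm ≪≫ (restrictFunctorCongr (by simp [u]))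
  have := hfin i
  haveI : ((pres i).map F (Scheme.Modules.restrictUnitIso _).symm).IsFinite :=
    ⟨⟨inferInstanceAs (Finite (pres i).generators.I)⟩,
      ⟨inferInstanceAs (Finite (pres i).relations.I)⟩⟩
  exact ⟨((pres i).map F (Scheme.Modules.restrictUnitIso _).symm).ofIsIso (iso.app M).hom,
    inferInstance⟩

theorem isPC_of_isFP (F : X.Modules) (h : CohB1.IsFP F) :
    DCoh.IsPseudoCoherentD (-1) (DCoh.inD X F) := by
  apply isPC_local
  intro x
  obtain ⟨W, hxW, hW⟩ := exists_presentation_of_le F h x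
  obtain ⟨P, hP⟩ := hW W le_rfl
  exact ⟨W, hxW, isPC_of_iso (restrictInDIso F W).symm (isPC_of_presentation _ P)⟩

/-- **a module in degree `0` is `0`-pseudo-coherent iff it is of finite type, and
`(-1)`-pseudo-coherent iff it is of finite presentation** -/
theorem isPseudoCoherentD_single_iff (F : X.Modules) :
    (DCoh.IsPseudoCoherentD 0 (DCoh.inD X F) ↔ CohB1.IsFT F) ∧
    (DCoh.IsPseudoCoherentD (-1) (DCoh.inD X F) ↔ CohB1.IsFP F) :=
  ⟨⟨isFT_of_isPC F, isPC_of_isFT F⟩, ⟨isFP_of_isPC F, isPC_of_isFP F⟩⟩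

end Groth.Agent.Lib.Helper5.PCSingle
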