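import Mathlib
import Groth.Prelude.Def_DCoh3
import Groth.Agent.Lib.Helper5.Perf.HomVanish
import Groth.Agent.Lib.Helper5.Perf.PCSingle
import Groth.Agent.Lib.Helper5.Perf.LpullPerf
import Groth.Agent.Lib.Helper5.MV.MVTri
import Groth.Agent.Lib.Helper5.MV.RpushTri
import Groth.Agent.Lib.Helper5.QC.RpushPC
import Groth.Agent.Lib.Helper5.QC.RpushQC
import Groth.Agent.Lib.Helper5.QC.QcqsInd
import Groth.Agent.Lib.Helper5.Stalk.LpullAdj
import Groth.Agent.Lib.Helper5.Stalk.RpushSupp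
import Groth.Agent.Lib.Helper5.KSix.FlatDescent

/-!
# Vanishing of maps out of perfect objects on quasi-compact quasi-separated schemes (helper5)

Mayer–Vietoris induction: if maps out of `K|_T` into objects of `D_QCoh(T)` without cohomology
in `[a, b]` vanish for all affine opens `T` (in a suitable class), then maps out of `K` into
objects of `D_QCoh(X)` without cohomology in `[a - r, b]` vanish, `r` depending only on `X`
(and the class).
-/

set_option autoImplicit false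
universe u
open CategoryTheory CategoryTheory.Limits AlgebraicGeometry Opposite TopologicalSpace
open Pretriangulated

attribute [local instance] HasDerivedCategory.standard

namespace Groth.Agent.Lib.Helper5.HomVanish

open Groth.Agent.Lib.Helper5.MV Groth.Agent.Lib.Helper5.QC Groth.Agent.Lib.Helper5.LpullLib
  Groth.Agent.Helper3.KInjDer Groth.Agent.Lib.Helper5.RpushSupp Groth.Agent.Lib.Helper5.RpushRes
  Groth.Agent.Lib.Helper5.KSixDesc Groth.Agent.Lib.Helper5.PerfTri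
  Groth.Agent.Lib.Helper5.LocNull Groth.Agent.Lib.Helper5.PCSingle
  Groth.Agent.Lib.Helper5.LocalCoh

variable {X : Scheme.{u}}

theorem hasRpush' {Y Z : Scheme.{u}} (g : Y ⟶ Z) : DCoh.HasRpush g :=
  Groth.Agent.Helper3.KInjDer.hasRightDerivedFunctor (DCoh.pushKh g)

attribute [local instance] hasRpush'

/-! ### The empty scheme -/

theorem isZero_module_of_isEmpty {Z : Scheme.{u}} [IsEmpty Z] (M : Z.Modules) : IsZero M := by
  apply isZero_of_forall_subsingleton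
  intro U
  have hU : U = ⊥ := by
    ext x
    exact (IsEmpty.false x).elim
  subst hU
  let F : TopCat.Sheaf Ab Z := ⟨M.presheaf, M.isSheaf⟩
  have ht : IsTerminal (F.1.obj (op ⊥)) := TopCat.Sheaf.isTerminalOfEmpty F
  have hz : IsZero (F.1.obj (op ⊥)) := (isZero_zero _).of_iso
    (ht.uniqueUpToIso (HasZeroObject.zeroIsTerminal))
  exact AddCommGrpCat.subsingleton_of_isZero hz

theorem isZero_D_of_isEmpty {Z : Scheme.{u}} [IsEmpty Z] (K : DCoh.D Z) : IsZero K :=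
  isZero_of_forall_isZero_HD K (fun _ => isZero_module_of_isEmpty _)

/-! ### Generalities -/

theorem isZero_restrict_of_le (M : X.Modules) {U T : X.Opens} (h : U ≤ T)
    (hT : IsZero (M.restrict T.ι)) : IsZero (M.restrict U.ι) :=
  isZero_restrict_of_stalks M U
    (fun x hx => subsingleton_stalk_of_isZero_restrict M T hT x (h hx))

/-- `Lj^* K ≅ K|_T` for an open `T` -/
theorem nonempty_lpull_iso_restrictD (T : X.Opens) [DCoh.HasLpull T.ι] (K : DCoh.D X) :
    Nonempty ((DCoh.Lpull T.ι).obj K ≅ (DCoh.restrictD T.ι).obj K) := by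
  let F : CochainComplex X.Modules ℤ := DerivedCategory.Q.objPreimage K
  let e : DerivedCategory.Q.obj F ≅ K := DerivedCategory.Q.objObjPreimageIso K
  obtain ⟨i⟩ := Groth.Agent.Lib.Helper5.KSixDesc.nonempty_lpullObjIso_of_flat T.ι F
  exact ⟨(DCoh.Lpull T.ι).mapIso e.symm ≪≫ i ≪≫
    DerivedCategory.Q.mapIso ((restrictCxIsoPullCx T).app F).symm ≪≫ (resDIso T F).symm ≪≫
    (DCoh.restrictD T.ι).mapIso e⟩

/-- maps `K ⟶ Rj_* M` vanish if maps `K|_T ⟶ M` do -/
theorem hom_rpush_eq_zero (T : X.Opens) (K : DCoh.D X) (M : DCoh.D (T : Scheme.{u}))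
    (h : ∀ ψ : (DCoh.restrictD T.ι).obj K ⟶ M, ψ = 0)
    (φ : K ⟶ (DCoh.Rpush T.ι).obj M) : φ = 0 := by
  haveI : DCoh.HasLpull T.ι := hasLpull T.ι
  let adj := lpullRpushAdj T.ι
  obtain ⟨e⟩ := nonempty_lpull_iso_restrictD T K
  have h1 : (adj.homEquiv K M).symm φ = 0 := by
    have h2 := congrArg (fun t => e.hom ≫ t) (h (e.inv ≫ (adj.homEquiv K M).symm φ))
    simpa using h2
  have h3 : φ = adj.homEquiv K M ((adj.homEquiv K M).symm φ) :=
    (Equiv.apply_symm_apply _ _).symm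
  haveI := additive_rpush T.ι
  rw [h3, h1, Adjunction.homEquiv_unit, Functor.map_zero, comp_zero]

/-- `E ≅ Rj_* (E|_⊤)` -/
theorem nonempty_iso_rpush_top (E : DCoh.D X) :
    Nonempty (E ≅ (DCoh.Rpush (⊤ : X.Opens).ι).obj ((DCoh.restrictD (⊤ : X.Opens).ι).obj E)) := by
  obtain ⟨I, hI, -, ⟨eE⟩⟩ := exists_kInjective_injective_repr E
  haveI := hI
  let eA : DerivedCategory.Q.obj ((pushC (𝟙 X)).obj ((GC (⊤ : X.Opens)).obj I)) ≅ E :=
    DerivedCategory.Q.mapIso ((pushC (𝟙 X)).mapIso (ηTopIso I).symm ≪≫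
      (NatIso.mapHomologicalComplex (Scheme.Modules.pushforwardId X) (ComplexShape.up ℤ)).app I) ≪≫
      eE.symm
  exact ⟨eA.symm ≪≫ vertexIso (𝟙 X) ⊤ (⊤ : X.Opens).ι (Category.comp_id _).symm I E eE⟩

/-! ### The Mayer–Vietoris induction -/

/-- the vanishing hypothesis on the affine opens in a class `ℬ` -/
def AffHyp (ℬ : X.Opens → Prop) (a b : ℤ) (K : DCoh.D X) : Prop :=
  ∀ T : X.Opens, IsAffineOpen T → ℬ T → Van a b ((DCoh.restrictD T.ι).obj K)

/-- the property propagated by the induction -/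
def PT (ℬ : X.Opens → Prop) (T : X.Opens) : Prop :=
  ∃ r : ℤ, 0 ≤ r ∧ ∀ (K : DCoh.D X) (a b : ℤ), AffHyp ℬ a b K → ∀ L : DCoh.D X,
    DCoh.IsQCohD L → (∀ i : ℤ, a - r ≤ i → i ≤ b → IsZero ((DCoh.HD L i).restrict T.ι)) →
      ∀ φ : K ⟶ (DCoh.Rpush T.ι).obj ((DCoh.restrictD T.ι).obj L), φ = 0

theorem pt_base (ℬ : X.Opens → Prop) (T : X.Opens) (hT : IsAffineOpen T) (hB : ℬ T) :
    PT ℬ T := by
  refine ⟨0, le_rfl, fun K a b hK L hL hz φ => ?_⟩
  apply hom_rpush_eq_zero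
  intro ψ
  exact hK T hT hB _ (isQCohD_restrictD T L hL)
    (fun i hi hib => IsZero.of_iso (hz i (by omega) hib) (hdRestrictDIso L T i).symm) ψ

theorem pt_bot (ℬ : X.Opens → Prop) : PT ℬ (⊥ : X.Opens) := by
  refine ⟨0, le_rfl, fun K a b _ L _ _ φ => ?_⟩
  apply hom_rpush_eq_zero
  intro ψ
  haveI : IsEmpty ↥((⊥ : X.Opens) : Scheme.{u}) := ⟨fun x => x.2.elim⟩
  exact (isZero_D_of_isEmpty _).eq_of_tgt _ _

theorem pt_mv (ℬ : X.Opens → Prop) (T U V W : X.Opens) (D : MVData T U V W)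
    (hU : PT ℬ U) (hV : PT ℬ V) (hW : PT ℬ W) : PT ℬ T := by
  obtain ⟨rU, hrU, hU⟩ := hU
  obtain ⟨rV, hrV, hV⟩ := hV
  obtain ⟨rW, hrW, hW⟩ := hW
  refine ⟨max (max rU rV) (rW + 1), by omega, fun K a b hK L hL hz φ => ?_⟩
  have hrU' : rU ≤ max (max rU rV) (rW + 1) := by omega
  have hrV' : rV ≤ max (max rU rV) (rW + 1) := by omega
  have hrW' : rW + 1 ≤ max (max rU rV) (rW + 1) := by omega
  obtain ⟨α, β, γ, hTr⟩ := exists_mv_triangle (𝟙 X) D T.ι U.ι V.ι W.ι
    (Category.comp_id _).symm (Category.comp_id _).symm (Category.comp_id _).symm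
    (Category.comp_id _).symm L
  have h1 : φ ≫ α = 0 := by
    apply biprod.hom_ext
    · rw [zero_comp]
      exact hU K a b hK L hL
        (fun i hi hib => isZero_restrict_of_le _ D.hUT (hz i (by omega) hib)) _
    · rw [zero_comp]
      exact hV K a b hK L hL
        (fun i hi hib => isZero_restrict_of_le _ D.hVT (hz i (by omega) hib)) _
  obtain ⟨ψ, hψ⟩ := Triangle.coyoneda_exact₂ _ (inv_rot_of_distTriang _ hTr) φ h1
  let C := (DCoh.Rpush W.ι).obj ((DCoh.restrictD W.ι).obj L)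
  let e : C⟦(-1 : ℤ)⟧ ≅ (DCoh.Rpush W.ι).obj ((DCoh.restrictD W.ι).obj (L⟦(-1 : ℤ)⟧)) :=
    (nonempty_rpush_shift_iso W.ι ((DCoh.restrictD W.ι).obj L) (-1)).some.symm ≪≫
      (DCoh.Rpush W.ι).mapIso (((DCoh.restrictD W.ι).commShiftIso (-1 : ℤ)).app L).symm
  have hψ' : ψ = 0 := by
    have h2 : ψ ≫ e.hom = 0 := by
      refine hW K a b hK (L⟦(-1 : ℤ)⟧) (isQCohD_shift' L hL (-1)) (fun i hi hib => ?_) _
      refine IsZero.of_iso (isZero_restrict_of_le _ (D.hWU.trans D.hUT)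
        (hz (i - 1) (by omega) (by omega))) ?_
      exact (Scheme.Modules.restrictFunctor W.ι).mapIso (hdShiftIso L (-1) i (i - 1) (by omega))
    have h3 := congrArg (fun t => t ≫ e.inv) h2
    simpa using h3
  rw [hψ, hψ']
  exact zero_comp

theorem pt_all [QuasiSeparatedSpace X] (T : X.Opens) (hT : IsCompact (T : Set X)) :
    PT (fun _ => True) T :=
  qcqs_induction (PT (fun _ => True)) (fun U hU => pt_base _ U hU trivial)
    (fun T U V W D => pt_mv _ T U V W D) T hT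

theorem pt_cover [QuasiSeparatedSpace X] {ι : Type*} (V : ι → X.Opens)
    (hV : ∀ k, IsAffineOpen (V k)) (s : Finset ι) :
    PT (fun T => ∃ k, T ≤ V k) (⨆ k ∈ s, V k) := by
  classical
  have stage1 : ∀ k, ∀ T : X.Opens, IsCompact (T : Set X) → T ≤ V k →
      PT (fun T => ∃ k, T ≤ V k) T := by
    intro k T hT
    exact qcqs_induction (fun T => T ≤ V k → PT (fun T => ∃ k, T ≤ V k) T)
      (fun U hU hle => pt_base _ U hU ⟨k, hle⟩)
      (fun T U V' W D hU hV' hW hle => pt_mv _ T U V' W D (hU (D.hUT.trans hle))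
        (hV' (D.hVT.trans hle)) (hW ((D.hWU.trans D.hUT).trans hle))) T hT
  induction s using Finset.induction_on with
  | empty =>
    have : (⨆ k ∈ (∅ : Finset ι), V k) = ⊥ := by simp
    rw [this]
    exact pt_bot _
  | insert k s hk ih =>
    have hS : IsCompact ((⨆ k ∈ s, V k : X.Opens) : Set X) := by
      have : ((⨆ k ∈ s, V k : X.Opens) : Set X) = ⋃ k ∈ s, (V k : Set X) := by
        simp
      rw [this]
      exact s.isCompact_biUnion (fun k _ => (hV k).isCompact)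
    have hc : IsCompact (((⨆ k ∈ s, V k) ⊓ V k : X.Opens) : Set X) :=
      QuasiSeparatedSpace.inter_isCompact _ _ (⨆ k ∈ s, V k).isOpen hS (V k).isOpen
        (hV k).isCompact
    have heq : (⨆ k' ∈ insert k s, V k') = (⨆ k ∈ s, V k) ⊔ V k := by
      rw [Finset.iSup_insert, sup_comm]
    rw [heq]
    exact pt_mv _ _ _ _ _ (MVData.mk' _ _) ih (pt_base _ _ (hV k) ⟨k, le_rfl⟩)
      (stage1 k _ hc inf_le_right)

/-- the conclusion on the whole scheme -/
theorem hom_eq_zero_of_pt_top (ℬ : X.Opens → Prop) (h : PT ℬ (⊤ : X.Opens)) :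
    ∃ r : ℤ, 0 ≤ r ∧ ∀ (K : DCoh.D X) (a b : ℤ), AffHyp ℬ a b K → ∀ L : DCoh.D X,
      DCoh.IsQCohD L → (∀ i : ℤ, a - r ≤ i → i ≤ b → IsZero (DCoh.HD L i)) →
        ∀ φ : K ⟶ L, φ = 0 := by
  obtain ⟨r, hr, h⟩ := h
  refine ⟨r, hr, fun K a b hK L hL hz φ => ?_⟩
  obtain ⟨e⟩ := nonempty_iso_rpush_top L
  have h1 := h K a b hK L hL
    (fun i hi hib => Functor.map_isZero (Scheme.Modules.restrictFunctor _) (hz i hi hib))
    (φ ≫ e.hom)
  have h2 := congrArg (fun t => t ≫ e.inv) h1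
  simpa using h2

/-- **uniform vanishing** on a quasi-compact quasi-separated scheme -/
theorem exists_uniform_bound [CompactSpace X] [QuasiSeparatedSpace X] :
    ∃ r : ℤ, 0 ≤ r ∧ ∀ (K : DCoh.D X) (a b : ℤ), AffHyp (fun _ => True) a b K →
      ∀ L : DCoh.D X, DCoh.IsQCohD L →
        (∀ i : ℤ, a - r ≤ i → i ≤ b → IsZero (DCoh.HD L i)) → ∀ φ : K ⟶ L, φ = 0 :=
  hom_eq_zero_of_pt_top _ (pt_all ⊤ (by simpa using isCompact_univ))

/-! ### Sources of the hypothesis -/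

/-- `K|_j` is represented by a complex of finite locally free modules concentrated in `[a, b]` -/
def LPDab (a b : ℤ) {U : Scheme.{u}} (j : U ⟶ X) [IsOpenImmersion j] (K : DCoh.D X) : Prop :=
  ∃ E : CochainComplex U.Modules ℤ, DCoh.VanishesOutside E a b ∧
    (∀ i : ℤ, FlatMod.IsFinLocFree (E.X i)) ∧
      Nonempty ((DCoh.restrictD j).obj K ≅ DerivedCategory.Q.obj E)

theorem LPDab_congr {a b : ℤ} {U : Scheme.{u}} {j j' : U ⟶ X} [IsOpenImmersion j]
    [IsOpenImmersion j'] (h : j = j') {K : DCoh.D X} (hK : LPDab a b j K) : LPDab a b j' K := by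
  subst h
  exact hK

theorem LPDab.mono {a b a' b' : ℤ} (ha : a' ≤ a) (hb : b ≤ b') {U : Scheme.{u}} {j : U ⟶ X}
    [IsOpenImmersion j] {K : DCoh.D X} (hK : LPDab a b j K) : LPDab a' b' j K := by
  obtain ⟨E, hab, hfl, i⟩ := hK
  exact ⟨E, fun k hk => hab k (by omega), hfl, i⟩

theorem LPDab_comp {a b : ℤ} {U U' : Scheme.{u}} (k : U' ⟶ U) (j : U ⟶ X)
    [IsOpenImmersion k] [IsOpenImmersion j] {K : DCoh.D X} (hK : LPDab a b j K) :
    LPDab a b (k ≫ j) K := by
  obtain ⟨E, hab, hfl, ⟨i⟩⟩ := hK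
  exact ⟨(RCx k).obj E,
    fun n hn => Functor.map_isZero (Scheme.Modules.restrictFunctor k) (hab n hn),
    fun n => isFinLocFree_restrict k _ (hfl n),
    ⟨restrictDCompObjIso k j K ≪≫ (DCoh.restrictD k).mapIso i ≪≫
      (Scheme.Modules.restrictFunctor k).mapDerivedCategoryFactors.app E⟩⟩

theorem van_of_LPDab {a b : ℤ} {U : Scheme.{u}} [IsAffine U] (j : U ⟶ X) [IsOpenImmersion j]
    {K : DCoh.D X} (hK : LPDab a b j K) : Van a b ((DCoh.restrictD j).obj K) := by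
  obtain ⟨E, hab, hfl, ⟨i⟩⟩ := hK
  exact (van_of_strictlyPerfect E hab hfl).of_iso i.symm

/-- a cover by opens over which `K` is strictly perfect of amplitude `[a, b]` gives the
hypothesis for the affine opens contained in a member of the cover -/
theorem affHyp_of_cover {a b : ℤ} {ι : Type*} (W : ι → X.Opens) (K : DCoh.D X)
    (h : ∀ k, LPDab a b (W k).ι K) : AffHyp (fun T => ∃ k, T ≤ W k) a b K := by
  rintro T hT ⟨k, hle⟩
  haveI : IsAffine (T : Scheme.{u}) := hT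
  have h1 : LPDab a b (X.homOfLE hle ≫ (W k).ι) K := LPDab_comp _ _ (h k)
  exact van_of_LPDab T.ι (LPDab_congr (X.homOfLE_ι hle) h1)

/-- a finite locally free module in degree `0` satisfies the hypothesis with `[a, b] = [0, 0]`
on all affine opens -/
theorem affHyp_inD (F : X.Modules) (hF : FlatMod.IsFinLocFree F) :
    AffHyp (fun _ => True) 0 0 (DCoh.inD X F) := by
  intro T hT _
  haveI : IsAffine (T : Scheme.{u}) := hT
  refine Van.of_iso ?_ (restrictInDIso F T).symm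
  have hP := isStrictlyPerfect_single (F.restrict T.ι) (isFinLocFree_restrict T.ι F hF)
  exact van_of_strictlyPerfect ((CochainComplex.singleFunctor _ 0).obj (F.restrict T.ι))
    (fun i hi => HomologicalComplex.isZero_single_obj_X _ _ _ _ (by omega)) hP.2

/-- **vanishing of maps out of a perfect object** -/
theorem exists_range_of_isPerfect [CompactSpace X] [QuasiSeparatedSpace X] (K : DCoh.D X)
    (hK : DCoh.IsPerfect K) :
    ∃ a b : ℤ, a ≤ b ∧ ∀ L : DCoh.D X, DCoh.IsQCohD L →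
      (∀ i : ℤ, a ≤ i → i ≤ b → IsZero (DCoh.HD L i)) → ∀ φ : K ⟶ L, φ = 0 := by
  classical
  -- local presentations on affine opens
  have key : ∀ x : X, ∃ (W : X.Opens) (a b : ℤ), x ∈ W ∧ IsAffineOpen W ∧ LPDab a b W.ι K := by
    intro x
    obtain ⟨V, hxV, E, ⟨⟨a, b, hab⟩, hfl⟩, ⟨i⟩⟩ := exists_LPD_of_isPerfect hK x
    obtain ⟨_, ⟨W, hW : IsAffineOpen W, rfl⟩, hxW, hWV⟩ :=
      X.isBasis_affineOpens.exists_subset_of_mem_open hxV V.isOpen
    have hle : W ≤ V := hWV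
    have h1 : LPDab a b V.ι K := ⟨E, hab, hfl, ⟨i⟩⟩
    exact ⟨W, a, b, hxW, hW, LPDab_congr (X.homOfLE_ι hle) (LPDab_comp (X.homOfLE hle) V.ι h1)⟩
  choose W a b hxW hW hK' using key
  obtain ⟨s, hs⟩ := isCompact_univ.elim_finite_subcover (fun x => (W x : Set X))
    (fun x => (W x).isOpen) (fun x _ => Set.mem_iUnion.2 ⟨x, hxW x⟩)
  obtain ⟨a₀, ha₀'⟩ := (s.image (fun x => -a x)).exists_le
  obtain ⟨b₀, hb₀'⟩ := (s.image b).exists_le
  have ha₀ : ∀ x ∈ s, -a x ≤ a₀ := fun x hx =>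
    ha₀' _ (Finset.mem_image_of_mem (fun x => -a x) hx)
  have hb₀ : ∀ x ∈ s, b x ≤ b₀ := fun x hx => hb₀' _ (Finset.mem_image_of_mem b hx)
  let a₁ : ℤ := min (-a₀) b₀
  have hcov : (⨆ k ∈ (Finset.univ : Finset s), W k.1) = ⊤ := by
    rw [eq_top_iff]
    intro x _
    obtain ⟨y, hy, hxy⟩ := Set.mem_iUnion₂.1 (hs (Set.mem_univ x))
    exact Opens.mem_iSup.2 ⟨⟨y, hy⟩, Opens.mem_iSup.2 ⟨Finset.mem_univ _, hxy⟩⟩
  have hpt := pt_cover (fun k : s => W k.1) (fun k => hW k.1) Finset.univ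
  rw [hcov] at hpt
  obtain ⟨r, hr, h⟩ := hom_eq_zero_of_pt_top _ hpt
  have hA : AffHyp (fun T => ∃ k : s, T ≤ W k.1) a₁ b₀ K :=
    affHyp_of_cover (fun k : s => W k.1) K (fun k => (hK' k.1).mono
      (by have := ha₀ k.1 k.2; simp only [a₁]; omega) (hb₀ k.1 k.2))
  refine ⟨a₁ - r, b₀, by simp only [a₁]; omega, fun L hL hz φ => ?_⟩
  exact h K a₁ b₀ hA L hL hz φ

end Groth.Agent.Lib.Helper5.HomVanish
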