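import Mathlib
import Groth.Prelude.Def_DCoh3
import Groth.Agent.Lib.Helper5.Perf.HomVanishMV

/-!
# Vanishing of maps out of shifts of a perfect object and truncations (helper5)
-/

set_option autoImplicit false
universe u
open CategoryTheory CategoryTheory.Limits AlgebraicGeometry
open Pretriangulated DerivedCategory.HomologySequence

attribute [local instance] HasDerivedCategory.standard

namespace Groth.Agent.Lib.Helper5.HomVanish

open Groth.Agent.Lib.Helper5.QC Groth.Agent.Helper1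

variable {X : Scheme.{u}}

/-- in a distinguished triangle `L ⟶ F ⟶ G` with `L ∈ D^{< a}`, `G ∈ D^{≥ a}` and `F ∈ D_QCoh`,
the object `L` is in `D_QCoh` -/
theorem isQCohD_obj₁_of_truncation (T : Triangle (DCoh.D X)) (hT : T ∈ distTriang _) (a : ℤ)
    [T.obj₁.IsLE (a - 1)] [T.obj₃.IsGE a] (hF : DCoh.IsQCohD T.obj₂) : DCoh.IsQCohD T.obj₁ := by
  intro i
  by_cases hi : a ≤ i
  · exact QcAbel.isQuasicoherent_of_isZero
      (DerivedCategory.isZero_of_isLE T.obj₁ (a - 1) i (by omega))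
  · have h1 : IsZero (DCoh.HD T.obj₃ i) := DerivedCategory.isZero_of_isGE T.obj₃ a i (by omega)
    have h2 : IsZero (DCoh.HD T.obj₃ (i - 1)) :=
      DerivedCategory.isZero_of_isGE T.obj₃ a (i - 1) (by omega)
    haveI : Mono ((DerivedCategory.homologyFunctor X.Modules i).map T.mor₁) :=
      (exact₁ T hT (i - 1) i (by omega)).mono_g (h2.eq_of_src _ _)
    haveI : Epi ((DerivedCategory.homologyFunctor X.Modules i).map T.mor₁) :=
      (exact₂ T hT i).epi_f (h1.eq_of_tgt _ _)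
    haveI : IsIso ((DerivedCategory.homologyFunctor X.Modules i).map T.mor₁) :=
      isIso_of_mono_of_epi _
    haveI : (DCoh.HD T.obj₂ i).IsQuasicoherent := hF i
    exact QcAbel.isQuasicoherent_of_iso
      (asIso ((DerivedCategory.homologyFunctor X.Modules i).map T.mor₁)).symm

/-- maps `P⟦-i⟧ ⟶ L` vanish if maps `P ⟶ L⟦i⟧` do -/
theorem hom_shift_eq_zero (P L : DCoh.D X) (i : ℤ) (h : ∀ ψ : P ⟶ L⟦i⟧, ψ = 0)
    (φ : P⟦-i⟧ ⟶ L) : φ = 0 := by
  apply (shiftFunctor (DCoh.D X) i).map_injective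
  rw [Functor.map_zero]
  let e : (P⟦-i⟧)⟦i⟧ ≅ P := (shiftFunctorCompIsoId (DCoh.D X) (-i) i (by omega)).app P
  have h1 := h (e.inv ≫ φ⟦i⟧')
  have h2 := congrArg (fun t => e.hom ≫ t) h1
  simpa using h2

/-- the range property of a (perfect) object -/
def RangeVan (a₀ b₀ : ℤ) (P : DCoh.D X) : Prop :=
  ∀ L : DCoh.D X, DCoh.IsQCohD L → (∀ i : ℤ, a₀ ≤ i → i ≤ b₀ → IsZero (DCoh.HD L i)) →
    ∀ φ : P ⟶ L, φ = 0

/-- maps from `P⟦-i⟧` to a shift of an object of `D_QCoh^{≤ c}` vanish for `i` large -/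
theorem hom_shift_eq_zero_of_isLE {a₀ b₀ : ℤ} {P : DCoh.D X} (hP : RangeVan a₀ b₀ P)
    (L : DCoh.D X) (hL : DCoh.IsQCohD L) (c : ℤ) [L.IsLE c] (n i : ℤ) (hi : c < n + i + a₀)
    (φ : P⟦-i⟧ ⟶ L⟦n⟧) : φ = 0 := by
  apply hom_shift_eq_zero
  intro ψ
  refine hP _ (isQCohD_shift' _ (isQCohD_shift' L hL n) i) (fun j hj _ => ?_) ψ
  refine IsZero.of_iso (DerivedCategory.isZero_of_isLE L c (n + (i + j)) (by omega))
    (hdShiftIso (L⟦n⟧) i j (i + j) rfl ≪≫ hdShiftIso L n (i + j) (n + (i + j)) rfl)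

/-- maps from `P⟦-i⟧` to a shift of an object of `D_QCoh^{≥ c}` vanish for `i` small -/
theorem hom_shift_eq_zero_of_isGE {a₀ b₀ : ℤ} {P : DCoh.D X} (hP : RangeVan a₀ b₀ P)
    (L : DCoh.D X) (hL : DCoh.IsQCohD L) (c : ℤ) [L.IsGE c] (n i : ℤ) (hi : n + i + b₀ < c)
    (φ : P⟦-i⟧ ⟶ L⟦n⟧) : φ = 0 := by
  apply hom_shift_eq_zero
  intro ψ
  refine hP _ (isQCohD_shift' _ (isQCohD_shift' L hL n) i) (fun j _ hj => ?_) ψ
  refine IsZero.of_iso (DerivedCategory.isZero_of_isGE L c (n + (i + j)) (by omega))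
    (hdShiftIso (L⟦n⟧) i j (i + j) rfl ≪≫ hdShiftIso L n (i + j) (n + (i + j)) rfl)

/-- an unshifted variant -/
theorem hom_eq_zero_of_iso_shift_zero (P L : DCoh.D X)
    (h : ∀ φ : P ⟶ L⟦(0 : ℤ)⟧, φ = 0) (φ : P ⟶ L) : φ = 0 := by
  have h1 := h (φ ≫ ((shiftFunctorZero (DCoh.D X) ℤ).app L).inv)
  have h2 := congrArg (fun t => t ≫ ((shiftFunctorZero (DCoh.D X) ℤ).app L).hom) h1
  simpa using h2

local notation "tS" => (DerivedCategory.TStructure.t :
  CategoryTheory.Triangulated.TStructure (DCoh.D X))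

/-- **vanishing for large `i` is insensitive to `τ_{≥ a}`** -/
theorem truncGE_iff {a₀ b₀ : ℤ} {P : DCoh.D X} (hP : RangeVan a₀ b₀ P) (E : DCoh.D X)
    (hE : DCoh.IsQCohD E) (a : ℤ) :
    (∃ N : ℤ, ∀ i : ℤ, N ≤ i → ∀ φ : P⟦-i⟧ ⟶ E, φ = 0) ↔
    (∃ N : ℤ, ∀ i : ℤ, N ≤ i → ∀ φ : P⟦-i⟧ ⟶ ((tS).truncGE a).obj E, φ = 0) := by
  have hT := (tS).triangleLTGE_distinguished a E
  let L' := ((tS).truncLT a).obj E
  haveI : L'.IsLE (a - 1) := inferInstanceAs ((((tS).truncLT a).obj E).IsLE (a - 1))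
  have hL' : DCoh.IsQCohD L' := isQCohD_obj₁_of_truncation _ hT a hE
  constructor
  · rintro ⟨N, hN⟩
    refine ⟨max N (a - a₀), fun i hi φ => ?_⟩
    have h0 : φ ≫ ((tS).truncGEδLT a).app E = 0 :=
      hom_shift_eq_zero_of_isLE hP L' hL' (a - 1) 1 i (by omega) _
    obtain ⟨g, hg⟩ := Triangle.coyoneda_exact₃ _ hT φ h0
    rw [hg, hN i (by omega) g]
    exact zero_comp
  · rintro ⟨N, hN⟩
    refine ⟨max N (a - a₀), fun i hi φ => ?_⟩
    have h0 : φ ≫ ((tS).truncGEπ a).app E = 0 := hN i (by omega) _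
    obtain ⟨g, hg⟩ := Triangle.coyoneda_exact₂ _ hT φ h0
    have hg0 : g = 0 := by
      apply hom_eq_zero_of_iso_shift_zero
      intro ψ
      exact hom_shift_eq_zero_of_isLE hP L' hL' (a - 1) 0 i (by omega) ψ
    rw [hg, hg0]
    exact zero_comp

/-- **vanishing for small `i` is insensitive to `τ_{≤ a}`** -/
theorem truncLE_iff {a₀ b₀ : ℤ} {P : DCoh.D X} (hP : RangeVan a₀ b₀ P) (E : DCoh.D X)
    (hE : DCoh.IsQCohD E) (a : ℤ) :
    (∃ N : ℤ, ∀ i : ℤ, i ≤ N → ∀ φ : P⟦-i⟧ ⟶ E, φ = 0) ↔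
    (∃ N : ℤ, ∀ i : ℤ, i ≤ N → ∀ φ : P⟦-i⟧ ⟶ ((tS).truncLE a).obj E, φ = 0) := by
  have hT := (tS).triangleLEGT_distinguished a E
  let L' := ((tS).truncGT a).obj E
  haveI : L'.IsGE (a + 1) := inferInstanceAs ((((tS).truncGT a).obj E).IsGE (a + 1))
  have hL' : DCoh.IsQCohD L' := by
    haveI h1 : (((tS).triangleLEGT a).obj E).obj₁.IsLE (a + 1 - 1) := by
      haveI : (((tS).truncLE a).obj E).IsLE a := inferInstance
      exact (tS).isLE_of_le (((tS).truncLE a).obj E) a (a + 1 - 1) (by omega)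
    haveI h2 : (((tS).triangleLEGT a).obj E).obj₃.IsGE (a + 1) :=
      inferInstanceAs ((((tS).truncGT a).obj E).IsGE (a + 1))
    exact @isQCohD_of_truncation X (((tS).triangleLEGT a).obj E) hT (a + 1) h1 h2 hE
  constructor
  · rintro ⟨N, hN⟩
    refine ⟨min N (a - b₀), fun i hi φ => ?_⟩
    have h0 : φ ≫ ((tS).truncLEι a).app E = 0 := hN i (by omega) _
    obtain ⟨g, hg⟩ := Triangle.coyoneda_exact₂ _ (inv_rot_of_distTriang _ hT) φ h0
    have hg0 : g = 0 :=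
      hom_shift_eq_zero_of_isGE hP L' hL' (a + 1) (-1) i (by omega) g
    rw [hg, hg0]
    exact zero_comp
  · rintro ⟨N, hN⟩
    refine ⟨min N (a - b₀), fun i hi φ => ?_⟩
    have h0 : φ ≫ ((tS).truncGTπ a).app E = 0 := by
      apply hom_eq_zero_of_iso_shift_zero
      intro ψ
      exact hom_shift_eq_zero_of_isGE hP L' hL' (a + 1) 0 i (by omega) ψ
    obtain ⟨g, hg⟩ := Triangle.coyoneda_exact₂ _ hT φ h0
    rw [hg, hN i (by omega) g]
    exact zero_comp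

end Groth.Agent.Lib.Helper5.HomVanish
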