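import Mathlib
import Groth.Prelude.Def_FlatMod2
import Groth.Prelude.Def_CohB1
import Groth.Agent.Lib.Helper5.Perf.FpFlat
import Groth.Agent.Lib.Helper5.Perf.ProjLocFree

/-!
# A finitely presented module with a flat stalk at a point is free near that point
-/
set_option autoImplicit false
set_option linter.style.haveILetI false
universe u
noncomputable section
open CategoryTheory CategoryTheory.Limits AlgebraicGeometry Opposite TopologicalSpace
open scoped TensorProduct

namespace Groth.Agent.Lib.Helper5.FpFlatPt

open Groth.Agent.Lib.Helper5.AffLocal Groth.Agent.Lib.Helper5.Shrink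
  Groth.Agent.Lead.FLF Groth.Agent.Lib.Helper5.StalkAdj Groth.Agent.Lib.Helper5.FtFp
  Groth.Agent.Lib.Helper5.FpFlat Groth.Agent.Lib.Helper5.ProjLocFree

/-- ring level: a finitely presented module whose localization at a prime is flat gives a
finite locally free sheaf on a principal open neighbourhood of that prime -/
theorem exists_chart_flf_tilde (R : Type u) [CommRing R] (M : Type u) [AddCommGroup M]
    [Module R M] [Module.FinitePresentation R M] (y : PrimeSpectrum R)
    (h : Module.Flat (Localization.AtPrime y.asIdeal)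
      (LocalizedModule y.asIdeal.primeCompl M)) :
    ∃ (U : Scheme.{u}) (g : U ⟶ Spec (CommRingCat.of R)) (_ : IsOpenImmersion g),
      y ∈ g.opensRange ∧
        FlatMod.IsFinLocFree
          ((tilde (ModuleCat.of R M) : (Spec (CommRingCat.of R)).Modules).restrict g) := by
  let p : Ideal R := y.asIdeal
  haveI : Module.Free (Localization.AtPrime p) (LocalizedModule p.primeCompl M) :=
    Module.free_of_flat_of_isLocalRing
  obtain ⟨r, hr, hfree, -⟩ := Module.FinitePresentation.exists_free_localizedModule_powers
    p.primeCompl (LocalizedModule.mkLinearMap p.primeCompl M) (Localization.AtPrime p)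
  let A' := Localization.Away r
  let g : Spec (CommRingCat.of A') ⟶ Spec (CommRingCat.of R) :=
    Spec.map (CommRingCat.ofHom (algebraMap R A'))
  refine ⟨Spec (CommRingCat.of A'), g, inferInstance, ?_, ?_⟩
  · have h1 := Scheme.Hom.opensRange_localizationAway (R := CommRingCat.of R) r
    change y ∈ (Spec.map (CommRingCat.ofHom
      (algebraMap (CommRingCat.of R) (Localization.Away r)))).opensRange
    rw [h1]
    exact hr
  · obtain ⟨e₁⟩ := Groth.Agent.Helper1.TildeBC.result R A' M
    haveI : Module.Free A' (A' ⊗[R] M) :=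
      Module.Free.of_equiv ((IsLocalizedModule.isBaseChange (Submonoid.powers r) A'
        (LocalizedModule.mkLinearMap (Submonoid.powers r) M)).equiv).symm
    refine isFinLocFree_of_iso ?_ (isFinLocFree_tilde_of_free A' (A' ⊗[R] M))
    exact (e₁.symm ≪≫ ((Scheme.Modules.restrictFunctorIsoPullback g).app _).symm)

/-- flatness of the stalk of `tilde N` gives flatness of the localization -/
theorem flat_localizedModule_of_flat_stalk_tilde (R : CommRingCat.{u}) (N : ModuleCat.{u} R)
    (p : PrimeSpectrum.Top R)
    (h : Module.Flat ((Spec R).presheaf.stalk p) ((tilde N).presheaf.stalk p)) :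
    Module.Flat (Localization.AtPrime p.asIdeal)
      (LocalizedModule p.asIdeal.primeCompl N) := by
  haveI := flat_stalk_tilde R N p h
  haveI := isLocalizedModule_toStalk R N p
  have e := IsLocalizedModule.iso p.asIdeal.primeCompl (tilde.toStalk N p).hom
  haveI : Module.Flat R (LocalizedModule p.asIdeal.primeCompl N) := Module.Flat.of_linearEquiv e
  exact (Module.flat_iff_of_isLocalization (R := R) (Localization.AtPrime p.asIdeal)
    p.asIdeal.primeCompl (LocalizedModule p.asIdeal.primeCompl N)).2 inferInstance

/-- on an affine scheme, a cokernel of a map between finite free modules which is flat at a point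
is finite locally free near that point -/
theorem exists_chart_flf_of_coker_affine (R : CommRingCat.{u}) (a b : ℕ) (M : (Spec R).Modules)
    (t : FlatMod.freeMod (Spec R) a ⟶ FlatMod.freeMod (Spec R) b) (e : M ≅ cokernel t)
    (y : Spec R) (hy : FlatMod.IsFlatAt M y) :
    ∃ (U : Scheme.{u}) (g : U ⟶ Spec R) (_ : IsOpenImmersion g),
      y ∈ g.opensRange ∧ FlatMod.IsFinLocFree (M.restrict g) := by
  obtain ⟨φ, hφ⟩ : ∃ φ : ModuleCat.of R (ULift.{u} (Fin a) →₀ R) ⟶
      ModuleCat.of R (ULift.{u} (Fin b) →₀ R),
      (tilde.functor R).map φ = (freeTildeIso R a).inv ≫ t ≫ (freeTildeIso R b).hom :=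
    ⟨(tilde.fullyFaithfulFunctor (R := R)).preimage _,
      (tilde.fullyFaithfulFunctor (R := R)).map_preimage _⟩
  have ht : t = (freeTildeIso R a).symm.inv ≫ (tilde.functor R).map φ ≫
      (freeTildeIso R b).symm.hom := by
    rw [hφ]
    simp
  have e' : M ≅ (tilde.functor R).obj (cokernel φ) :=
    e ≪≫ cokernelIsoOfEq ht ≪≫
      (cokernelTransportIso (tilde.functor R) φ (freeTildeIso R a).symm
        (freeTildeIso R b).symm).symm
  haveI := finitePresentation_cokernel R a b φ
  have hfl : Module.Flat ((Spec R).presheaf.stalk y)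
      ((stalkSh (Spec R) y).obj ((tilde.functor R).obj (cokernel φ))) :=
    (Module.Flat.equiv_iff ((stalkSh (Spec R) y).mapIso e').toLinearEquiv).1 hy
  have hloc := flat_localizedModule_of_flat_stalk_tilde R (cokernel φ) y hfl
  obtain ⟨U, g, hg, hyg, hU⟩ := exists_chart_flf_tilde R (cokernel φ : ModuleCat.{u} R) y hloc
  exact ⟨U, g, hg, hyg, isFinLocFree_of_iso
    ((Scheme.Modules.restrictFunctor g).mapIso e'.symm) hU⟩

variable {X : Scheme.{u}}

/-- **pointwise**: a module which is locally a cokernel of a map between finite free modules and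
whose stalk at `x` is flat is finite locally free on a neighbourhood of `x` -/
theorem exists_chart_flf_of_hasCokerCharts (F : X.Modules) (h : HasCokerCharts F) (x : X)
    (hx : FlatMod.IsFlatAt F x) :
    ∃ (U : Scheme.{u}) (k : U ⟶ X) (_ : IsOpenImmersion k),
      x ∈ k.opensRange ∧ FlatMod.IsFinLocFree (F.restrict k) := by
  obtain ⟨R, j, hj, a, b, ⟨y, rfl⟩, f, ⟨e⟩⟩ := h.affine x
  have hy : FlatMod.IsFlatAt (F.restrict j) y := by
    have h1 := flat_stalk_pullback j y F hx
    exact (Module.Flat.equiv_iff ((stalkSh (Spec R) y).mapIso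
      ((Scheme.Modules.restrictFunctorIsoPullback j).app F)).toLinearEquiv).2 h1
  obtain ⟨U, g, hg, hyg, hU⟩ := exists_chart_flf_of_coker_affine R a b _ f e y hy
  refine ⟨U, g ≫ j, inferInstance, ?_, ?_⟩
  · obtain ⟨w, hw⟩ := hyg
    exact ⟨w, by rw [← hw]; rfl⟩
  · exact isFinLocFree_of_iso ((Scheme.Modules.restrictFunctorComp g j).app F).symm hU

end Groth.Agent.Lib.Helper5.FpFlatPt
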