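import Mathlib
import Groth.Prelude.Def_FlatMod2
import Groth.Prelude.Def_CohB1
import Groth.Agent.Lib.Helper5.Perf.FpFlatPt
import Groth.Agent.Lib.Helper5.Perf.FlatPC
import Groth.Agent.Lib.Helper5.Perf.StalkFree
import Groth.Agent.Lib.Helper5.Perf.KerFLF
import Groth.Agent.Lib.Helper5.Perf.CyclesFLF

/-!
# Finite local freeness near a point
-/
set_option autoImplicit false
set_option linter.style.haveILetI false
universe u
noncomputable section
open CategoryTheory CategoryTheory.Limits AlgebraicGeometry Opposite TopologicalSpace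

namespace Groth.Agent.Lib.Helper5.NearFLF

open Groth.Agent.Lead.FLF Groth.Agent.Lib.Helper5.StalkAdj Groth.Agent.Lib.Helper5.FtFp
  Groth.Agent.Lib.Helper5.FpFlat Groth.Agent.Lib.Helper5.FpFlatPt
  Groth.Agent.Lib.Helper5.KerFLF Groth.Agent.Lib.Helper5.FlatPC

variable {X : Scheme.{u}}

/-- shrinking along a factorization -/
theorem flf_of_comp {U U' : Scheme.{u}} (k : U' ⟶ U) (j : U ⟶ X) (l : U' ⟶ X)
    [IsOpenImmersion k] [IsOpenImmersion j] [IsOpenImmersion l] (h : k ≫ j = l) (M : X.Modules)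
    (hM : FlatMod.IsFinLocFree (M.restrict j)) : FlatMod.IsFinLocFree (M.restrict l) := by
  subst h
  exact isFinLocFree_of_iso ((Scheme.Modules.restrictFunctorComp k j).app M).symm
    (isFinLocFree_restrict k _ hM)

theorem flf_mono (M : X.Modules) {W' W : X.Opens} (h : W' ≤ W)
    (hM : FlatMod.IsFinLocFree (M.restrict W.ι)) : FlatMod.IsFinLocFree (M.restrict W'.ι) :=
  flf_of_comp (X.homOfLE h) W.ι W'.ι (X.homOfLE_ι h) M hM

/-- from a chart to its range -/
theorem flf_opensRange {U : Scheme.{u}} (k : U ⟶ X) [IsOpenImmersion k] (M : X.Modules)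
    (hM : FlatMod.IsFinLocFree (M.restrict k)) :
    FlatMod.IsFinLocFree (M.restrict k.opensRange.ι) :=
  flf_of_comp k.isoOpensRange.inv k k.opensRange.ι (Scheme.Hom.isoOpensRange_inv_comp k) M hM

/-- finite local freeness on an open can be checked on an open cover of it -/
theorem flf_of_cover (M : X.Modules) (U : X.Opens)
    (h : ∀ x ∈ U, ∃ W : X.Opens, W ≤ U ∧ x ∈ W ∧ FlatMod.IsFinLocFree (M.restrict W.ι)) :
    FlatMod.IsFinLocFree (M.restrict U.ι) := by
  apply isFinLocFree_of_charts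
  intro y
  obtain ⟨W, hle, hxW, hW⟩ := h y.1 y.2
  refine ⟨W, X.homOfLE hle, inferInstance, ⟨⟨y.1, hxW⟩, ?_⟩, ?_⟩
  · exact Scheme.homOfLE_apply' hle y.1 hxW
  · exact isFinLocFree_of_iso ((Scheme.Modules.restrictFunctorComp (X.homOfLE hle) U.ι).app M)
      (flf_of_comp (𝟙 _) W.ι (X.homOfLE hle ≫ U.ι)
        (by rw [Category.id_comp, X.homOfLE_ι]) M hW)

theorem flf_restrict_of_iso {M N : X.Modules} (e : M ≅ N) {U : Scheme.{u}} (j : U ⟶ X)
    [IsOpenImmersion j] (hM : FlatMod.IsFinLocFree (M.restrict j)) :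
    FlatMod.IsFinLocFree (N.restrict j) :=
  isFinLocFree_of_iso ((Scheme.Modules.restrictFunctor j).mapIso e) hM

theorem flf_restrict_of_isZero {M : X.Modules} (h : IsZero M) {U : Scheme.{u}} (j : U ⟶ X)
    [IsOpenImmersion j] : FlatMod.IsFinLocFree (M.restrict j) :=
  Groth.Agent.Lib.Helper5.RpushOpen.isFinLocFree_of_isZero _
    (Functor.map_isZero (Scheme.Modules.restrictFunctor j) h)

/-- kernels of epimorphisms -/
theorem flf_kernel {P Q : X.Modules} (π : P ⟶ Q) [Epi π] {U : Scheme.{u}} (j : U ⟶ X)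
    [IsOpenImmersion j] (hP : FlatMod.IsFinLocFree (P.restrict j))
    (hQ : FlatMod.IsFinLocFree (Q.restrict j)) :
    FlatMod.IsFinLocFree ((kernel π).restrict j) := by
  haveI : Epi ((Scheme.Modules.restrictFunctor j).map π) := inferInstance
  exact isFinLocFree_of_iso (PreservesKernel.iso (Scheme.Modules.restrictFunctor j) π).symm
    (isFinLocFree_kernel ((Scheme.Modules.restrictFunctor j).map π) hP hQ)

/-- flatness of stalks passes to restrictions -/
theorem isFlatAt_restrict {U : Scheme.{u}} (j : U ⟶ X) [IsOpenImmersion j] (M : X.Modules)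
    (y : U) (h : FlatMod.IsFlatAt M (j y)) : FlatMod.IsFlatAt (M.restrict j) y := by
  have h1 := flat_stalk_pullback j y M h
  exact (Module.Flat.equiv_iff ((stalkSh U y).mapIso
    ((Scheme.Modules.restrictFunctorIsoPullback j).app M)).toLinearEquiv).2 h1

theorem isFlatAt_of_iso {M N : X.Modules} (e : M ≅ N) (x : X) (h : FlatMod.IsFlatAt M x) :
    FlatMod.IsFlatAt N x :=
  (Module.Flat.equiv_iff ((stalkSh X x).mapIso e).toLinearEquiv).1 h

/-- cokernels with a flat stalk -/
theorem exists_flf_cokernel {P Z : X.Modules} (t : P ⟶ Z) (W : X.Opens) (x : X) (hx : x ∈ W)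
    (hP : FlatMod.IsFinLocFree (P.restrict W.ι)) (hZ : FlatMod.IsFinLocFree (Z.restrict W.ι))
    (hfl : FlatMod.IsFlatAt (cokernel t) x) :
    ∃ W' : X.Opens, W' ≤ W ∧ x ∈ W' ∧ FlatMod.IsFinLocFree ((cokernel t).restrict W'.ι) := by
  let RW := Scheme.Modules.restrictFunctor W.ι
  have hc : HasCokerCharts ((cokernel t).restrict W.ι) :=
    hasCokerCharts_of_coker_flf _ (RW.map t) hP hZ (PreservesCokernel.iso RW t)
  have hfl' : FlatMod.IsFlatAt ((cokernel t).restrict W.ι) ⟨x, hx⟩ :=
    isFlatAt_restrict W.ι _ ⟨x, hx⟩ hfl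
  obtain ⟨U, k, hk, hxk, hU⟩ := exists_chart_flf_of_hasCokerCharts _ hc ⟨x, hx⟩ hfl'
  have h2 : FlatMod.IsFinLocFree ((cokernel t).restrict (k ≫ W.ι)) :=
    isFinLocFree_of_iso ((Scheme.Modules.restrictFunctorComp k W.ι).app _).symm hU
  refine ⟨(k ≫ W.ι).opensRange, ?_, ?_, flf_opensRange (k ≫ W.ι) _ h2⟩
  · rintro _ ⟨u, rfl⟩
    exact (k u).2
  · obtain ⟨u, hu⟩ := hxk
    exact ⟨u, by
      change W.ι (k u) = x
      rw [hu]
      rfl⟩

open Groth.Agent.Lib.Helper5.CyclesFLF


/-- homology as the cokernel of `E^j ⟶ Z^{j+1}` -/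
def homologyCokerToZIso (E : CochainComplex X.Modules ℤ) (j : ℤ) :
    E.homology (j + 1) ≅ cokernel (toZ E j) :=
  ShortComplex.homologyMapIso (E.isoSc' j (j + 1) (j + 1 + 1) (by simp) (by simp)) ≪≫
    (E.sc' j (j + 1) (j + 1 + 1)).homologyIsoCokernelLift

/-- `Z^j` as the kernel of `E^j ⟶ B^{j+1}` -/
def kernelFactorThruImageIso (E : CochainComplex X.Modules ℤ) (j : ℤ) :
    kernel (Abelian.factorThruImage (toZ E j)) ≅ kernel (E.d j (j + 1)) :=
  (kernelCompMono (Abelian.factorThruImage (toZ E j)) (Abelian.image.ι (toZ E j))).symm ≪≫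
    kernelIsoOfEq (Abelian.image.fac (toZ E j)) ≪≫ kernelToZIso E j

theorem isZero_homology_of_isZero (E : CochainComplex X.Modules ℤ) (i : ℤ) (h : IsZero (E.X i)) :
    IsZero (E.homology i) :=
  ShortComplex.isZero_homology_of_isZero_X₂ _ h

/-- **chain level**: a strictly perfect complex all of whose cohomology sheaves are flat at `x`
has finite locally free cohomology sheaves near `x` -/
theorem exists_flf_homology {K : CochainComplex X.Modules ℤ} (hK : DCoh.IsStrictlyPerfect K)
    (x : X) (hx : ∀ i : ℤ, FlatMod.IsFlatAt (K.homology i) x) :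
    ∃ W : X.Opens, x ∈ W ∧ ∀ i : ℤ, FlatMod.IsFinLocFree ((K.homology i).restrict W.ι) := by
  obtain ⟨⟨a, b, hab⟩, hfl⟩ := hK
  have key : ∀ k : ℕ, ∀ n : ℤ, b + 1 - k ≤ n → ∃ W : X.Opens, x ∈ W ∧
      FlatMod.IsFinLocFree ((kernel (K.d n (n + 1))).restrict W.ι) ∧
      ∀ i : ℤ, n < i → FlatMod.IsFinLocFree ((K.homology i).restrict W.ι) := by
    intro k
    induction k with
    | zero =>
      intro n hn
      refine ⟨⊤, trivial, ?_, ?_⟩
      · have hz : IsZero (K.X n) := hab n (Or.inr (by push_cast at hn; omega))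
        exact flf_restrict_of_isZero (IsZero.of_mono (kernel.ι (K.d n (n + 1))) hz) _
      · intro i hi
        have hz : IsZero (K.X i) := hab i (Or.inr (by push_cast at hn; omega))
        exact flf_restrict_of_isZero (isZero_homology_of_isZero K i hz) _
    | succ k ih =>
      intro n hn
      by_cases h : b + 1 - (k : ℤ) ≤ n
      · exact ih n h
      · obtain ⟨W, hxW, hZ, hH⟩ := ih (n + 1) (by push_cast at hn; omega)
        have hP : FlatMod.IsFinLocFree ((K.X n).restrict W.ι) :=
          isFinLocFree_restrict W.ι _ (hfl n)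
        have hc : FlatMod.IsFlatAt (cokernel (toZ K n)) x :=
          isFlatAt_of_iso (homologyCokerToZIso K n) x (hx (n + 1))
        obtain ⟨W', hW', hxW', hC⟩ := exists_flf_cokernel (toZ K n) W x hxW hP hZ hc
        have hB : FlatMod.IsFinLocFree ((Abelian.image (toZ K n)).restrict W'.ι) :=
          flf_kernel (cokernel.π (toZ K n)) W'.ι (flf_mono _ hW' hZ) hC
        refine ⟨W', hxW', ?_, ?_⟩
        · exact flf_restrict_of_iso (kernelFactorThruImageIso K n) W'.ι
            (flf_kernel (Abelian.factorThruImage (toZ K n)) W'.ι (flf_mono _ hW' hP) hB)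
        · intro i hi
          by_cases h2 : i = n + 1
          · subst h2
            exact flf_restrict_of_iso (homologyCokerToZIso K n).symm W'.ι hC
          · exact flf_mono _ hW' (hH i (by omega))
  obtain ⟨W, hxW, -, hH⟩ := key (b + 1 - (a - 1)).toNat (a - 1) (by omega)
  refine ⟨W, hxW, fun i => ?_⟩
  by_cases hi : a - 1 < i
  · exact hH i hi
  · exact flf_restrict_of_isZero (isZero_homology_of_isZero K i (hab i (Or.inl (by omega)))) _

end Groth.Agent.Lib.Helper5.NearFLF
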