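import Mathlib
import Groth.Prelude.Def_DCoh3
import Groth.Prelude.Def_DTor2
import Groth.Prelude.Def_KSix
import Groth.Agent.Lib.Helper5.Perf.FlatPC
import Groth.Agent.Lib.Helper5.Perf.RelPerf
import Groth.Agent.Lib.Helper5.Perf.NearFLF
import Groth.Agent.Lib.Helper5.Stalk.RpushSupp
import Groth.Agent.Lib.Helper5.KFlatSite2.LTM
import Groth.Agent.Lib.Helper5.KFlatSite2.TorAmpD
import Groth.Agent.Lib.Helper5.KFlatSite2.TorAmpIff
import Groth.Agent.Lib.Helper5.RestrTen.RestrTenS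
import Groth.Agent.Lib.Helper5.LTen.PerfTensor

/-!
# Perfect amplitude = pseudo-coherence + flat amplitude; tor amplitude is local (helper5)
-/
set_option autoImplicit false
set_option linter.style.haveILetI false
set_option linter.unusedSectionVars false
set_option linter.unusedVariables false
universe u
open CategoryTheory CategoryTheory.Limits AlgebraicGeometry Opposite TopologicalSpace

attribute [local instance] HasDerivedCategory.standard

namespace Groth.Agent.Lib.Helper5.PerfAmpl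

open Groth.Agent.Lib.Helper5.FpFlat Groth.Agent.Lib.Helper5.CyclesFLF
  Groth.Agent.Lib.Helper5.StalkAdj Groth.Agent.Lead.FLF
  Groth.Agent.Lib.Helper5.PerfTri Groth.Agent.Lib.Helper5.LocRepr
  Groth.Agent.Lib.Helper5.PCApprox Groth.Agent.Lib.Helper5.ExactHom
  Groth.Agent.Lib.Helper5.LocNull Groth.Agent.Lib.Helper5.FlatPC

variable {X : Scheme.{u}}

/-! ### a module which is locally zero is zero -/

theorem isZero_of_local (M : X.Modules)
    (h : ∀ x : X, ∃ V : X.Opens, x ∈ V ∧ IsZero (M.restrict V.ι)) : IsZero M := by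
  rw [IsZero.iff_id_eq_zero]
  apply Scheme.Modules.hom_ext
  intro U
  ext m
  show m = 0
  let F : TopCat.Sheaf AddCommGrpCat.{u} X := ⟨M.presheaf, M.isSheaf⟩
  refine TopCat.Presheaf.section_ext F U m 0 ?_
  intro y hy
  obtain ⟨V, hyV, hV⟩ := h y
  haveI := Groth.Agent.Lib.Helper5.RpushSupp.subsingleton_stalk_of_isZero_restrict M V hV y hyV
  exact Subsingleton.elim _ _

/-! ### restriction commutes with the derived tensor product with a module -/

/-- restriction commutes with `- ⊗ G` applied termwise -/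
noncomputable def restrictTensorRightCx {U : Scheme.{u}} (j : U ⟶ X) [IsOpenImmersion j]
    (G : X.Modules) (P : CochainComplex X.Modules ℤ) :
    (RCx j).obj (((DCoh.tensorRightMod G).mapHomologicalComplex (ComplexShape.up ℤ)).obj P) ≅
      ((DCoh.tensorRightMod ((Scheme.Modules.restrictFunctor j).obj G)).mapHomologicalComplex
        (ComplexShape.up ℤ)).obj ((RCx j).obj P) :=
  HomologicalComplex.Hom.isoOfComponents
    (fun i => Groth.Agent.Lib.Helper5.RestrTen.restrictTensorIso j (P.X i) G)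
    (fun i k _ =>
      (Groth.Agent.Lib.Helper5.RestrTen.restrictTensorIso_naturality_left j (P.d i k) G).symm)

theorem nonempty_restrictLTensorModIso (V : X.Opens) (G : X.Modules) [DCoh.HasLTensorMod G]
    [DCoh.HasLTensorMod ((Scheme.Modules.restrictFunctor V.ι).obj G)] (E : DCoh.D X) :
    Nonempty ((DCoh.restrictD V.ι).obj ((DCoh.LTensorMod G).obj E) ≅
      (DCoh.LTensorMod ((Scheme.Modules.restrictFunctor V.ι).obj G)).obj
        ((DCoh.restrictD V.ι).obj E)) := by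
  obtain ⟨P, hP, -, ⟨eP⟩⟩ := Groth.Agent.Lib.Helper5.Pure.exists_kflat_repr E
  have hPV : DCoh.IsKFlat ((RCx V.ι).obj P) :=
    Groth.Agent.Lib.Helper5.PerfTensor.isKFlat_restrict V.ι P hP
  exact ⟨(DCoh.restrictD V.ι).mapIso ((DCoh.LTensorMod G).mapIso eP.symm) ≪≫
    (DCoh.restrictD V.ι).mapIso (Groth.Agent.Lib.Helper5.LTM.ltensorModObjIso G P hP) ≪≫
    (Scheme.Modules.restrictFunctor V.ι).mapDerivedCategoryFactors.app _ ≪≫
    DerivedCategory.Q.mapIso (restrictTensorRightCx V.ι G P) ≪≫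
    (Groth.Agent.Lib.Helper5.LTM.ltensorModObjIso
      ((Scheme.Modules.restrictFunctor V.ι).obj G) ((RCx V.ι).obj P) hPV).symm ≪≫
    (DCoh.LTensorMod ((Scheme.Modules.restrictFunctor V.ι).obj G)).mapIso
      ((Scheme.Modules.restrictFunctor V.ι).mapDerivedCategoryFactors.app P).symm ≪≫
    (DCoh.LTensorMod ((Scheme.Modules.restrictFunctor V.ι).obj G)).mapIso
      ((DCoh.restrictD V.ι).mapIso eP)⟩

/-- **tor amplitude is a local property** -/
theorem hasTorAmplitudeIn_of_local (E : DCoh.D X) (a b : ℤ)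
    (h : ∀ x : X, ∃ V : X.Opens, x ∈ V ∧
      DCoh.HasTorAmplitudeIn a b ((DCoh.restrictD V.ι).obj E)) :
    DCoh.HasTorAmplitudeIn a b E := by
  intro G _ i hi
  apply isZero_of_local
  intro x
  obtain ⟨V, hxV, hV⟩ := h x
  refine ⟨V, hxV, ?_⟩
  haveI : DCoh.HasLTensorMod ((Scheme.Modules.restrictFunctor V.ι).obj G) :=
    Groth.Agent.Lib.Helper5.LTM.hasLTensorMod _
  obtain ⟨e⟩ := nonempty_restrictLTensorModIso V G E
  exact (hV _ i hi).of_iso
    (Groth.Agent.Lib.Helper5.RpushSupp.hdRestrictDIso _ V i ≪≫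
      (DerivedCategory.homologyFunctor _ i).mapIso e)

/-- **flat amplitude is a local property** -/
theorem hasFlatAmplitudeIn_of_local (E : DCoh.D X) (a b : ℤ) (hab : a ≤ b)
    (h : ∀ x : X, ∃ V : X.Opens, x ∈ V ∧
      DCoh.HasFlatAmplitudeIn a b ((DCoh.restrictD V.ι).obj E)) :
    DCoh.HasFlatAmplitudeIn a b E := by
  rw [← Groth.Agent.Lib.Helper5.Pure.torAmplitude_iff_flatAmplitude E a b hab
    (fun G => Groth.Agent.Lib.Helper5.LTM.hasLTensorMod G)]
  apply hasTorAmplitudeIn_of_local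
  intro x
  obtain ⟨V, hxV, hV⟩ := h x
  exact ⟨V, hxV, Groth.Agent.Lib.Helper5.LTM.hasTorAmplitudeIn_of_hasFlatAmplitudeIn hV⟩

/-! ### local perfect amplitude -/

/-- `K` restricted along `j` is represented by a complex of finite locally free modules in
`[m, n]` -/
def LPA (m n : ℤ) {U : Scheme.{u}} (j : U ⟶ X) [IsOpenImmersion j] (K : DCoh.D X) : Prop :=
  ∃ E : CochainComplex U.Modules ℤ, DCoh.VanishesOutside E m n ∧
    (∀ i : ℤ, FlatMod.IsFinLocFree (E.X i)) ∧
    Nonempty ((DCoh.restrictD j).obj K ≅ DerivedCategory.Q.obj E)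

theorem LPA_congr {m n : ℤ} {U : Scheme.{u}} {j j' : U ⟶ X} [IsOpenImmersion j]
    [IsOpenImmersion j'] (h : j = j') {K : DCoh.D X} (hK : LPA m n j K) : LPA m n j' K := by
  subst h
  exact hK

theorem LPA_comp {m n : ℤ} {U U' : Scheme.{u}} (k : U' ⟶ U) (j : U ⟶ X)
    [IsOpenImmersion k] [IsOpenImmersion j] {K : DCoh.D X} (hK : LPA m n j K) :
    LPA m n (k ≫ j) K := by
  obtain ⟨E, hE, hfl, ⟨i⟩⟩ := hK
  exact ⟨(RCx k).obj E,
    fun p hp => Functor.map_isZero (Scheme.Modules.restrictFunctor k) (hE p hp),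
    fun p => Groth.Agent.Lib.Helper5.LocNull.isFinLocFree_restrict k _ (hfl p),
    ⟨restrictDCompObjIso k j K ≪≫ (DCoh.restrictD k).mapIso i ≪≫
      (Scheme.Modules.restrictFunctor k).mapDerivedCategoryFactors.app E⟩⟩

theorem hasPerfectAmplitudeIn_of_LPA {m n : ℤ} {K : DCoh.D X}
    (h : ∀ x : X, ∃ (U : Scheme.{u}) (j : U ⟶ X) (_ : IsOpenImmersion j),
      x ∈ Set.range j.base ∧ LPA m n j K) : KSix.HasPerfectAmplitudeIn m n K := by
  intro x
  obtain ⟨U, j, hj, hx, hjK⟩ := h x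
  have h1 : LPA m n j.opensRange.ι K :=
    LPA_congr (Scheme.Hom.isoOpensRange_inv_comp j) (LPA_comp j.isoOpensRange.inv j hjK)
  obtain ⟨E, hE, hfl, ⟨i⟩⟩ := h1
  refine ⟨j.opensRange, hx, fun F ⟨eF⟩ => ⟨E, hE, hfl, ⟨?_⟩⟩⟩
  exact ((Scheme.Modules.restrictFunctor j.opensRange.ι).mapDerivedCategoryFactors.app F).symm ≪≫
    (DCoh.restrictD j.opensRange.ι).mapIso eF ≪≫ i

theorem exists_LPA_of_hasPerfectAmplitudeIn {m n : ℤ} {K : DCoh.D X}
    (hK : KSix.HasPerfectAmplitudeIn m n K) (x : X) :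
    ∃ V : X.Opens, x ∈ V ∧ LPA m n V.ι K := by
  obtain ⟨V, hxV, hV⟩ := hK x
  let F : CochainComplex X.Modules ℤ := DerivedCategory.Q.objPreimage K
  let e : DerivedCategory.Q.obj F ≅ K := DerivedCategory.Q.objObjPreimageIso K
  obtain ⟨E, hE, hfl, ⟨i⟩⟩ := hV F ⟨e⟩
  exact ⟨V, hxV, E, hE, hfl, ⟨(DCoh.restrictD V.ι).mapIso e.symm ≪≫
    (Scheme.Modules.restrictFunctor V.ι).mapDerivedCategoryFactors.app F ≪≫ i⟩⟩

/-! ### the forward direction -/

theorem isPerfect_of_hasPerfectAmplitudeIn {m n : ℤ} {K : DCoh.D X}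
    (hK : KSix.HasPerfectAmplitudeIn m n K) : DCoh.IsPerfect K := by
  intro x
  obtain ⟨V, hxV, hV⟩ := hK x
  refine ⟨V, hxV, fun F hF => ?_⟩
  obtain ⟨E, hE, hfl, hi⟩ := hV F hF
  exact ⟨E, ⟨⟨m, n, hE⟩, hfl⟩, hi⟩

theorem hasFlatAmplitudeIn_of_hasPerfectAmplitudeIn {m n : ℤ} (hmn : m ≤ n) {K : DCoh.D X}
    (hK : KSix.HasPerfectAmplitudeIn m n K) : DCoh.HasFlatAmplitudeIn m n K := by
  apply hasFlatAmplitudeIn_of_local K m n hmn
  intro x
  obtain ⟨V, hxV, E, hE, hfl, ⟨i⟩⟩ := exists_LPA_of_hasPerfectAmplitudeIn hK x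
  exact ⟨V, hxV, E, hE, fun p => flatMod_of_isFinLocFree _ (hfl p), ⟨i.symm⟩⟩

/-! ### the converse -/

theorem truncLE_flf {W : Scheme.{u}} (L : CochainComplex W.Modules ℤ)
    (hL : DCoh.IsStrictlyPerfect L) (m n : ℤ) (hmn : m ≤ n)
    (hlow : ∀ i : ℤ, i < m → IsZero (L.X i)) (hex : ∀ i : ℤ, n < i → L.ExactAt i) :
    DCoh.VanishesOutside (L.truncLE n) m n ∧
      (∀ i : ℤ, FlatMod.IsFinLocFree ((L.truncLE n).X i)) ∧
      Nonempty (DerivedCategory.Q.obj (L.truncLE n) ≅ DerivedCategory.Q.obj L) := by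
  haveI : L.IsLE n := (CochainComplex.isLE_iff L n).2 hex
  refine ⟨fun i hi => ?_, fun i => ?_, ⟨?_⟩⟩
  · rcases hi with hi | hi
    · exact IsZero.of_iso (hlow i hi) (L.truncLEXIso n i (by omega))
    · exact (L.truncLE n).isZero_of_isStrictlyLE n i hi
  · rcases lt_trichotomy i n with h | h | h
    · exact isFinLocFree_of_iso (L.truncLEXIso n i h).symm (hL.2 i)
    · subst h
      have h1 : FlatMod.IsFinLocFree (kernel (L.d i (i + 1))) :=
        isFinLocFree_kernel_d hL i hex i le_rfl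
      let e : L.cycles i ≅ kernel (L.d i (i + 1)) :=
        IsLimit.conePointUniqueUpToIso (L.cyclesIsKernel i (i + 1) (by simp))
          (limit.isLimit (parallelPair (L.d i (i + 1)) 0))
      exact isFinLocFree_of_iso (L.truncLEXIsoCycles i ≪≫ e).symm h1
    · exact Groth.Agent.Lib.Helper5.RpushOpen.isFinLocFree_of_isZero _
        ((L.truncLE n).isZero_of_isStrictlyLE n i h)
  · haveI : QuasiIso (L.ιTruncLE n) := inferInstance
    haveI : IsIso (DerivedCategory.Q.map (L.ιTruncLE n)) :=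
      (DerivedCategory.isIso_Q_map_iff_quasiIso _ _).2 inferInstance
    exact asIso (DerivedCategory.Q.map (L.ιTruncLE n))

theorem exists_truncGE_of_approx {U : Scheme.{u}} {F K : CochainComplex U.Modules ℤ} {a b : ℤ}
    (hF : DCoh.VanishesOutside F a b) (hFfl : ∀ i : ℤ, FlatMod.IsFlat (F.X i))
    (hK : DCoh.IsStrictlyPerfect K)
    (α : DerivedCategory.Q.obj K ⟶ DerivedCategory.Q.obj F)
    (hα : ∀ i : ℤ, a ≤ i → IsIso ((DerivedCategory.homologyFunctor _ i).map α)) (x : U) :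
    ∃ (W : U.Opens) (L : CochainComplex (W : Scheme.{u}).Modules ℤ), x ∈ W ∧
      DCoh.IsStrictlyPerfect L ∧ (∀ i : ℤ, i < a → IsZero (L.X i)) ∧
      Nonempty (DerivedCategory.Q.obj ((DCoh.restrictCx W).obj F) ≅ DerivedCategory.Q.obj L) := by
  obtain ⟨W, hxW, hW⟩ := locally_represented hK α x
  obtain ⟨β, hβ⟩ := hW
  have hβq : ∀ i : ℤ, a ≤ i → QuasiIsoAt β i := by
    intro i hi
    apply quasiIsoAt_of_isIso_homology_Q_map
    have h1 : IsIso ((DerivedCategory.homologyFunctor _ i).map ((DCoh.restrictD W.ι).map α)) :=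
      isIso_homology_map α i (hα i hi)
    rw [hβ, Functor.map_comp, Functor.map_comp] at h1
    haveI := h1
    haveI := IsIso.of_isIso_comp_left
      ((DerivedCategory.homologyFunctor _ i).map
        ((Scheme.Modules.restrictFunctor W.ι).mapDerivedCategoryFactors.hom.app K))
      ((DerivedCategory.homologyFunctor _ i).map (DerivedCategory.Q.map β) ≫
        (DerivedCategory.homologyFunctor _ i).map
          ((Scheme.Modules.restrictFunctor W.ι).mapDerivedCategoryFactors.inv.app F))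
    exact IsIso.of_isIso_comp_right
      ((DerivedCategory.homologyFunctor _ i).map (DerivedCategory.Q.map β))
      ((DerivedCategory.homologyFunctor _ i).map
        ((Scheme.Modules.restrictFunctor W.ι).mapDerivedCategoryFactors.inv.app F))
  obtain ⟨hL, ⟨e⟩⟩ := truncGE_perfect (X := W) (F := (DCoh.restrictCx W).obj F)
    (K := (DCoh.restrictCx W).obj K) (a := a) (b := b)
    (fun i hi => Functor.map_isZero (Scheme.Modules.restrictFunctor W.ι) (hF i hi))
    (fun i => flatMod_restrict W.ι _ (hFfl i))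
    (isStrictlyPerfect_restrict W.ι hK) β hβq
  exact ⟨W, _, hxW, hL,
    fun i hi => (((DCoh.restrictCx W).obj K).truncGE a).isZero_of_isStrictlyGE a i hi, ⟨e⟩⟩

/-- **an `(m - 1)`-pseudo-coherent object with flat amplitude in `[m, n]` has perfect amplitude
in `[m, n]`** -/
theorem hasPerfectAmplitudeIn_of_flatAmplitude_of_pseudoCoherent (E : DCoh.D X) (m n : ℤ)
    (hmn : m ≤ n) (h1 : DCoh.HasFlatAmplitudeIn m n E)
    (h2 : DCoh.IsPseudoCoherentD (m - 1) E) : KSix.HasPerfectAmplitudeIn m n E := by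
  obtain ⟨F, hF, hFfl, ⟨eF⟩⟩ := h1
  apply hasPerfectAmplitudeIn_of_LPA
  intro x
  obtain ⟨V, hxV, K, α, hK, hα⟩ := exists_approx_of_isPC h2 x
  let FV : CochainComplex (V : Scheme.{u}).Modules ℤ := (DCoh.restrictCx V).obj F
  let eV : (DCoh.restrictD V.ι).obj E ≅ DerivedCategory.Q.obj FV :=
    (DCoh.restrictD V.ι).mapIso eF.symm ≪≫
      (Scheme.Modules.restrictFunctor V.ι).mapDerivedCategoryFactors.app F
  have hα' : ∀ i : ℤ, m ≤ i → IsIso ((DerivedCategory.homologyFunctor _ i).map (α ≫ eV.hom)) := by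
    intro i hi
    haveI := hα.1 i (by omega)
    rw [Functor.map_comp]
    infer_instance
  obtain ⟨W, L, hxW, hL, hLlow, ⟨e⟩⟩ := exists_truncGE_of_approx (U := V) (F := FV) (K := K)
    (a := m) (b := n)
    (fun i hi => Functor.map_isZero (Scheme.Modules.restrictFunctor V.ι) (hF i hi))
    (fun i => flatMod_restrict V.ι _ (hFfl i)) hK (α ≫ eV.hom) hα' ⟨x, hxV⟩
  have hex : ∀ i : ℤ, n < i → L.ExactAt i := by
    intro i hi
    rw [HomologicalComplex.exactAt_iff_isZero_homology]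
    have hz : IsZero (((DCoh.restrictCx W).obj FV).X i) :=
      Functor.map_isZero (Scheme.Modules.restrictFunctor W.ι)
        (Functor.map_isZero (Scheme.Modules.restrictFunctor V.ι) (hF i (Or.inr hi)))
    have hz' : IsZero (((DCoh.restrictCx W).obj FV).homology i) :=
      Groth.Agent.Lib.Helper5.NearFLF.isZero_homology_of_isZero _ i hz
    exact hz'.of_iso (((DerivedCategory.homologyFunctorFactors _ i).app L).symm ≪≫
      (DerivedCategory.homologyFunctor _ i).mapIso e.symm ≪≫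
      (DerivedCategory.homologyFunctorFactors _ i).app _)
  obtain ⟨hv, hfl, ⟨e'⟩⟩ := truncLE_flf L hL m n hmn hLlow hex
  refine ⟨W, W.ι ≫ V.ι, inferInstance, ⟨⟨⟨x, hxV⟩, hxW⟩, rfl⟩, L.truncLE n, hv, hfl, ⟨?_⟩⟩
  exact restrictDCompObjIso W.ι V.ι E ≪≫ (DCoh.restrictD W.ι).mapIso eV ≪≫
    (Scheme.Modules.restrictFunctor W.ι).mapDerivedCategoryFactors.app FV ≪≫ e ≪≫ e'.symm

/-- **perfect amplitude = pseudo-coherence + flat amplitude** -/
theorem hasPerfectAmplitudeIn_iff (E : DCoh.D X) (m n : ℤ) (hmn : m ≤ n) :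
    KSix.HasPerfectAmplitudeIn m n E ↔
      DCoh.IsPseudoCoherentD (m - 1) E ∧ DCoh.HasFlatAmplitudeIn m n E :=
  ⟨fun h => ⟨Groth.Agent.Lib.Helper5.LpullLib.isPseudoCoherentD_of_isPerfect E
      (isPerfect_of_hasPerfectAmplitudeIn h) (m - 1),
    hasFlatAmplitudeIn_of_hasPerfectAmplitudeIn hmn h⟩,
  fun h => hasPerfectAmplitudeIn_of_flatAmplitude_of_pseudoCoherent E m n hmn h.2 h.1⟩

end Groth.Agent.Lib.Helper5.PerfAmpl
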