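import Mathlib
import Groth.Agent.Lib.Helper5.Misc.StupidTruncH

/-!
# General dévissage by terms in the derived category of an abelian category; squares of exact
functors; lifting maps to top cohomology (helper5)
-/

set_option autoImplicit false
set_option linter.style.haveILetI false

universe w w' v v' u u'

open CategoryTheory CategoryTheory.Limits Pretriangulated DerivedCategory

namespace Groth.Agent.Lib.Helper5.DevGen

open Groth.Agent.Lib.Helper5.Misc.StupidTrunc

section Dev

variable {C : Type u} [Category.{v} C] [Abelian C] [HasDerivedCategory.{w} C]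

theorem isZero_of_X {E : CochainComplex C ℤ} (h : ∀ i, IsZero (E.X i)) : IsZero E := by
  rw [IsZero.iff_id_eq_zero]
  ext i : 1
  exact (h i).eq_of_src _ _

theorem mono_ιGE (E : CochainComplex C ℤ) (a : ℤ) : Mono (ιGE E a) := by
  have : ∀ i, Mono ((ιGE E a).f i) := fun i => by
    rw [ιGE_f]
    exact (SplitMono.mk (tπ E a i) (tι_tπ E a i)).mono
  exact HomologicalComplex.mono_of_mono_f _ this

/-- Dévissage by terms of a bounded complex (term `K^i` placed in degree `i`). -/
theorem of_terms (P : ObjectProperty (DerivedCategory C)) [P.IsClosedUnderIsomorphisms]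
    (hext : ∀ T ∈ distTriang (DerivedCategory C), P T.obj₁ → P T.obj₃ → P T.obj₂)
    (K : CochainComplex C ℤ) (a b : ℤ)
    (hK : ∀ i, (i < a ∨ b < i) → IsZero (K.X i))
    (h : ∀ i, P ((singleFunctor C i).obj (K.X i))) : P (Q.obj K) := by
  have hz : ∀ Z : DerivedCategory C, IsZero Z → P Z := by
    intro Z hZ
    have h0 := h (a - 1)
    have : IsZero ((singleFunctor C (a - 1)).obj (K.X (a - 1))) :=
      Functor.map_isZero _ (hK (a-1) (Or.inl (by omega)))
    exact P.prop_of_iso (this.iso hZ) h0
  have main : ∀ (n : ℕ) (a : ℤ) (E : CochainComplex C ℤ),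
      (∀ i, i < a → IsZero (E.X i)) → (∀ i, a + n ≤ i → IsZero (E.X i)) →
      (∀ i, P ((singleFunctor C i).obj (E.X i))) → P (Q.obj E) := by
    intro n
    induction n with
    | zero =>
      intro a E h1 h2 _
      refine hz _ (Functor.map_isZero _ (isZero_of_X fun i => ?_))
      rcases lt_or_ge i a with hi | hi
      · exact h1 i hi
      · exact h2 i (by simpa using hi)
    | succ n ih =>
      intro a E h1 h2 hE
      have := mono_ιGE E (a + 1)
      let S : ShortComplex (CochainComplex C ℤ) :=
        ShortComplex.mk (ιGE E (a + 1)) (cokernel.π (ιGE E (a + 1))) (cokernel.condition _)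
      have hS : S.ShortExact :=
        ShortComplex.ShortExact.mk' (ShortComplex.exact_cokernel _) this
          (inferInstanceAs (Epi (cokernel.π (ιGE E (a + 1)))))
      have hT := triangleOfSES_distinguished hS
      have hSi : ∀ i, (S.map (HomologicalComplex.eval _ _ i)).ShortExact :=
        fun i => hS.map_of_exact _
      refine hext _ hT ?_ ?_
      · -- the truncation
        change P (Q.obj (sigmaGE E (a + 1)))
        refine ih (a + 1) _ (fun i hi => isZero_sigmaGE_X E hi) ?_ ?_
        · intro i hi
          have := isIso_ιGE_f E (show a + 1 ≤ i by omega)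
          exact (h2 i (by push_cast; omega)).of_iso (asIso ((ιGE E (a+1)).f i))
        · intro i
          by_cases hi : a + 1 ≤ i
          · have := isIso_ιGE_f E hi
            exact P.prop_of_iso ((singleFunctor C i).mapIso (asIso ((ιGE E (a+1)).f i))).symm
              (hE i)
          · exact hz _ (Functor.map_isZero _ (isZero_sigmaGE_X E (by omega)))
      · -- the cokernel, concentrated in degree a
        change P (Q.obj (cokernel (ιGE E (a + 1))))
        set Ck := cokernel (ιGE E (a + 1)) with hCk
        have hz3 : ∀ i, i ≠ a → IsZero (Ck.X i) := by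
          intro i hi
          rcases lt_or_gt_of_ne hi with hi | hi
          · have : Epi ((S.map (HomologicalComplex.eval _ _ i)).g) := (hSi i).epi_g
            exact @IsZero.of_epi _ _ _ _ _ ((S.map (HomologicalComplex.eval _ _ i)).g) this (h1 i hi)
          · have : IsIso ((S.map (HomologicalComplex.eval _ _ i)).f) :=
              isIso_ιGE_f E (show a + 1 ≤ i by omega)
            exact (hSi i).isIso_f_iff.1 this
        have : Ck.IsStrictlyGE a := by
          rw [CochainComplex.isStrictlyGE_iff]
          intro i hi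
          exact hz3 i (by omega)
        have : Ck.IsStrictlyLE a := by
          rw [CochainComplex.isStrictlyLE_iff]
          intro i hi
          exact hz3 i (by omega)
        obtain ⟨Y, ⟨e⟩⟩ := CochainComplex.exists_iso_single Ck a
        have ig : IsIso ((S.map (HomologicalComplex.eval _ _ a)).g) :=
          (hSi a).isIso_g_iff.2 (isZero_sigmaGE_X E (by omega))
        have eY : E.X a ≅ Y :=
          @asIso _ _ _ _ ((S.map (HomologicalComplex.eval _ _ a)).g) ig ≪≫
            (HomologicalComplex.eval _ _ a).mapIso e ≪≫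
            HomologicalComplex.singleObjXSelf (ComplexShape.up ℤ) a Y
        refine P.prop_of_iso ?_ (hE a)
        exact (singleFunctor C a).mapIso eY ≪≫
          (singleFunctorIsoCompQ C a).app Y ≪≫ Q.mapIso e.symm
  by_cases hab : a ≤ b + 1
  · obtain ⟨n, hn⟩ := Int.eq_ofNat_of_zero_le (show 0 ≤ b + 1 - a by omega)
    exact main n a K (fun i hi => hK i (Or.inl hi)) (fun i hi => hK i (Or.inr (by omega))) h
  · refine main 0 a K (fun i hi => hK i (Or.inl hi)) (fun i hi => ?_) h
    exact hK i (Or.inr (by simp at hi; omega))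

end Dev

section Square

variable {A : Type u} [Category.{v} A] [Abelian A] [HasDerivedCategory.{w} A]
  {B : Type u} [Category.{v} B] [Abelian B] [HasDerivedCategory.{w} B]
  {B' : Type u} [Category.{v} B'] [Abelian B'] [HasDerivedCategory.{w} B']
  {D : Type u} [Category.{v} D] [Abelian D] [HasDerivedCategory.{w} D]
  (F₁ : A ⥤ B) (G₁ : B ⥤ D) (G₂ : A ⥤ B') (F₂ : B' ⥤ D)
  [F₁.Additive] [PreservesFiniteLimits F₁] [PreservesFiniteColimits F₁]
  [G₁.Additive] [PreservesFiniteLimits G₁] [PreservesFiniteColimits G₁]
  [G₂.Additive] [PreservesFiniteLimits G₂] [PreservesFiniteColimits G₂]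
  [F₂.Additive] [PreservesFiniteLimits F₂] [PreservesFiniteColimits F₂]

/-- a square of exact functors commuting up to isomorphism commutes objectwise on derived
categories -/
noncomputable def squareObjIso (e : F₁ ⋙ G₁ ≅ G₂ ⋙ F₂) (K : DerivedCategory A) :
    G₁.mapDerivedCategory.obj (F₁.mapDerivedCategory.obj K) ≅
      F₂.mapDerivedCategory.obj (G₂.mapDerivedCategory.obj K) :=
  let F : CochainComplex A ℤ := Q.objPreimage K
  let eK : Q.obj F ≅ K := Q.objObjPreimageIso K
  G₁.mapDerivedCategory.mapIso (F₁.mapDerivedCategory.mapIso eK.symm) ≪≫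
    G₁.mapDerivedCategory.mapIso (F₁.mapDerivedCategoryFactors.app F) ≪≫
    G₁.mapDerivedCategoryFactors.app ((F₁.mapHomologicalComplex (ComplexShape.up ℤ)).obj F) ≪≫
    Q.mapIso ((NatIso.mapHomologicalComplex e (ComplexShape.up ℤ)).app F) ≪≫
    (F₂.mapDerivedCategoryFactors.app ((G₂.mapHomologicalComplex (ComplexShape.up ℤ)).obj F)).symm ≪≫
    F₂.mapDerivedCategory.mapIso (G₂.mapDerivedCategoryFactors.app F).symm ≪≫
    F₂.mapDerivedCategory.mapIso (G₂.mapDerivedCategory.mapIso eK)

end Square

section Lift

theorem epi_of_epi_comp_iso {C : Type*} [Category C] {X Y Z : C} (f : X ⟶ Y) (e : Y ⟶ Z) [IsIso e]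
    (h : Epi (f ≫ e)) : Epi f := by
  have : f = (f ≫ e) ≫ inv e := by simp
  rw [this]
  infer_instance

variable {C : Type u} [Category.{v} C] [Abelian C] [HasDerivedCategory.{w} C]

/-- a map `k : P ⟶ K^a` with `d k = 0` inducing an epimorphism onto `H^a(K)` gives a map
`P[-a] ⟶ K` in the derived category which is an epimorphism on `H^a` -/
theorem exists_single_lift (K : CochainComplex C ℤ) (a : ℤ) {P : C} (k : P ⟶ K.X a)
    (hk : k ≫ K.d a (a + 1) = 0)
    (h : Epi (K.liftCycles k (a + 1) (by simp) hk ≫ K.homologyπ a)) :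
    ∃ ψ : (singleFunctor C a).obj P ⟶ Q.obj K, Epi ((homologyFunctor C a).map ψ) := by
  let S : CochainComplex C ℤ := (HomologicalComplex.single C (ComplexShape.up ℤ) a).obj P
  let φ : S ⟶ K := HomologicalComplex.mkHomFromSingle k (by
    intro j hj
    have : j = a + 1 := by simpa using hj.symm
    subst this
    exact hk)
  have hφ : φ.f a = (HomologicalComplex.singleObjXSelf (ComplexShape.up ℤ) a P).hom ≫ k :=
    HomologicalComplex.mkHomFromSingle_f _ _
  have hd : S.d a (a + 1) = 0 := HomologicalComplex.single_obj_d _ _ _ _ _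
  haveI : IsIso (S.iCycles a) := S.isIso_iCycles a (a + 1) (by simp) hd
  have hc : HomologicalComplex.cyclesMap φ a =
      S.iCycles a ≫ (HomologicalComplex.singleObjXSelf (ComplexShape.up ℤ) a P).hom ≫
        K.liftCycles k (a + 1) (by simp) hk := by
    rw [← cancel_mono (K.iCycles a)]
    simp [hφ]
  have hepi : Epi (HomologicalComplex.homologyMap φ a) := by
    haveI : Epi (S.homologyπ a ≫ HomologicalComplex.homologyMap φ a) := by
      rw [HomologicalComplex.homologyπ_naturality, hc]
      simp only [Category.assoc]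
      haveI := h
      infer_instance
    exact epi_of_epi (S.homologyπ a) _
  refine ⟨(singleFunctorIsoCompQ C a).hom.app P ≫ Q.map φ, ?_⟩
  rw [Functor.map_comp]
  have h1 : Epi ((homologyFunctor C a).map (Q.map φ)) := by
    change Epi ((Q ⋙ homologyFunctor C a).map φ)
    rw [← NatIso.naturality_2 (homologyFunctorFactors C a) φ]
    haveI : Epi ((HomologicalComplex.homologyFunctor C (ComplexShape.up ℤ) a).map φ) := hepi
    infer_instance
  haveI h2 : IsIso ((homologyFunctor C a).map ((singleFunctorIsoCompQ C a).hom.app P)) :=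
    inferInstance
  exact @epi_comp _ _ _ _ _ _ inferInstance _ h1

variable {D : Type u'} [Category.{v'} D] [Abelian D]
  (F : C ⥤ D) [F.Additive] [PreservesFiniteLimits F] [PreservesFiniteColimits F]

/-- the lifting criterion after applying an exact functor, for short complexes -/
theorem epi_liftCycles_map_sc (S : ShortComplex C) {P : D}
    (g : P ⟶ F.obj S.cycles) (h : Epi (g ≫ F.map S.homologyπ))
    (hk : (g ≫ F.map S.iCycles) ≫ (S.map F).g = 0) :
    Epi ((S.map F).liftCycles (g ≫ F.map S.iCycles) hk ≫ (S.map F).homologyπ) := by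
  let h' : (S.map F).LeftHomologyData := S.leftHomologyData.map F
  have hi : h'.i = F.map S.iCycles := rfl
  have hπ : h'.π = F.map S.leftHomologyπ := rfl
  have e1 : (S.map F).liftCycles (g ≫ F.map S.iCycles) hk ≫ h'.cyclesIso.hom = g := by
    rw [← cancel_mono h'.i, Category.assoc, h'.cyclesIso_hom_comp_i, hi]
    exact (S.map F).liftCycles_i _ _
  have e2 : (S.map F).homologyπ ≫ h'.homologyIso.hom = h'.cyclesIso.hom ≫ h'.π :=
    h'.homologyπ_comp_homologyIso_hom
  have e3 : S.leftHomologyπ ≫ S.leftHomologyIso.hom = S.homologyπ := rfl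
  have : Epi (((S.map F).liftCycles (g ≫ F.map S.iCycles) hk ≫ (S.map F).homologyπ) ≫
      h'.homologyIso.hom) := by
    rw [Category.assoc, e2, reassoc_of% e1, hπ]
    have h4 : g ≫ F.map S.homologyπ =
        (g ≫ F.map S.leftHomologyπ) ≫ F.map S.leftHomologyIso.hom := by
      rw [Category.assoc, ← F.map_comp, e3]
    rw [h4] at h
    have h5 : IsIso (F.map S.leftHomologyIso.hom) := (F.mapIso S.leftHomologyIso).isIso_hom
    exact @epi_of_epi_comp_iso _ _ _ _ _ _ (F.map S.leftHomologyIso.hom) h5 h
  exact epi_of_epi_comp_iso _ h'.homologyIso.hom this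

/-- the lifting criterion after applying an exact functor -/
theorem epi_liftCycles_map (G : CochainComplex C ℤ) (a : ℤ) {P : D}
    (g : P ⟶ F.obj (G.cycles a)) (h : Epi (g ≫ F.map (G.homologyπ a)))
    (k : P ⟶ ((F.mapHomologicalComplex (ComplexShape.up ℤ)).obj G).X a)
    (hkg : k = g ≫ F.map (G.iCycles a)) :
    ∃ (hk : k ≫ ((F.mapHomologicalComplex (ComplexShape.up ℤ)).obj G).d a (a + 1) = 0),
      Epi (((F.mapHomologicalComplex (ComplexShape.up ℤ)).obj G).liftCycles
        k (a + 1) (by simp) hk ≫
          ((F.mapHomologicalComplex (ComplexShape.up ℤ)).obj G).homologyπ a) := by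
  subst hkg
  have hk : (g ≫ F.map (G.iCycles a)) ≫
      ((F.mapHomologicalComplex (ComplexShape.up ℤ)).obj G).d a (a + 1) = 0 := by
    change (g ≫ F.map (G.iCycles a)) ≫ F.map (G.d a (a + 1)) = 0
    rw [Category.assoc, ← F.map_comp, G.iCycles_d, F.map_zero, comp_zero]
  refine ⟨hk, ?_⟩
  have hk' : (g ≫ F.map (G.sc a).iCycles) ≫ ((G.sc a).map F).g = 0 := by
    change (g ≫ F.map (G.iCycles a)) ≫ F.map (G.d a ((ComplexShape.up ℤ).next a)) = 0
    rw [Category.assoc, ← F.map_comp, G.iCycles_d, F.map_zero, comp_zero]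
  exact epi_liftCycles_map_sc F (G.sc a) g h hk'

end Lift

end Groth.Agent.Lib.Helper5.DevGen
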