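import Mathlib
import Groth.Prelude.Def_DCoh3
import Groth.Prelude.Def_CohB1
import Groth.Agent.Lib.Helper5.Perf.PCSingle
import Groth.Agent.Lib.Helper5.Perf.LocLift
import Groth.Agent.Lib.Helper5.Perf.DevGen
import Groth.Agent.Lib.Helper5.FinPC.IsoSq
import Groth.Agent.Lib.Helper5.TildePC.FromApprox
import Groth.Agent.Lib.Helper5.QC.RpushBound

/-!
# Pseudo-coherence: general lemmas used for direct images along closed immersions (helper5)
-/

set_option autoImplicit false
set_option linter.style.haveILetI false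

universe u

open CategoryTheory CategoryTheory.Limits AlgebraicGeometry Opposite TopologicalSpace
  CategoryTheory.Pretriangulated
open scoped ZeroObject

attribute [local instance] HasDerivedCategory.standard

namespace Groth.Agent.Lib.Helper5.ClPush

open Groth.Agent.Lib.Helper5.PCApprox Groth.Agent.Lib.Helper5.PCTri
  Groth.Agent.Lib.Helper5.PCBiprod Groth.Agent.Lib.Helper5.PCSingle
  Groth.Agent.Lib.Helper5.PerfTri Groth.Agent.Lib.Helper5.Shrink
  Groth.Agent.Lib.Helper5.RpushSupp Groth.Agent.Lib.Helper5.TildePC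

variable {X : Scheme.{u}}

theorem isPC_of_isZero {K : DCoh.D X} (hK : IsZero K) (m : ℤ) : DCoh.IsPseudoCoherentD m K :=
  isPC_of_approx_self (approx_zero m K (fun _ _ => Functor.map_isZero _ hK))

/-- pseudo-coherent for all `m` -/
def pcAll (X : Scheme.{u}) : ObjectProperty (DCoh.D X) :=
  fun K => ∀ m : ℤ, DCoh.IsPseudoCoherentD m K

instance : (pcAll X).IsClosedUnderIsomorphisms where
  of_iso e h := fun m => isPC_of_iso e (h m)

theorem pcAll_ext : ∀ T ∈ distTriang (DCoh.D X),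
    pcAll X T.obj₁ → pcAll X T.obj₃ → pcAll X T.obj₂ :=
  fun T hT h1 h3 m => (isPC_triangle m T hT).2.1 (h1 m) (h3 m)

instance : (pcAll X).ContainsZero :=
  ⟨⟨0, isZero_zero _, fun m => isPC_of_isZero (isZero_zero _) m⟩⟩

instance : (pcAll X).IsStableUnderShift ℤ where
  isStableUnderShiftBy n := ⟨fun _ hK m => isPC_shift (hK (n + m)) n m rfl⟩

instance : (pcAll X).IsTriangulatedClosed₂ := .mk' pcAll_ext

instance : (pcAll X).IsTriangulated where

/-- a module in degree `a` which is pseudo-coherent in degree `0` -/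
theorem pcAll_single (M : X.Modules) (h : pcAll X (DCoh.inD X M)) (a : ℤ) :
    pcAll X ((DerivedCategory.singleFunctor X.Modules a).obj M) :=
  (pcAll X).prop_of_iso
    (((DerivedCategory.singleFunctors X.Modules).shiftIso (-a) a 0 (by omega)).app M)
    ((pcAll X).le_shift (-a) _ h)

theorem pcAll_single_flf (P : X.Modules) (hP : FlatMod.IsFinLocFree P) (a : ℤ) :
    pcAll X ((DerivedCategory.singleFunctor X.Modules a).obj P) :=
  pcAll_single P (fun m => isPC_of_approx_self (approx_single_flf m P hP)) a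

/-- the image of a finite coproduct under an additive functor to `D(X)` -/
theorem pcAll_map_sigma {A : Type*} [Category A] [Preadditive A] [HasFiniteBiproducts A]
    [HasFiniteCoproducts A]
    (H : A ⥤ DCoh.D X) [H.Additive] (n : ℕ) (f : Fin n → A)
    (hf : ∀ j, pcAll X (H.obj (f j))) : pcAll X (H.obj (∐ f)) := by
  have h1 : pcAll X (∏ᶜ fun j => H.obj (f j)) := (pcAll X).prop_product hf
  exact (pcAll X).prop_of_iso
    ((biproduct.isoProduct (fun j => H.obj (f j))).symm ≪≫ (H.mapBiproduct f).symm ≪≫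
      H.mapIso (biproduct.isoCoproduct f)) h1

/-- bounded complexes with pseudo-coherent terms -/
theorem pcAll_of_terms (K : CochainComplex X.Modules ℤ) (a b : ℤ)
    (hK : ∀ i, (i < a ∨ b < i) → IsZero (K.X i))
    (h : ∀ i, pcAll X (DCoh.inD X (K.X i))) : pcAll X (DCoh.toD X K) :=
  Groth.Agent.Lib.Helper5.DevGen.of_terms (pcAll X) pcAll_ext K a b hK
    (fun i => pcAll_single _ (h i) i)

section Cone

open DerivedCategory.HomologySequence

/-- the cone of an `m`-approximation has no cohomology in degrees `≥ m` -/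
theorem isZero_HD_cone (T : Triangle (DCoh.D X)) (hT : T ∈ distTriang _) (m : ℤ)
    (h : IsApprox m T.mor₁) (j : ℤ) (hj : m ≤ j) : IsZero (DCoh.HD T.obj₃ j) := by
  haveI : IsIso ((DerivedCategory.homologyFunctor X.Modules (j + 1)).map T.mor₁) :=
    h.1 (j + 1) (by omega)
  have hδ : δ T j (j + 1) rfl = 0 :=
    (mono_homologyMap_mor₁_iff T hT j (j + 1) rfl).1 inferInstance
  haveI : Epi ((DerivedCategory.homologyFunctor X.Modules j).map T.mor₂) :=
    (epi_homologyMap_mor₂_iff T hT j (j + 1) rfl).2 hδ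
  have hepi : Epi ((DerivedCategory.homologyFunctor X.Modules j).map T.mor₁) := h.epi j hj
  have h0 : (DerivedCategory.homologyFunctor X.Modules j).map T.mor₂ = 0 :=
    (epi_homologyMap_mor₁_iff T hT j).1 hepi
  exact IsZero.of_epi_eq_zero _ h0

/-- the target of an `m`-approximation from an `m`-pseudo-coherent object is `m`-pseudo-coherent -/
theorem isPC_of_isApprox {A B : DCoh.D X} (α : A ⟶ B) (m : ℤ) (h : IsApprox m α)
    (hA : DCoh.IsPseudoCoherentD m A) : DCoh.IsPseudoCoherentD m B := by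
  obtain ⟨C, g, k, hT⟩ := distinguished_cocone_triangle α
  have hC : DCoh.IsPseudoCoherentD m C :=
    isPC_of_approx_self (approx_zero m C (isZero_HD_cone _ hT m h))
  exact (isPC_triangle m _ hT).2.1 hA hC

end Cone

/-- the derived category of an empty scheme is trivial -/
theorem isZero_of_isEmpty [IsEmpty X] (K : DCoh.D X) : IsZero K := by
  let F : CochainComplex X.Modules ℤ := DerivedCategory.Q.objPreimage K
  have hF : IsZero F := Groth.Agent.Lib.Helper5.DevGen.isZero_of_X (fun i =>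
    Groth.Agent.Lib.Helper5.QC.isZero_of_stalks _ (fun x => (IsEmpty.false x).elim))
  exact (Functor.map_isZero DerivedCategory.Q hF).of_iso
    (DerivedCategory.Q.objObjPreimageIso K).symm

/-- **local lifting of generators of a finite type cohomology sheaf to the derived category** -/
theorem exists_top_lift {Z : Scheme.{u}} (E : DCoh.D Z) (a : ℤ)
    (hFT : CohB1.IsFT (DCoh.HD E a)) (z : Z) :
    ∃ W : Z.Opens, z ∈ W ∧ ∀ V : Z.Opens, V ≤ W → ∃ (n : ℕ)
      (ψ : (DerivedCategory.singleFunctor (V : Scheme.{u}).Modules a).obj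
          (FlatMod.freeMod (V : Scheme.{u}) n) ⟶ (DCoh.restrictD V.ι).obj E),
      Epi ((DerivedCategory.homologyFunctor _ a).map ψ) := by
  obtain ⟨W₁, hzW₁, hW₁⟩ := Groth.Agent.Helper7.FinType.exists_generators_of_le _ hFT z
  obtain ⟨G₁, hG₁⟩ := hW₁ W₁ le_rfl
  haveI : Finite G₁.I := hG₁.finite
  let E₁ : DCoh.D (W₁ : Scheme.{u}) := (DCoh.restrictD W₁.ι).obj E
  let G : CochainComplex (W₁ : Scheme.{u}).Modules ℤ := DerivedCategory.Q.objPreimage E₁
  let eG : DerivedCategory.Q.obj G ≅ E₁ := DerivedCategory.Q.objObjPreimageIso E₁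
  let n : ℕ := Nat.card G₁.I
  let ι₁ : (DCoh.HD E a).restrict W₁.ι ≅ G.homology a :=
    hdRestrictDIso E W₁ a ≪≫ (DerivedCategory.homologyFunctor _ a).mapIso eG.symm ≪≫
      (DerivedCategory.homologyFunctorFactors _ a).app G
  let φ : FlatMod.freeMod (W₁ : Scheme.{u}) n ⟶ G.homology a :=
    (freeIsoOfFinite (W₁ : Scheme.{u}) G₁.I).inv ≫ G₁.π ≫ ι₁.hom
  have h1 : Epi G₁.π := G₁.epi
  have h2 : Epi ι₁.hom := inferInstance
  have h3 : Epi (G₁.π ≫ ι₁.hom) := @epi_comp _ _ _ _ _ _ h1 _ h2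
  haveI : Epi φ := @epi_comp _ _ _ _ _ _ inferInstance _ h3
  obtain ⟨W₂, hzW₂, hW₂⟩ :=
    Groth.Agent.Lib.Helper5.LocLift.exists_lift_free (G.homologyπ a) n φ ⟨z, hzW₁⟩
  refine ⟨W₁.ι ''ᵁ W₂, ⟨⟨z, hzW₁⟩, hzW₂, rfl⟩, fun V hV => ?_⟩
  have hV₁ : V ≤ W₁ := hV.trans (W₁.ι_image_le W₂)
  let k : (V : Scheme.{u}) ⟶ (W₁ : Scheme.{u}) := Z.homOfLE hV₁
  have hk : k.opensRange ≤ W₂ := by
    rw [Scheme.opensRange_homOfLE]
    intro x hx
    obtain ⟨y, hy, hyx⟩ := hV hx
    have : y = x := W₁.ι.isOpenEmbedding.injective hyx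
    rw [← this]
    exact hy
  obtain ⟨ψ₀, hψ₀⟩ := hW₂ k hk
  let F := Scheme.Modules.restrictFunctor k
  let g : FlatMod.freeMod (V : Scheme.{u}) n ⟶ F.obj (G.cycles a) := (restrictFreeIso k n).inv ≫ ψ₀
  have hg : Epi (g ≫ F.map (G.homologyπ a)) := by
    have : g ≫ F.map (G.homologyπ a) = (restrictFreeIso k n).inv ≫ F.map φ := by
      dsimp only [g]
      rw [Category.assoc, hψ₀]
    rw [this]
    haveI : Epi (F.map φ) := inferInstance
    infer_instance
  obtain ⟨hk0, hk1⟩ := Groth.Agent.Lib.Helper5.DevGen.epi_liftCycles_map F G a g hg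
    (g ≫ F.map (G.iCycles a)) rfl
  obtain ⟨ψ₁, hψ₁⟩ := Groth.Agent.Lib.Helper5.DevGen.exists_single_lift _ a _ hk0 hk1
  let c : DerivedCategory.Q.obj ((F.mapHomologicalComplex (ComplexShape.up ℤ)).obj G) ≅
      (DCoh.restrictD V.ι).obj E :=
    (F.mapDerivedCategoryFactors.app G).symm ≪≫ (DCoh.restrictD k).mapIso eG ≪≫
      (restrictDCompObjIso k W₁.ι E).symm ≪≫
      Groth.Agent.Lib.Helper5.TildePC.restrictDCongrObjIso (Z.homOfLE_ι hV₁) E
  refine ⟨n, ψ₁ ≫ c.hom, ?_⟩
  rw [Functor.map_comp]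
  haveI := hψ₁
  infer_instance

end Groth.Agent.Lib.Helper5.ClPush
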