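import Mathlib
import Groth.Prelude.Def_DCoh3
import Groth.Prelude.Def_CohB1
import Groth.Agent.Lib.Helper5.Perf.ClPushA
import Groth.Agent.Lib.Helper5.Perf.Pull
import Groth.Agent.Lib.Helper5.Misc.ClosedPushMod
import Groth.Agent.Lib.Helper5.Stalk.RpushRes
import Groth.Agent.Lib.Helper5.RelPC.RelPCBdd
import Groth.Agent.Lib.Lead.FLF2

/-!
# Pseudo-coherence and direct images along closed immersions: the direct implication (helper5)
-/

set_option autoImplicit false
set_option linter.style.haveILetI false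

universe u

open CategoryTheory CategoryTheory.Limits AlgebraicGeometry Opposite TopologicalSpace
  CategoryTheory.Pretriangulated
open scoped ZeroObject

attribute [local instance] HasDerivedCategory.standard

namespace Groth.Agent.Lib.Helper5.ClPush

open Groth.Agent.Lib.Helper5.PCApprox Groth.Agent.Lib.Helper5.PCTri
  Groth.Agent.Lib.Helper5.PCBiprod Groth.Agent.Lib.Helper5.PCSingle
  Groth.Agent.Lib.Helper5.PerfTri Groth.Agent.Lib.Helper5.Shrink
  Groth.Agent.Lib.Helper5.RpushSupp Groth.Agent.Lib.Helper5.TildePC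
  Groth.Agent.Lib.Helper5.StalkAdj Groth.Agent.Lib.Helper5.ExactHom
  Groth.Agent.Lib.Helper5.PerfPull

variable {Z X : Scheme.{u}} (i : Z ⟶ X) [IsClosedImmersion i]

instance preservesFiniteColimits_push : PreservesFiniteColimits (Scheme.Modules.pushforward i) := by
  haveI : PreservesColimitsOfSize.{u, u} (Scheme.Modules.pushforward i) :=
    Groth.Agent.Lib.Helper5.ClosedPushMod.preservesColimits_pushforward i
  exact PreservesColimitsOfSize.preservesFiniteColimits _

instance preservesFiniteLimits_push : PreservesFiniteLimits (Scheme.Modules.pushforward i) := by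
  haveI : PreservesLimitsOfSize.{u, u} (Scheme.Modules.pushforward i) :=
    (Scheme.Modules.pullbackPushforwardAdjunction i).rightAdjoint_preservesLimits
  exact PreservesLimitsOfSize.preservesFiniteLimits _

instance additive_push : (Scheme.Modules.pushforward i).Additive :=
  Functor.additive_of_preserves_binary_products _

instance isClosedImmersion_restrict (U : X.Opens) : IsClosedImmersion (i ∣_ U) :=
  IsZariskiLocalAtTarget.restrict ‹_› U

/-- the direct image functor on derived categories -/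
noncomputable abbrev pushD : DCoh.D Z ⥤ DCoh.D X :=
  (Scheme.Modules.pushforward i).mapDerivedCategory

/-- `(i_* E)|_U ≅ (i|_U)_* (E|_{i⁻¹U})` in the derived category -/
noncomputable def pushRestrictDIso (U : X.Opens) (E : DCoh.D Z) :
    (DCoh.restrictD U.ι).obj ((pushD i).obj E) ≅
      (pushD (i ∣_ U)).obj ((DCoh.restrictD (i ⁻¹ᵁ U).ι).obj E) :=
  Groth.Agent.Lib.Helper5.DevGen.squareObjIso _ _ _ _
    (Groth.Agent.Lib.Helper5.RpushRes.pushRestrictIso i U) E

/-- the hypothesis on `i_* O_Z` -/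
def PushO : Prop :=
  pcAll X (DCoh.inD X ((Scheme.Modules.pushforward i).obj (Coh.structureModule Z)))

variable {i}

theorem PushO.restrict (hO : PushO i) (U : X.Opens) : PushO (i ∣_ U) := by
  intro m
  have h1 : DCoh.IsPseudoCoherentD m ((DCoh.restrictD U.ι).obj
      (DCoh.inD X ((Scheme.Modules.pushforward i).obj (Coh.structureModule Z)))) :=
    Groth.Agent.Lib.Helper5.IsoSq.isPC_restrictD U.ι (hO m)
  refine isPC_of_iso ?_ h1
  exact restrictInDIso _ U ≪≫ (DerivedCategory.singleFunctor _ 0).mapIso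
    ((Groth.Agent.Lib.Helper5.RpushRes.pushRestrictIso i U).app (Coh.structureModule Z) ≪≫
      (Scheme.Modules.pushforward (i ∣_ U)).mapIso
        (Scheme.Modules.restrictUnitIso (i ⁻¹ᵁ U).ι))

variable (i)

/-- `i_*` reflects epimorphisms -/
theorem epi_of_push {M N : Z.Modules} (f : M ⟶ N)
    (h : Epi ((Scheme.Modules.pushforward i).map f)) : Epi f := by
  apply Preadditive.epi_of_isZero_cokernel
  apply Groth.Agent.Lib.Helper5.RelPCBdd.isZero_of_isZero_pushforward i
  exact (isZero_cokernel_of_epi ((Scheme.Modules.pushforward i).map f)).of_iso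
    (PreservesCokernel.iso (Scheme.Modules.pushforward i) f)

/-- neighbourhoods of `i z` in `X` induce a basis of neighbourhoods of `z` -/
theorem exists_nhd (z : Z) (W : Z.Opens) (hz : z ∈ W) :
    ∃ U : X.Opens, i z ∈ U ∧ i ⁻¹ᵁ U ≤ W := by
  obtain ⟨V, hV, hVW⟩ := i.isClosedEmbedding.isInducing.isOpen_iff.1 W.2
  refine ⟨⟨V, hV⟩, ?_, ?_⟩
  · have : z ∈ i ⁻¹' V := by rw [hVW]; exact hz
    exact this
  · intro y hy
    have : y ∈ i ⁻¹' V := hy
    rw [hVW] at this
    exact this

/-- **finite type descends along a closed immersion** -/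
theorem isFT_of_push (M : Z.Modules)
    (h : CohB1.IsFT ((Scheme.Modules.pushforward i).obj M)) : CohB1.IsFT M := by
  apply Groth.Agent.Lib.Helper5.FtFp.isFT_of_local_epi_flf
  intro z
  obtain ⟨W, hxW, hW⟩ := Groth.Agent.Helper7.FinType.exists_generators_of_le _ h (i z)
  obtain ⟨G, hG⟩ := hW W le_rfl
  haveI : Finite G.I := hG.finite
  let n : ℕ := Nat.card G.I
  let i' := i ∣_ W
  let c : ((Scheme.Modules.pushforward i).obj M).restrict W.ι ≅
      (Scheme.Modules.pushforward i').obj (M.restrict (i ⁻¹ᵁ W).ι) :=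
    (Groth.Agent.Lib.Helper5.RpushRes.pushRestrictIso i W).app M
  let p₁ : FlatMod.freeMod (W : Scheme.{u}) n ⟶
      (Scheme.Modules.pushforward i').obj (M.restrict (i ⁻¹ᵁ W).ι) :=
    (freeIsoOfFinite (W : Scheme.{u}) G.I).inv ≫ G.π ≫ c.hom
  have h1 : Epi G.π := G.epi
  have h2 : Epi c.hom := inferInstance
  have h3 : Epi (G.π ≫ c.hom) := @epi_comp _ _ _ _ _ _ h1 _ h2
  have hp₁ : Epi p₁ := @epi_comp _ _ _ _ _ _ inferInstance _ h3
  let adj := Scheme.Modules.pullbackPushforwardAdjunction i'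
  let p₂ : (Scheme.Modules.pullback i').obj (FlatMod.freeMod (W : Scheme.{u}) n) ⟶
      M.restrict (i ⁻¹ᵁ W).ι := (adj.homEquiv _ _).symm p₁
  have hp : p₁ = adj.unit.app _ ≫ (Scheme.Modules.pushforward i').map p₂ :=
    (adj.eq_unit_comp_map_iff p₂ p₁).2 rfl
  have hp₂ : Epi p₂ := by
    apply epi_of_push i'
    rw [hp] at hp₁
    exact epi_of_epi (adj.unit.app _) _
  refine ⟨i ⁻¹ᵁ W, hxW, _, p₂,
    isFinLocFree_pullback i' _ (Groth.Agent.Lead.FLF.isFinLocFree_freeMod _ n), hp₂⟩

variable {i}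

/-- the direct image of a free module of finite rank -/
theorem pcAll_push_free (hO : PushO i) (M : Z.Modules) (n : ℕ)
    (e : M ≅ FlatMod.freeMod Z n) :
    pcAll X (DCoh.inD X ((Scheme.Modules.pushforward i).obj M)) := by
  haveI : HasFiniteBiproducts Z.Modules := Abelian.hasFiniteBiproducts
  have h1 := pcAll_map_sigma
    (Scheme.Modules.pushforward i ⋙ DerivedCategory.singleFunctor X.Modules 0) n
    (fun _ : Fin n => Coh.structureModule Z) (fun _ => hO)
  exact (pcAll X).prop_of_iso ((DerivedCategory.singleFunctor X.Modules 0).mapIso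
    ((Scheme.Modules.pushforward i).mapIso e.symm)) h1

/-- the direct image of an object with a termwise free approximation -/
theorem isPC_push_of_approxFree (hO : PushO i) (E : DCoh.D Z) (m : ℤ) (h : ApproxFree m E) :
    DCoh.IsPseudoCoherentD m ((pushD i).obj E) := by
  obtain ⟨P, α, ⟨⟨a, b, hab⟩, _⟩, hfree, hα⟩ := h
  have hA : DCoh.IsPseudoCoherentD m ((pushD i).obj (DerivedCategory.Q.obj P)) := by
    refine isPC_of_iso ((Scheme.Modules.pushforward i).mapDerivedCategoryFactors.app P).symm ?_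
    refine pcAll_of_terms _ a b (fun j hj => Functor.map_isZero (Scheme.Modules.pushforward i) (hab j hj)) (fun j => ?_) m
    obtain ⟨n, ⟨e⟩⟩ := hfree j
    exact pcAll_push_free hO _ n e
  exact isPC_of_isApprox ((pushD i).map α) m
    ⟨fun j hj => isIso_homology_map α j (hα.1 j hj), epi_homology_map α m hα.2⟩ hA

/-- termwise free approximations on all small opens -/
theorem exists_approxFree_of_isPC {E : DCoh.D Z} {m : ℤ} (hE : DCoh.IsPseudoCoherentD m E)
    (z : Z) : ∃ W : Z.Opens, z ∈ W ∧ ∀ V : Z.Opens, V ≤ W →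
      ApproxFree m ((DCoh.restrictD V.ι).obj E) := by
  obtain ⟨V₀, hzV₀, hV₀⟩ := exists_approx_of_isPC hE z
  obtain ⟨W, hzW, hW⟩ := exists_approxFree_nhd hV₀ ⟨z, hzV₀⟩
  refine ⟨V₀.ι ''ᵁ W, ⟨⟨z, hzV₀⟩, hzW, rfl⟩, fun V hV => ?_⟩
  have hr : Set.range V.ι ⊆ Set.range (W.ι ≫ V₀.ι) := by
    rw [Scheme.Opens.range_ι]
    intro y hy
    obtain ⟨w, hw, rfl⟩ := hV hy
    exact ⟨⟨w, hw⟩, rfl⟩
  let k : (V : Scheme.{u}) ⟶ (W : Scheme.{u}) := IsOpenImmersion.lift (W.ι ≫ V₀.ι) V.ι hr
  have hk : k ≫ (W.ι ≫ V₀.ι) = V.ι := IsOpenImmersion.lift_fac _ _ _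
  haveI : IsOpenImmersion (k ≫ (W.ι ≫ V₀.ι)) := by rw [hk]; infer_instance
  haveI : IsOpenImmersion k := IsOpenImmersion.of_comp k (W.ι ≫ V₀.ι)
  exact (hW.restrict k).of_iso ((DCoh.restrictD k).mapIso (restrictDCompObjIso W.ι V₀.ι E).symm ≪≫
    (restrictDCompObjIso k (W.ι ≫ V₀.ι) E).symm ≪≫ restrictDCongrObjIso hk E)

/-- **the direct image along a closed immersion with pseudo-coherent `i_* O_Z` preserves
pseudo-coherence** -/
theorem isPC_push (hO : PushO i) (E : DCoh.D Z) (m : ℤ) (hE : DCoh.IsPseudoCoherentD m E) :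
    DCoh.IsPseudoCoherentD m ((pushD i).obj E) := by
  apply isPC_local
  intro x
  by_cases hx : x ∈ Set.range i
  · obtain ⟨z, rfl⟩ := hx
    obtain ⟨W, hzW, hW⟩ := exists_approxFree_of_isPC hE z
    obtain ⟨U, hxU, hU⟩ := exists_nhd i z W hzW
    exact ⟨U, hxU, isPC_of_iso (pushRestrictDIso i U E).symm
      (isPC_push_of_approxFree (hO.restrict U) _ m (hW _ hU))⟩
  · let U : X.Opens := ⟨(Set.range i)ᶜ, i.isClosedEmbedding.isClosed_range.isOpen_compl⟩
    haveI : IsEmpty ((i ⁻¹ᵁ U : Z.Opens) : Scheme.{u}) := ⟨fun y => y.2 ⟨y.1, rfl⟩⟩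
    refine ⟨U, hx, isPC_of_iso (pushRestrictDIso i U E).symm (isPC_of_isZero ?_ m)⟩
    exact Functor.map_isZero _ (isZero_of_isEmpty _)

end Groth.Agent.Lib.Helper5.ClPush
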