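import Mathlib
import Groth.Prelude.Def_DCoh3
import Groth.Prelude.Def_CohB1
import Groth.Agent.Lib.Helper5.Perf.ClPushB

/-!
# Pseudo-coherence and direct images along closed immersions: the converse (helper5)
-/

set_option autoImplicit false
set_option linter.style.haveILetI false

universe u

open CategoryTheory CategoryTheory.Limits AlgebraicGeometry Opposite TopologicalSpace
  CategoryTheory.Pretriangulated
open scoped ZeroObject

attribute [local instance] HasDerivedCategory.standard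

namespace Groth.Agent.Lib.Helper5.ClPush

open Groth.Agent.Lib.Helper5.PCApprox Groth.Agent.Lib.Helper5.PCTri
  Groth.Agent.Lib.Helper5.PCBiprod Groth.Agent.Lib.Helper5.PCSingle
  Groth.Agent.Lib.Helper5.PerfTri Groth.Agent.Lib.Helper5.Shrink
  Groth.Agent.Lib.Helper5.RpushSupp Groth.Agent.Lib.Helper5.TildePC
  Groth.Agent.Lib.Helper5.StalkAdj Groth.Agent.Lib.Helper5.ExactHom
  Groth.Agent.Lib.Helper5.PerfPull Groth.Agent.Lib.Helper5.PCTop

/-- the converse, by induction on the length of the range of cohomology above `m` -/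
theorem isPC_of_push_aux (n : ℕ) : ∀ {Z X : Scheme.{u}} (i : Z ⟶ X) [IsClosedImmersion i]
    (_ : PushO i) (E : DCoh.D Z) (m : ℤ),
    (∀ j : ℤ, m + n ≤ j → IsZero (DCoh.HD E j)) →
    DCoh.IsPseudoCoherentD m ((pushD i).obj E) → DCoh.IsPseudoCoherentD m E := by
  induction n with
  | zero =>
    intro Z X i _ hO E m hz _
    exact isPC_of_approx_self (approx_zero m E (fun j hj => hz j (by simpa using hj)))
  | succ n ih =>
    intro Z X i _ hO E m hz hK
    apply isPC_local
    intro z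
    -- the top cohomology sheaf is of finite type
    have hzK : ∀ j : ℤ, m + n < j → IsZero (DCoh.HD ((pushD i).obj E) j) := fun j hj =>
      (Functor.map_isZero (Scheme.Modules.pushforward i) (hz j (by push_cast; omega))).of_iso
        ((derivedHomologyIso (Scheme.Modules.pushforward i) j).app E)
    have hFT : CohB1.IsFT (DCoh.HD E (m + n)) :=
      isFT_of_push i _ (isFT_of_iso_HD (m + n) _ (isPC_mono (by omega) hK) hzK _
        ((derivedHomologyIso (Scheme.Modules.pushforward i) (m + n)).app E))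
    obtain ⟨W, hzW, hW⟩ := exists_top_lift E (m + n) hFT z
    obtain ⟨U, hxU, hU⟩ := exists_nhd i z W hzW
    obtain ⟨r, ψ, hψ⟩ := hW (i ⁻¹ᵁ U) hU
    refine ⟨i ⁻¹ᵁ U, hxU, ?_⟩
    obtain ⟨C, g, k, hT⟩ := distinguished_cocone_triangle ψ
    have hP : pcAll _ ((DerivedCategory.singleFunctor ((i ⁻¹ᵁ U : Z.Opens) : Scheme.{u}).Modules
        (m + n)).obj (FlatMod.freeMod _ r)) :=
      pcAll_single_flf _ (Groth.Agent.Lead.FLF.isFinLocFree_freeMod _ r) (m + n)
    have hψa : IsApprox (m + n) ψ := by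
      refine ⟨fun j hj => ?_, hψ⟩
      have h1 : IsZero (DCoh.HD ((DerivedCategory.singleFunctor
          ((i ⁻¹ᵁ U : Z.Opens) : Scheme.{u}).Modules (m + n)).obj (FlatMod.freeMod _ r)) j) :=
        DerivedCategory.isZero_of_isLE _ (m + n) j hj
      have h2 : IsZero (DCoh.HD ((DCoh.restrictD (i ⁻¹ᵁ U).ι).obj E) j) :=
        isZero_HD_restrictD E _ j (hz j (by push_cast; omega))
      exact ⟨0, h1.eq_of_src _ _, h2.eq_of_src _ _⟩
    have hCz : ∀ j : ℤ, m + n ≤ j → IsZero (DCoh.HD C j) := isZero_HD_cone _ hT (m + n) hψa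
    have hT' := (pushD (i ∣_ U)).map_distinguished _ hT
    have h1 : pcAll _ ((pushD (i ∣_ U)).obj ((DerivedCategory.singleFunctor _ (m + n)).obj
        (FlatMod.freeMod _ r))) := fun m' => isPC_push (hO.restrict U) _ m' (hP m')
    have h2 : DCoh.IsPseudoCoherentD m ((pushD (i ∣_ U)).obj
        ((DCoh.restrictD (i ⁻¹ᵁ U).ι).obj E)) :=
      isPC_of_iso (pushRestrictDIso i U E) (Groth.Agent.Lib.Helper5.IsoSq.isPC_restrictD U.ι hK)
    have h3 : DCoh.IsPseudoCoherentD m ((pushD (i ∣_ U)).obj C) :=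
      (isPC_triangle m _ hT').1 (h1 (m + 1)) h2
    have hC : DCoh.IsPseudoCoherentD m C := ih (i ∣_ U) (hO.restrict U) C m hCz h3
    exact (isPC_triangle m _ hT).2.1 (hP m) hC

variable {Z X : Scheme.{u}} {i : Z ⟶ X} [IsClosedImmersion i]

/-- **pseudo-coherence descends along a closed immersion with pseudo-coherent `i_* O_Z`** -/
theorem isPC_of_push (hO : PushO i) (E : DCoh.D Z) (m : ℤ)
    (hK : DCoh.IsPseudoCoherentD m ((pushD i).obj E)) : DCoh.IsPseudoCoherentD m E := by
  apply isPC_local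
  intro z
  obtain ⟨U, hxU, hU⟩ := exists_approx_of_isPC hK (i z)
  obtain ⟨M, hmM, hM⟩ := exists_bound_of_approx hU
  obtain ⟨n, hn⟩ := Int.eq_ofNat_of_zero_le (show 0 ≤ M - m by omega)
  refine ⟨i ⁻¹ᵁ U, hxU, ?_⟩
  let e := pushRestrictDIso i U E
  refine isPC_of_push_aux n (i ∣_ U) (hO.restrict U) _ m (fun j hj => ?_)
    (isPC_of_iso e (Groth.Agent.Lib.Helper5.IsoSq.isPC_restrictD U.ι hK))
  apply Groth.Agent.Lib.Helper5.RelPCBdd.isZero_of_isZero_pushforward (i ∣_ U)
  have h1 : IsZero (DCoh.HD ((DCoh.restrictD U.ι).obj ((pushD i).obj E)) j) := hM j (by omega)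
  exact (h1.of_iso ((DerivedCategory.homologyFunctor _ j).mapIso e.symm)).of_iso
    ((derivedHomologyIso (Scheme.Modules.pushforward (i ∣_ U)) j).app _).symm

/-- **pseudo-coherence and direct images along a closed immersion** -/
theorem isPC_push_iff (hO : PushO i) (E : DCoh.D Z) (m : ℤ) :
    DCoh.IsPseudoCoherentD m E ↔ DCoh.IsPseudoCoherentD m ((pushD i).obj E) :=
  ⟨isPC_push hO E m, isPC_of_push hO E m⟩

end Groth.Agent.Lib.Helper5.ClPush
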