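import Mathlib
import Groth.Agent.Lib.Helper5.Perf.ClPushA
import Groth.Agent.Lib.Helper5.Misc.StupidTruncH
import Groth.Agent.Lib.Helper5.DRing.Dev3

/-!
# Pseudo-coherence of a complex of modules on a scheme from its terms / cohomology sheaves (helper5)
-/

set_option autoImplicit false
set_option linter.style.haveILetI false

universe u

open CategoryTheory CategoryTheory.Limits AlgebraicGeometry Opposite TopologicalSpace
  CategoryTheory.Pretriangulated DerivedCategory
open scoped ZeroObject

attribute [local instance] HasDerivedCategory.standard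

namespace Groth.Agent.Lib.Helper5.PCTermsSch

open Groth.Agent.Lib.Helper5.PCApprox Groth.Agent.Lib.Helper5.PCTri
  Groth.Agent.Lib.Helper5.PCBiprod Groth.Agent.Lib.Helper5.ClPush
  Groth.Agent.Lib.Helper5.Misc.StupidTrunc

theorem epi_map_of_natIso {C D : Type*} [Category C] [Category D] {F G : C ⥤ D} (e : F ≅ G)
    {X Y : C} (f : X ⟶ Y) (h : Epi (G.map f)) : Epi (F.map f) := by
  have : F.map f = e.hom.app X ≫ G.map f ≫ e.inv.app Y := by simp
  rw [this]
  infer_instance

variable {X : Scheme.{u}}

/-- a module placed in degree `i` -/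
theorem isPC_single (M : X.Modules) (m i : ℤ) (h : DCoh.IsPseudoCoherentD (m - i) (DCoh.inD X M)) :
    DCoh.IsPseudoCoherentD m ((DerivedCategory.singleFunctor X.Modules i).obj M) :=
  isPC_of_iso (((DerivedCategory.singleFunctors X.Modules).shiftIso (-i) i 0 (by omega)).app M)
    (isPC_shift h (-i) m (by omega))

/-- the property of being `m`-pseudo-coherent -/
def pcProp (X : Scheme.{u}) (m : ℤ) : ObjectProperty (DCoh.D X) :=
  fun K => DCoh.IsPseudoCoherentD m K

instance (m : ℤ) : (pcProp X m).IsClosedUnderIsomorphisms where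
  of_iso e h := isPC_of_iso e h

theorem pcProp_ext (m : ℤ) : ∀ T ∈ distTriang (DCoh.D X),
    pcProp X m T.obj₁ → pcProp X m T.obj₃ → pcProp X m T.obj₂ :=
  fun T hT h1 h3 => (isPC_triangle m T hT).2.1 h1 h3

/-- **pseudo-coherence from the terms** of a bounded above complex -/
theorem isPC_of_terms (m : ℤ) (F : CochainComplex X.Modules ℤ) (b : ℤ)
    (hb : ∀ i : ℤ, b < i → IsZero (F.X i))
    (h : ∀ i : ℤ, DCoh.IsPseudoCoherentD (m - i) (DCoh.inD X (F.X i))) :
    DCoh.IsPseudoCoherentD m (DCoh.toD X F) := by
  have h1 : DCoh.IsPseudoCoherentD m (DCoh.toD X (sigmaGE F m)) := by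
    refine Groth.Agent.Lib.Helper5.DevGen.of_terms (pcProp X m) (pcProp_ext m) (sigmaGE F m) m b
      ?_ ?_
    · rintro i (hi | hi)
      · exact isZero_sigmaGE_X F hi
      · by_cases him : m ≤ i
        · have := isIso_ιGE_f F him
          exact (hb i hi).of_iso (asIso ((ιGE F m).f i))
        · exact isZero_sigmaGE_X F (by omega)
    · intro i
      by_cases him : m ≤ i
      · have := isIso_ιGE_f F him
        exact isPC_of_iso ((DerivedCategory.singleFunctor X.Modules i).mapIso
          (asIso ((ιGE F m).f i))).symm (isPC_single _ m i (h i))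
      · exact isPC_of_isZero (Functor.map_isZero _ (isZero_sigmaGE_X F (by omega))) m
  refine isPC_of_isApprox (Q.map (ιGE F m)) m ⟨fun i hi => ?_, ?_⟩ h1
  · have := isIso_homologyMap_ιGE F m i hi
    exact (NatIso.isIso_map_iff (DerivedCategory.homologyFunctorFactors X.Modules i)
      (ιGE F m)).2 this
  · have := epi_homologyMap_ιGE F m
    exact epi_map_of_natIso
      (DerivedCategory.homologyFunctorFactors X.Modules m) (ιGE F m) this

/-- **pseudo-coherence from the cohomology sheaves** of a bounded above object -/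
theorem isPC_of_homology (m : ℤ) (K : DCoh.D X) (b : ℤ)
    (hb : ∀ i : ℤ, b < i → IsZero (DCoh.HD K i))
    (h : ∀ i : ℤ, DCoh.IsPseudoCoherentD (m - i) (DCoh.inD X (DCoh.HD K i))) :
    DCoh.IsPseudoCoherentD m K := by
  let T := (TStructure.t.triangleLEGE (m - 1) m (by omega)).obj K
  have hT : T ∈ distTriang _ := TStructure.t.triangleLEGE_distinguished (m - 1) m (by omega) K
  have l1 : T.obj₁.IsLE (m - 1) := by
    change TStructure.t.IsLE ((TStructure.t.truncLE (m - 1)).obj K) (m - 1)
    infer_instance
  have g3 : T.obj₃.IsGE m := by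
    change TStructure.t.IsGE ((TStructure.t.truncGE m).obj K) m
    infer_instance
  have h1 : DCoh.IsPseudoCoherentD m T.obj₁ :=
    isPC_of_approx_self (approx_zero m _ (fun j hj => isZero_of_isLE T.obj₁ (m - 1) j (by omega)))
  have hiso : ∀ i, m ≤ i → IsIso ((homologyFunctor X.Modules i).map T.mor₂) := fun i hi =>
    Groth.Agent.Helper5.Devissage.isIso_homologyMap_mor₂ T hT i
      (isZero_of_isLE T.obj₁ (m - 1) i (by omega)) (isZero_of_isLE T.obj₁ (m - 1) (i + 1) (by omega))
  have h3 : DCoh.IsPseudoCoherentD m T.obj₃ := by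
    refine Groth.Agent.Helper5.Devissage.of_homology' (pcProp X m) (pcProp_ext m) T.obj₃ m
      (max b m) ?_ ?_
    · rintro i (hi | hi)
      · exact isZero_of_isGE T.obj₃ m i hi
      · have := hiso i (by have := le_max_right b m; omega)
        exact (hb i (by have := le_max_left b m; omega)).of_iso
          (asIso ((homologyFunctor X.Modules i).map T.mor₂)).symm
    · intro i
      by_cases him : m ≤ i
      · have := hiso i him
        exact isPC_of_iso ((DerivedCategory.singleFunctor X.Modules i).mapIso
          (asIso ((homologyFunctor X.Modules i).map T.mor₂))) (isPC_single _ m i (h i))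
      · exact isPC_of_isZero (Functor.map_isZero _ (isZero_of_isGE T.obj₃ m i (by omega))) m
  exact (isPC_triangle m T hT).2.1 h1 h3

end Groth.Agent.Lib.Helper5.PCTermsSch
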