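import Mathlib
import Groth.Agent.Lib.Helper5.Perf.ClPushC
import Groth.Agent.Lib.Helper5.Perf.PCTermsSch

/-!
# Direct images along closed immersions: bounded variants with `i_* O_Z` only
`m`-pseudo-coherent for one `m` (helper5)
-/

set_option autoImplicit false
set_option linter.style.haveILetI false

universe u

open CategoryTheory CategoryTheory.Limits AlgebraicGeometry Opposite TopologicalSpace
  CategoryTheory.Pretriangulated
open scoped ZeroObject

attribute [local instance] HasDerivedCategory.standard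

namespace Groth.Agent.Lib.Helper5.ClPush

open Groth.Agent.Lib.Helper5.PCApprox Groth.Agent.Lib.Helper5.PCTri
  Groth.Agent.Lib.Helper5.PCBiprod Groth.Agent.Lib.Helper5.PCSingle
  Groth.Agent.Lib.Helper5.PerfTri Groth.Agent.Lib.Helper5.Shrink
  Groth.Agent.Lib.Helper5.RpushSupp Groth.Agent.Lib.Helper5.TildePC
  Groth.Agent.Lib.Helper5.StalkAdj Groth.Agent.Lib.Helper5.ExactHom
  Groth.Agent.Lib.Helper5.PerfPull Groth.Agent.Lib.Helper5.PCTop
  Groth.Agent.Lib.Helper5.PCTermsSch

section PropSec

variable {X : Scheme.{u}}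

instance (m : ℤ) : (pcProp X m).ContainsZero :=
  ⟨⟨0, isZero_zero _, isPC_of_isZero (isZero_zero _) m⟩⟩

instance (m : ℤ) : (pcProp X m).IsClosedUnderBinaryProducts where
  limitsOfShape_le := by
    rintro K ⟨p⟩
    refine (pcProp X m).prop_of_iso ?_ (pcProp_ext m _
      (binaryProductTriangle_distinguished _ _)
      (p.prop_diag_obj (.mk .left)) (p.prop_diag_obj (.mk .right)))
    exact IsLimit.conePointUniqueUpToIso (prodIsProd _ _)
      ((IsLimit.postcomposeHomEquiv (diagramIsoPair p.diag) _).2 p.isLimit)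

instance (m : ℤ) : (pcProp X m).IsClosedUnderFiniteProducts := .mk'

/-- the image of a finite coproduct under an additive functor to `D(X)` -/
theorem isPC_map_sigma (m : ℤ) {A : Type*} [Category A] [Preadditive A] [HasFiniteBiproducts A]
    [HasFiniteCoproducts A]
    (H : A ⥤ DCoh.D X) [H.Additive] (n : ℕ) (f : Fin n → A)
    (hf : ∀ j, DCoh.IsPseudoCoherentD m (H.obj (f j))) :
    DCoh.IsPseudoCoherentD m (H.obj (∐ f)) := by
  have h1 : pcProp X m (∏ᶜ fun j => H.obj (f j)) := (pcProp X m).prop_product hf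
  exact (pcProp X m).prop_of_iso
    ((biproduct.isoProduct (fun j => H.obj (f j))).symm ≪≫ (H.mapBiproduct f).symm ≪≫
      H.mapIso (biproduct.isoCoproduct f)) h1

end PropSec

variable {Z X : Scheme.{u}} (i : Z ⟶ X) [IsClosedImmersion i]

/-- the hypothesis on `i_* O_Z`, for one `m` -/
def PushOM (m : ℤ) : Prop :=
  DCoh.IsPseudoCoherentD m (DCoh.inD X ((Scheme.Modules.pushforward i).obj (Coh.structureModule Z)))

variable {i}

theorem PushOM.mono {m m' : ℤ} (h : PushOM i m) (hm : m ≤ m') : PushOM i m' := isPC_mono hm h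

theorem PushOM.restrict {m : ℤ} (hO : PushOM i m) (U : X.Opens) : PushOM (i ∣_ U) m := by
  have h1 : DCoh.IsPseudoCoherentD m ((DCoh.restrictD U.ι).obj
      (DCoh.inD X ((Scheme.Modules.pushforward i).obj (Coh.structureModule Z)))) :=
    Groth.Agent.Lib.Helper5.IsoSq.isPC_restrictD U.ι hO
  refine isPC_of_iso ?_ h1
  exact restrictInDIso _ U ≪≫ (DerivedCategory.singleFunctor _ 0).mapIso
    ((Groth.Agent.Lib.Helper5.RpushRes.pushRestrictIso i U).app (Coh.structureModule Z) ≪≫
      (Scheme.Modules.pushforward (i ∣_ U)).mapIso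
        (Scheme.Modules.restrictUnitIso (i ⁻¹ᵁ U).ι))

/-- the direct image of a free module -/
theorem isPC_push_free_m {m : ℤ} (hO : PushOM i m) (M : Z.Modules) (n : ℕ)
    (e : M ≅ FlatMod.freeMod Z n) :
    DCoh.IsPseudoCoherentD m (DCoh.inD X ((Scheme.Modules.pushforward i).obj M)) := by
  haveI : HasFiniteBiproducts Z.Modules := Abelian.hasFiniteBiproducts
  have h1 := isPC_map_sigma m
    (Scheme.Modules.pushforward i ⋙ DerivedCategory.singleFunctor X.Modules 0) n
    (fun _ : Fin n => Coh.structureModule Z) (fun _ => hO)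
  exact isPC_of_iso ((DerivedCategory.singleFunctor X.Modules 0).mapIso
    ((Scheme.Modules.pushforward i).mapIso e.symm)) h1

/-- the direct image of a free module placed in degree `a` -/
theorem isPC_push_single_free {m m' a : ℤ} (hO : PushOM i m) (hm : m' - a = m) (n : ℕ) :
    DCoh.IsPseudoCoherentD m' ((pushD i).obj
      ((DerivedCategory.singleFunctor Z.Modules a).obj (FlatMod.freeMod Z n))) := by
  have h1 := isPC_push_free_m hO (FlatMod.freeMod Z n) n (Iso.refl _)
  rw [← hm] at h1
  exact isPC_of_iso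
    (((Scheme.Modules.pushforward i).mapDerivedCategorySingleFunctor a).app _).symm
    (isPC_single _ m' a h1)

/-- descent along a closed immersion, by induction on the length of the range of cohomology
above `m`; only `(2 - n)`-pseudo-coherence of `i_* O_Z` is used -/
theorem isPC_of_push_aux_m (n : ℕ) : ∀ {Z X : Scheme.{u}} (i : Z ⟶ X) [IsClosedImmersion i]
    (E : DCoh.D Z) (m : ℤ), PushOM i (2 - n) →
    (∀ j : ℤ, m + n ≤ j → IsZero (DCoh.HD E j)) →
    DCoh.IsPseudoCoherentD m ((pushD i).obj E) → DCoh.IsPseudoCoherentD m E := by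
  induction n with
  | zero =>
    intro Z X i _ E m _ hz _
    exact isPC_of_approx_self (approx_zero m E (fun j hj => hz j (by simpa using hj)))
  | succ n ih =>
    intro Z X i _ E m hO hz hK
    apply isPC_local
    intro z
    have hzK : ∀ j : ℤ, m + n < j → IsZero (DCoh.HD ((pushD i).obj E) j) := fun j hj =>
      (Functor.map_isZero (Scheme.Modules.pushforward i) (hz j (by push_cast; omega))).of_iso
        ((derivedHomologyIso (Scheme.Modules.pushforward i) j).app E)
    have hFT : CohB1.IsFT (DCoh.HD E (m + n)) :=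
      isFT_of_push i _ (isFT_of_iso_HD (m + n) _ (isPC_mono (by omega) hK) hzK _
        ((derivedHomologyIso (Scheme.Modules.pushforward i) (m + n)).app E))
    obtain ⟨W, hzW, hW⟩ := exists_top_lift E (m + n) hFT z
    obtain ⟨U, hxU, hU⟩ := exists_nhd i z W hzW
    obtain ⟨r, ψ, hψ⟩ := hW (i ⁻¹ᵁ U) hU
    refine ⟨i ⁻¹ᵁ U, hxU, ?_⟩
    obtain ⟨C, g, k, hT⟩ := distinguished_cocone_triangle ψ
    have hP : pcAll _ ((DerivedCategory.singleFunctor ((i ⁻¹ᵁ U : Z.Opens) : Scheme.{u}).Modules
        (m + n)).obj (FlatMod.freeMod _ r)) :=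
      pcAll_single_flf _ (Groth.Agent.Lead.FLF.isFinLocFree_freeMod _ r) (m + n)
    have hψa : IsApprox (m + n) ψ := by
      refine ⟨fun j hj => ?_, hψ⟩
      have h1 : IsZero (DCoh.HD ((DerivedCategory.singleFunctor
          ((i ⁻¹ᵁ U : Z.Opens) : Scheme.{u}).Modules (m + n)).obj (FlatMod.freeMod _ r)) j) :=
        DerivedCategory.isZero_of_isLE _ (m + n) j hj
      have h2 : IsZero (DCoh.HD ((DCoh.restrictD (i ⁻¹ᵁ U).ι).obj E) j) :=
        isZero_HD_restrictD E _ j (hz j (by push_cast; omega))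
      exact ⟨0, h1.eq_of_src _ _, h2.eq_of_src _ _⟩
    have hCz : ∀ j : ℤ, m + n ≤ j → IsZero (DCoh.HD C j) := isZero_HD_cone _ hT (m + n) hψa
    have hT' := (pushD (i ∣_ U)).map_distinguished _ hT
    have h1 : DCoh.IsPseudoCoherentD (m + 1) ((pushD (i ∣_ U)).obj
        ((DerivedCategory.singleFunctor _ (m + n)).obj (FlatMod.freeMod _ r))) :=
      isPC_push_single_free (hO.restrict U) (by push_cast; omega) r
    have h2 : DCoh.IsPseudoCoherentD m ((pushD (i ∣_ U)).obj
        ((DCoh.restrictD (i ⁻¹ᵁ U).ι).obj E)) :=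
      isPC_of_iso (pushRestrictDIso i U E) (Groth.Agent.Lib.Helper5.IsoSq.isPC_restrictD U.ι hK)
    have h3 : DCoh.IsPseudoCoherentD m ((pushD (i ∣_ U)).obj C) :=
      (isPC_triangle m _ hT').1 h1 h2
    have hC : DCoh.IsPseudoCoherentD m C :=
      ih (i ∣_ U) C m ((hO.restrict U).mono (by push_cast; omega)) hCz h3
    exact (isPC_triangle m _ hT).2.1 (hP m) hC

/-- **descent of pseudo-coherence along a closed immersion, bounded version** -/
theorem isPC_of_push_bdd {Z X : Scheme.{u}} (i : Z ⟶ X) [IsClosedImmersion i] (E : DCoh.D Z)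
    (m b : ℤ) (hb : ∀ j : ℤ, b < j → IsZero (DCoh.HD E j)) (hO : PushOM i (m + 1 - b))
    (hK : DCoh.IsPseudoCoherentD m ((pushD i).obj E)) : DCoh.IsPseudoCoherentD m E := by
  by_cases hbm : b < m
  · exact isPC_of_approx_self (approx_zero m E (fun j hj => hb j (by omega)))
  · obtain ⟨n, hn⟩ := Int.eq_ofNat_of_zero_le (show 0 ≤ b + 1 - m by omega)
    refine isPC_of_push_aux_m n i E m (hO.mono (by omega)) (fun j hj => hb j (by omega)) hK

/-- direct image along a closed immersion, by induction on the length of the range of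
cohomology above `m`; only `(1 - n)`-pseudo-coherence of `i_* O_Z` is used -/
theorem isPC_push_aux_m (n : ℕ) : ∀ {Z X : Scheme.{u}} (i : Z ⟶ X) [IsClosedImmersion i]
    (E : DCoh.D Z) (m : ℤ), PushOM i (1 - n) →
    (∀ j : ℤ, m + n ≤ j → IsZero (DCoh.HD E j)) →
    DCoh.IsPseudoCoherentD m E → DCoh.IsPseudoCoherentD m ((pushD i).obj E) := by
  induction n with
  | zero =>
    intro Z X i _ E m _ hz _
    refine isPC_of_approx_self (approx_zero m _ (fun j hj => ?_))
    exact (Functor.map_isZero (Scheme.Modules.pushforward i) (hz j (by simpa using hj))).of_iso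
      ((derivedHomologyIso (Scheme.Modules.pushforward i) j).app E)
  | succ n ih =>
    intro Z X i _ E m hO hz hE
    apply isPC_local
    intro x
    by_cases hx : x ∈ Set.range i
    · obtain ⟨z, rfl⟩ := hx
      have hFT : CohB1.IsFT (DCoh.HD E (m + n)) :=
        isFT_of_iso_HD (m + n) E (isPC_mono (by omega) hE)
          (fun j hj => hz j (by push_cast; omega)) _ (Iso.refl _)
      obtain ⟨W, hzW, hW⟩ := exists_top_lift E (m + n) hFT z
      obtain ⟨U, hxU, hU⟩ := exists_nhd i z W hzW
      obtain ⟨r, ψ, hψ⟩ := hW (i ⁻¹ᵁ U) hU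
      refine ⟨U, hxU, ?_⟩
      refine isPC_of_iso (pushRestrictDIso i U E).symm ?_
      obtain ⟨C, g, k, hT⟩ := distinguished_cocone_triangle ψ
      have hP : pcAll _ ((DerivedCategory.singleFunctor
          ((i ⁻¹ᵁ U : Z.Opens) : Scheme.{u}).Modules (m + n)).obj (FlatMod.freeMod _ r)) :=
        pcAll_single_flf _ (Groth.Agent.Lead.FLF.isFinLocFree_freeMod _ r) (m + n)
      have hψa : IsApprox (m + n) ψ := by
        refine ⟨fun j hj => ?_, hψ⟩
        have h1 : IsZero (DCoh.HD ((DerivedCategory.singleFunctor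
            ((i ⁻¹ᵁ U : Z.Opens) : Scheme.{u}).Modules (m + n)).obj (FlatMod.freeMod _ r)) j) :=
          DerivedCategory.isZero_of_isLE _ (m + n) j hj
        have h2 : IsZero (DCoh.HD ((DCoh.restrictD (i ⁻¹ᵁ U).ι).obj E) j) :=
          isZero_HD_restrictD E _ j (hz j (by push_cast; omega))
        exact ⟨0, h1.eq_of_src _ _, h2.eq_of_src _ _⟩
      have hCz : ∀ j : ℤ, m + n ≤ j → IsZero (DCoh.HD C j) := isZero_HD_cone _ hT (m + n) hψa
      have hE' : DCoh.IsPseudoCoherentD m ((DCoh.restrictD (i ⁻¹ᵁ U).ι).obj E) :=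
        Groth.Agent.Lib.Helper5.IsoSq.isPC_restrictD _ hE
      have hC : DCoh.IsPseudoCoherentD m C := (isPC_triangle m _ hT).1 (hP (m + 1)) hE'
      have hT' := (pushD (i ∣_ U)).map_distinguished _ hT
      have h1 : DCoh.IsPseudoCoherentD m ((pushD (i ∣_ U)).obj
          ((DerivedCategory.singleFunctor _ (m + n)).obj (FlatMod.freeMod _ r))) :=
        isPC_push_single_free (hO.restrict U) (by push_cast; omega) r
      have h3 : DCoh.IsPseudoCoherentD m ((pushD (i ∣_ U)).obj C) :=
        ih (i ∣_ U) C m ((hO.restrict U).mono (by push_cast; omega)) hCz hC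
      exact (isPC_triangle m _ hT').2.1 h1 h3
    · let V : X.Opens := ⟨(Set.range i)ᶜ, i.isClosedEmbedding.isClosed_range.isOpen_compl⟩
      haveI : IsEmpty ((i ⁻¹ᵁ V : Z.Opens) : Scheme.{u}) := ⟨fun y => y.2 ⟨y.1, rfl⟩⟩
      refine ⟨V, hx, isPC_of_iso (pushRestrictDIso i V E).symm ?_⟩
      exact isPC_of_isZero (Functor.map_isZero _ (isZero_of_isEmpty _)) m

/-- **direct image of pseudo-coherent objects along a closed immersion, bounded version** -/
theorem isPC_push_bdd {Z X : Scheme.{u}} (i : Z ⟶ X) [IsClosedImmersion i] (E : DCoh.D Z)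
    (m b : ℤ) (hb : ∀ j : ℤ, b < j → IsZero (DCoh.HD E j)) (hO : PushOM i (m - b))
    (hE : DCoh.IsPseudoCoherentD m E) : DCoh.IsPseudoCoherentD m ((pushD i).obj E) := by
  by_cases hbm : b < m
  · refine isPC_of_approx_self (approx_zero m _ (fun j hj => ?_))
    exact (Functor.map_isZero (Scheme.Modules.pushforward i) (hb j (by omega))).of_iso
      ((derivedHomologyIso (Scheme.Modules.pushforward i) j).app E)
  · obtain ⟨n, hn⟩ := Int.eq_ofNat_of_zero_le (show 0 ≤ b + 1 - m by omega)
    exact isPC_push_aux_m n i E m (hO.mono (by omega)) (fun j hj => hb j (by omega)) hE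

end Groth.Agent.Lib.Helper5.ClPush
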