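import Mathlib
import Groth.Prelude.Def_DRing3
import Groth.Agent.Lib.Helper5.Perf.HomVanish
import Groth.Agent.Lib.Helper5.DRing.DevT

/-!
# Countability of `Hom` out of perfect complexes of modules (helper5)
-/

set_option autoImplicit false
universe u
open CategoryTheory CategoryTheory.Limits
open Pretriangulated DerivedCategory DerivedCategory.HomologySequence

attribute [local instance] HasDerivedCategory.standard

namespace Groth.Agent.Lib.Helper5.CountHom

open Groth.Agent.Lib.Helper5.HomVanish Groth.Agent.Helper5.ProjAmp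

variable {R : Type u} [CommRing R]

local notation "tR" => (DerivedCategory.TStructure.t :
  CategoryTheory.Triangulated.TStructure (Dual.D R))

/-- a finitely generated module has countably many maps into a countable module -/
theorem countable_modHom (M H : ModuleCat.{u} R) [Module.Finite R M] [Countable H] :
    Countable (M ⟶ H) := by
  obtain ⟨n, f, hf⟩ := Module.Finite.exists_fin (R := R) (M := M)
  let φ : (M ⟶ H) → (Fin n → H) := fun g k => g.hom (f k)
  refine Function.Injective.countable (f := φ) ?_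
  intro g g' h
  apply ModuleCat.hom_ext
  apply LinearMap.ext_on_range hf
  intro k
  exact congrFun h k

theorem hasProjAmp_single (M : ModuleCat.{u} R) [Module.Projective R M] :
    HasProjAmp 0 0 ((singleFunctor (ModuleCat.{u} R) 0).obj M) := by
  refine ⟨(CochainComplex.singleFunctor (ModuleCat.{u} R) 0).obj M, ?_, ?_,
    ⟨((singleFunctorIsoCompQ (ModuleCat.{u} R) 0).app M).symm⟩⟩
  · intro i hi
    exact HomologicalComplex.isZero_single_obj_X (ComplexShape.up ℤ) 0 M i (by omega)
  · intro i
    by_cases hi : i = 0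
    · subst hi
      exact Module.Projective.of_equiv
        (HomologicalComplex.singleObjXSelf (ComplexShape.up ℤ) 0 M).symm.toLinearEquiv
    · haveI : Subsingleton (((CochainComplex.singleFunctor (ModuleCat.{u} R) 0).obj M).X i) :=
        ModuleCat.subsingleton_of_isZero
          (HomologicalComplex.isZero_single_obj_X (ComplexShape.up ℤ) 0 M i hi)
      infer_instance

/-- maps from `M[0]`, `M` finite projective, to `N` are countable if `H^0(N)` is -/
theorem countable_hom_single (M : ModuleCat.{u} R) [Module.Finite R M] [Module.Projective R M]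
    (N : Dual.D R) (hN : Countable ((homologyFunctor (ModuleCat.{u} R) 0).obj N)) :
    Countable ((singleFunctor (ModuleCat.{u} R) 0).obj M ⟶ N) := by
  let P : Dual.D R := (singleFunctor (ModuleCat.{u} R) 0).obj M
  have hP : HasProjAmp 0 0 P := hasProjAmp_single M
  -- step 1 : reduce to `τ_{≤ 0} N`
  let L : Dual.D R := ((tR).truncLE 0).obj N
  haveI : L.IsLE 0 := inferInstanceAs ((((tR).truncLE 0).obj N).IsLE 0)
  have hsurj : Function.Surjective (fun g : P ⟶ L => g ≫ ((tR).truncLEι 0).app N) := by
    intro g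
    exact ⟨(tR).liftTruncLE g 0, (tR).liftTruncLE_ι g 0⟩
  suffices h : Countable (P ⟶ L) from hsurj.countable
  -- `H^0(L)` is countable
  have hL0 : Countable ((homologyFunctor (ModuleCat.{u} R) 0).obj L) := by
    have hT := (tR).triangleLEGT_distinguished 0 N
    have h1 : IsZero ((homologyFunctor (ModuleCat.{u} R) (-1)).obj (((tR).truncGT 0).obj N)) := by
      haveI : (((tR).truncGT 0).obj N).IsGE (0 + 1) := inferInstance
      exact DerivedCategory.isZero_of_isGE _ (0 + 1) (-1) (by omega)
    haveI : Mono ((homologyFunctor (ModuleCat.{u} R) 0).map (((tR).truncLEι 0).app N)) :=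
      (exact₁ _ hT (-1) 0 (by omega)).mono_g (h1.eq_of_src _ _)
    haveI : Countable ((homologyFunctor (ModuleCat.{u} R) 0).obj
        ((𝟭 (DerivedCategory (ModuleCat.{u} R))).obj N)) := hN
    exact ((ModuleCat.mono_iff_injective
      ((homologyFunctor (ModuleCat.{u} R) 0).map (((tR).truncLEι 0).app N))).1
        inferInstance).countable
  -- step 2 : reduce to `τ_{≥ 0} L`
  let H : Dual.D R := ((tR).truncGE 0).obj L
  have hT2 := (tR).triangleLTGE_distinguished 0 L
  have hinj : Function.Injective (fun g : P ⟶ L => g ≫ ((tR).truncGEπ 0).app L) := by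
    intro g g' hgg
    have h0 : (g - g') ≫ ((tR).truncGEπ 0).app L = 0 := by
      rw [Preadditive.sub_comp]
      exact sub_eq_zero.2 hgg
    obtain ⟨ψ, hψ⟩ := Triangle.coyoneda_exact₂ _ hT2 (g - g') h0
    have hψ0 : ψ = 0 := by
      apply hom_eq_zero_of_projAmp_range hP
      intro i hi hib
      haveI : (((tR).truncLT 0).obj L).IsLE (0 - 1) := inferInstance
      exact DerivedCategory.isZero_of_isLE _ (0 - 1) i (by omega)
    rw [hψ0, zero_comp] at hψ
    exact sub_eq_zero.1 hψ
  suffices h : Countable (P ⟶ H) from hinj.countable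
  -- step 3 : `H` is a single module
  haveI : H.IsGE 0 := inferInstanceAs ((((tR).truncGE 0).obj L).IsGE 0)
  haveI : H.IsLE 0 := inferInstanceAs ((((tR).truncGE 0).obj L).IsLE 0)
  obtain ⟨H₀, ⟨eH⟩⟩ := exists_iso_singleFunctor_obj_of_isGE_of_isLE H 0
  have hH0 : Countable ((homologyFunctor (ModuleCat.{u} R) 0).obj H) := by
    have h1 : IsZero ((homologyFunctor (ModuleCat.{u} R) 1).obj (((tR).truncLT 0).obj L)) := by
      haveI : (((tR).truncLT 0).obj L).IsLE (0 - 1) := inferInstance
      exact DerivedCategory.isZero_of_isLE _ (0 - 1) 1 (by omega)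
    haveI : Epi ((homologyFunctor (ModuleCat.{u} R) 0).map (((tR).truncGEπ 0).app L)) :=
      (exact₃ _ hT2 0 1 rfl).epi_f (h1.eq_of_tgt _ _)
    haveI : Countable ((homologyFunctor (ModuleCat.{u} R) 0).obj
        ((𝟭 (DerivedCategory (ModuleCat.{u} R))).obj L)) := hL0
    exact ((ModuleCat.epi_iff_surjective
      ((homologyFunctor (ModuleCat.{u} R) 0).map (((tR).truncGEπ 0).app L))).1
        inferInstance).countable
  haveI : Countable H₀ := by
    let e : (homologyFunctor (ModuleCat.{u} R) 0).obj H ≅ H₀ :=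
      (homologyFunctor (ModuleCat.{u} R) 0).mapIso eH ≪≫
        (singleFunctorCompHomologyFunctorIso (ModuleCat.{u} R) 0).app H₀
    exact e.toLinearEquiv.toEquiv.countable_iff.1 hH0
  -- step 4
  haveI := countable_modHom M H₀
  have hsurj2 : Function.Surjective
      (fun g : M ⟶ H₀ => (singleFunctor (ModuleCat.{u} R) 0).map g ≫ eH.inv) := by
    intro α
    obtain ⟨g, hg⟩ := (singleFunctor (ModuleCat.{u} R) 0).map_surjective (α ≫ eH.hom)
    refine ⟨g, ?_⟩
    show (singleFunctor (ModuleCat.{u} R) 0).map g ≫ eH.inv = α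
    rw [hg, Category.assoc, Iso.hom_inv_id, Category.comp_id]
  exact hsurj2.countable

/-- a group is countable if it has a homomorphism to a countable group whose kernel is covered
by a countable set -/
theorem countable_of_exact {G H K : Type*} [AddCommGroup G] [AddCommGroup H] (f : G →+ H)
    (g : K → G) (hex : ∀ x, f x = 0 → ∃ k, g k = x) [Countable K] [Countable H] :
    Countable G := by
  classical
  let s : H → G := fun h => if hh : ∃ x, f x = h then hh.choose else 0
  have hs : ∀ x, f (s (f x)) = f x := by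
    intro x
    have hh : ∃ y, f y = f x := ⟨x, rfl⟩
    simp only [s, dif_pos hh]
    exact hh.choose_spec
  have hk : ∀ x, ∃ k, g k = x - s (f x) := fun x => hex _ (by rw [map_sub, hs, sub_self])
  let φ : G → H × K := fun x => (f x, (hk x).choose)
  refine Function.Injective.countable (f := φ) ?_
  intro x y hxy
  have h1 : f x = f y := congrArg Prod.fst hxy
  have h2 : (hk x).choose = (hk y).choose := congrArg Prod.snd hxy
  have h3 : x - s (f x) = y - s (f y) := by
    rw [← (hk x).choose_spec, ← (hk y).choose_spec, h2]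
  rw [h1] at h3
  exact sub_left_injective h3

section Dev

variable (N : Dual.D R)

/-- the property of having countably many maps to all shifts of `N` -/
def CH : ObjectProperty (Dual.D R) := fun K => ∀ i : ℤ, Countable (K ⟶ N⟦i⟧)

instance : (CH N).IsClosedUnderIsomorphisms where
  of_iso e h i := by
    haveI := h i
    exact (e.homFromEquiv (Z := N⟦i⟧)).countable_iff.1 inferInstance

theorem CH.shift (K : Dual.D R) (n : ℤ) (h : CH N K) : CH N (K⟦n⟧) := by
  intro i
  haveI := h (i - n)
  let e₁ : (K⟦n⟧)⟦-n⟧ ≅ K := (shiftFunctorCompIsoId (Dual.D R) n (-n) (by omega)).app K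
  let e₂ : (N⟦i⟧)⟦-n⟧ ≅ N⟦i - n⟧ :=
    ((shiftFunctorAdd' (Dual.D R) i (-n) (i - n) (by omega)).app N).symm
  let φ : (K⟦n⟧ ⟶ N⟦i⟧) → (K ⟶ N⟦i - n⟧) := fun f => e₁.inv ≫ f⟦-n⟧' ≫ e₂.hom
  refine Function.Injective.countable (f := φ) ?_
  intro f f' hff
  apply (shiftFunctor (Dual.D R) (-n)).map_injective
  have h1 : e₁.inv ≫ f⟦-n⟧' ≫ e₂.hom = e₁.inv ≫ f'⟦-n⟧' ≫ e₂.hom := hff
  have h2 := (cancel_epi e₁.inv).1 h1
  exact (cancel_mono e₂.hom).1 h2

theorem CH.ext (T : Triangle (Dual.D R)) (hT : T ∈ distTriang (Dual.D R))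
    (h1 : CH N T.obj₁) (h3 : CH N T.obj₃) : CH N T.obj₂ := by
  intro i
  haveI := h1 i
  haveI := h3 i
  exact countable_of_exact (Preadditive.leftComp (N⟦i⟧) T.mor₁)
    (fun g : T.obj₃ ⟶ N⟦i⟧ => T.mor₂ ≫ g)
    (fun f hf => by
      obtain ⟨g, hg⟩ := Triangle.yoneda_exact₂ T hT f hf
      exact ⟨g, hg.symm⟩)

/-- **countability of maps out of a perfect complex** -/
theorem countable_hom_of_isPerfect (P : Dual.D R) (hP : DRing.IsPerfect R P)
    (hN : ∀ j : ℤ, Countable ((homologyFunctor (ModuleCat.{u} R) j).obj N)) (i : ℤ) :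
    Countable (P ⟶ N⟦i⟧) := by
  obtain ⟨E, a, b, hv, hfp, ⟨e⟩⟩ := hP
  have h : CH N (Q.obj E) := by
    apply Groth.Agent.Helper5.Devissage.of_terms (CH N) (CH.shift N) (CH.ext N) E a b hv
    intro j k
    haveI := (hfp j).1
    haveI := (hfp j).2
    apply countable_hom_single
    have e' : (homologyFunctor (ModuleCat.{u} R) 0).obj (N⟦k⟧) ≅
        (homologyFunctor (ModuleCat.{u} R) k).obj N :=
      ((homologyFunctor (ModuleCat.{u} R) 0).shiftIso k 0 k (by omega)).app N
    haveI := hN k
    exact e'.toLinearEquiv.toEquiv.symm.countable_iff.1 inferInstance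
  exact ((CH N).prop_of_iso e h) i

end Dev

end Groth.Agent.Lib.Helper5.CountHom
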