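import Mathlib
import Groth.Prelude.Def_DCoh3
import Groth.Agent.Lib.Helper5.Perf.CountHomRing
import Groth.Agent.Lib.Helper5.Perf.HomVanishMV
import Groth.Agent.Lib.Helper5.Perf.PCCohNoeth
import Groth.Agent.Lib.Helper5.Perf.RelPerf
import Groth.Agent.Lib.Helper5.TildePC.Main

/-!
# Countability of `Hom` out of perfect objects: the affine case (helper5)
-/

set_option autoImplicit false
universe u
open CategoryTheory CategoryTheory.Limits AlgebraicGeometry Opposite TopologicalSpace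
open Pretriangulated

attribute [local instance] HasDerivedCategory.standard

namespace Groth.Agent.Lib.Helper5.CountHom

open Groth.Agent.Lib.Helper5.ExactHom Groth.Agent.Lib.Helper5.QC
  Groth.Agent.Lib.Helper5.TildePC Groth.Agent.Lib.Helper5.PCCoh
  Groth.Agent.Helper1 Groth.Agent.Lib.Helper5.PerfTri Groth.Agent.Lib.Helper5.HomVanish
  Groth.Agent.Lib.Helper5.RpushSupp

section Spec

variable (R : CommRingCat.{u})

theorem isQCohD_of_isPerfect {Z : Scheme.{u}} (E : DCoh.D Z) (hE : DCoh.IsPerfect E) :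
    DCoh.IsQCohD E :=
  isQCohD_of_isPC E (fun m => Groth.Agent.Lib.Helper5.LpullLib.isPseudoCoherentD_of_isPerfect E hE m)

theorem countable_hom_spec (E K : DCoh.D (Spec (CommRingCat.of R))) (hE : DCoh.IsPerfect E)
    (hK : DCoh.IsQCohD K)
    (hc : ∀ j : ℤ, Countable ((moduleSpecΓFunctor (R := R)).obj (DCoh.HD K j))) (i : ℤ) :
    Countable (E ⟶ K⟦i⟧) := by
  obtain ⟨P, ⟨eP⟩⟩ := ((tildeD_main R).2.2 E).1 (isQCohD_of_isPerfect E hE)
  obtain ⟨N, ⟨eN⟩⟩ := ((tildeD_main R).2.2 K).1 hK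
  haveI : (DCoh.tildeD R).Full := (tildeD_main R).1
  have hP : DRing.IsPerfect R P := (isPerfect_tildeD_iff R P).1 (isPerfect_of_iso eP.symm hE)
  have hN : ∀ j : ℤ, Countable ((DerivedCategory.homologyFunctor (ModuleCat.{u} R) j).obj N) := by
    intro j
    let e : (tilde.functor R).obj ((DerivedCategory.homologyFunctor _ j).obj N) ≅ DCoh.HD K j :=
      ((derivedHomologyIso (tilde.functor R) j).app N).symm ≪≫
        (DerivedCategory.homologyFunctor _ j).mapIso eN
    let e' : (DerivedCategory.homologyFunctor (ModuleCat.{u} R) j).obj N ≅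
        (moduleSpecΓFunctor (R := R)).obj (DCoh.HD K j) :=
      (tilde.toTildeΓNatIso (R := R)).app _ ≪≫ (moduleSpecΓFunctor (R := R)).mapIso e
    haveI := hc j
    exact e'.toLinearEquiv.toEquiv.symm.countable_iff.1 inferInstance
  haveI := countable_hom_of_isPerfect N P hP hN i
  let φ : (P ⟶ N⟦i⟧) → (E ⟶ K⟦i⟧) := fun f =>
    eP.inv ≫ (DCoh.tildeD R).map f ≫ ((DCoh.tildeD R).commShiftIso i).hom.app N ≫ eN.hom⟦i⟧'
  refine Function.Surjective.countable (f := φ) ?_
  intro α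
  obtain ⟨f, hf⟩ := (DCoh.tildeD R).map_surjective
    (eP.hom ≫ α ≫ eN.inv⟦i⟧' ≫ ((DCoh.tildeD R).commShiftIso i).inv.app N)
  refine ⟨f, ?_⟩
  show eP.inv ≫ (DCoh.tildeD R).map f ≫ ((DCoh.tildeD R).commShiftIso i).hom.app N ≫
    eN.hom⟦i⟧' = α
  rw [hf]
  simp only [Category.assoc, Iso.inv_hom_id_app_assoc, Iso.inv_hom_id_assoc,
    ← Functor.map_comp, Iso.inv_hom_id]
  rw [CategoryTheory.Functor.map_id]
  exact Category.comp_id _

end Spec

section Affine

/-- restriction of a perfect object along an open immersion is perfect -/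
theorem isPerfect_restrictJ {Z Z' : Scheme.{u}} (φ : Z' ⟶ Z) [IsOpenImmersion φ] (E : DCoh.D Z)
    (hE : DCoh.IsPerfect E) : DCoh.IsPerfect ((DCoh.restrictD φ).obj E) := by
  apply isPerfect_of_LPD
  intro z
  obtain ⟨V, hV, hL⟩ := exists_LPD_of_isPerfect hE (φ.base z)
  let W' : Z'.Opens := φ ⁻¹ᵁ V
  let k : (W' : Scheme.{u}) ⟶ (V : Scheme.{u}) := φ ∣_ V
  have hk : k ≫ V.ι = W'.ι ≫ φ := morphismRestrict_ι φ V
  have h1 : LPD (W'.ι ≫ φ) E := LPD_congr hk (LPD_comp k V.ι hL)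
  refine ⟨W', W'.ι, inferInstance, ?_, ?_⟩
  · have : z ∈ W' := hV
    exact ⟨⟨z, this⟩, rfl⟩
  · obtain ⟨F, hF, ⟨e⟩⟩ := h1
    exact ⟨F, hF, ⟨(restrictDCompObjIso W'.ι φ E).symm ≪≫ e⟩⟩

theorem countable_sections_of_eq {Z : Scheme.{u}} (M : Z.Modules) {A B : Z.Opens} (h : A = B)
    (hc : Countable (M.val.obj (op A))) : Countable (M.val.obj (op B)) := by
  subst h
  exact hc

variable {U : Scheme.{u}} [IsAffine U]

/-- the affine case -/
theorem countable_hom_affine (E K : DCoh.D U) (hE : DCoh.IsPerfect E) (hK : DCoh.IsQCohD K)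
    (hc : ∀ j : ℤ, Countable ((DCoh.HD K j).val.obj (op ⊤))) (i : ℤ) :
    Countable (E ⟶ K⟦i⟧) := by
  let φ : Spec (CommRingCat.of Γ(U, ⊤)) ⟶ U := U.isoSpec.inv
  haveI := faithful_restrictD_isoSpec_inv (U := U)
  have hE' := isPerfect_restrictJ φ E hE
  have hK' := isQCohD_restrictJ φ K hK
  have hc' : ∀ j : ℤ, Countable ((moduleSpecΓFunctor (R := Γ(U, ⊤))).obj
      (DCoh.HD ((DCoh.restrictD φ).obj K) j)) := by
    intro j
    let e := (moduleSpecΓFunctor (R := Γ(U, ⊤))).mapIso (hdRestrictJIso φ K j)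
    have h1 : Countable ((moduleSpecΓFunctor (R := Γ(U, ⊤))).obj ((DCoh.HD K j).restrict φ)) := by
      have h2 : φ ''ᵁ ⊤ = ⊤ := by
        rw [Scheme.Hom.image_top_eq_opensRange]
        exact Scheme.Hom.opensRange_of_isIso φ
      exact countable_sections_of_eq (DCoh.HD K j) h2.symm (hc j)
    exact e.toLinearEquiv.toEquiv.symm.countable_iff.1 h1
  haveI := countable_hom_spec Γ(U, ⊤) _ _ hE' hK' hc' i
  let ψ : (E ⟶ K⟦i⟧) → ((DCoh.restrictD φ).obj E ⟶ ((DCoh.restrictD φ).obj K)⟦i⟧) := fun f =>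
    (DCoh.restrictD φ).map f ≫ ((DCoh.restrictD φ).commShiftIso i).hom.app K
  refine Function.Injective.countable (f := ψ) ?_
  intro f f' hff
  apply (DCoh.restrictD φ).map_injective
  exact (cancel_mono (((DCoh.restrictD φ).commShiftIso i).hom.app K)).1 hff

end Affine

end Groth.Agent.Lib.Helper5.CountHom
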