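import Mathlib
import Groth.Prelude.Def_DCoh3
import Groth.Agent.Lib.Helper5.Perf.CountHomAff

set_option autoImplicit false
universe u
open CategoryTheory CategoryTheory.Limits AlgebraicGeometry Opposite TopologicalSpace
open Pretriangulated

attribute [local instance] HasDerivedCategory.standard

namespace Groth.Agent.Lib.Helper5.CountHom

section Gen

variable {C : Type*} [Category C] [Preadditive C] [HasZeroObject C] [HasShift C ℤ]
  [∀ n : ℤ, (shiftFunctor C n).Additive] [Pretriangulated C]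

/-- countability of `Hom(E, A[i])` from the neighbours in a distinguished triangle -/
theorem countable_hom_obj₁ (E : C) (T : Triangle C) (hT : T ∈ distTriang C) (i : ℤ)
    (h2 : Countable (E ⟶ T.obj₂⟦i⟧)) (h3 : Countable (E ⟶ T.obj₃⟦i - 1⟧)) :
    Countable (E ⟶ T.obj₁⟦i⟧) := by
  let F := preadditiveCoyoneda.obj (op E)
  have hex := F.homologySequence_exact₁ T hT (i - 1) i (by omega)
  rw [ShortComplex.ab_exact_iff] at hex
  haveI : Countable ((F.shift (i - 1)).obj T.obj₃) := h3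
  haveI : Countable ((F.shift i).obj T.obj₂) := h2
  have := countable_of_exact ((F.shift i).map T.mor₁).hom
    (fun k => (F.homologySequenceδ T (i - 1) i (by omega)).hom k) (fun x hx => hex x hx)
  exact this

theorem countable_hom_biprod (E B₁ B₂ : C) [HasBinaryBiproduct B₁ B₂] (i : ℤ)
    (h1 : Countable (E ⟶ B₁⟦i⟧)) (h2 : Countable (E ⟶ B₂⟦i⟧)) :
    Countable (E ⟶ (B₁ ⊞ B₂)⟦i⟧) := by
  let φ : (E ⟶ (B₁ ⊞ B₂)⟦i⟧) → (E ⟶ B₁⟦i⟧) × (E ⟶ B₂⟦i⟧) :=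
    fun f => (f ≫ (biprod.fst : B₁ ⊞ B₂ ⟶ B₁)⟦i⟧', f ≫ (biprod.snd : B₁ ⊞ B₂ ⟶ B₂)⟦i⟧')
  refine Function.Injective.countable (f := φ) ?_
  intro f f' h
  have e1 : f ≫ (biprod.fst : B₁ ⊞ B₂ ⟶ B₁)⟦i⟧' = f' ≫ (biprod.fst : B₁ ⊞ B₂ ⟶ B₁)⟦i⟧' :=
    congrArg Prod.fst h
  have e2 : f ≫ (biprod.snd : B₁ ⊞ B₂ ⟶ B₂)⟦i⟧' = f' ≫ (biprod.snd : B₁ ⊞ B₂ ⟶ B₂)⟦i⟧' :=
    congrArg Prod.snd h
  have hid : (𝟙 ((B₁ ⊞ B₂)⟦i⟧)) =
      (biprod.fst : B₁ ⊞ B₂ ⟶ B₁)⟦i⟧' ≫ (biprod.inl : B₁ ⟶ B₁ ⊞ B₂)⟦i⟧' +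
        (biprod.snd : B₁ ⊞ B₂ ⟶ B₂)⟦i⟧' ≫ (biprod.inr : B₂ ⟶ B₁ ⊞ B₂)⟦i⟧' := by
    rw [← Functor.map_comp, ← Functor.map_comp, ← Functor.map_add, biprod.total,
      CategoryTheory.Functor.map_id]
  calc f = f ≫ 𝟙 _ := (Category.comp_id f).symm
    _ = f' ≫ 𝟙 _ := by
      rw [hid, Preadditive.comp_add, Preadditive.comp_add, ← Category.assoc, ← Category.assoc,
        ← Category.assoc, ← Category.assoc, e1, e2]
    _ = f' := Category.comp_id f'

end Gen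

section MV

open Groth.Agent.Lib.Helper5.MV Groth.Agent.Lib.Helper5.QC Groth.Agent.Lib.Helper5.LpullLib
  Groth.Agent.Lib.Helper5.HomVanish Groth.Agent.Lib.Helper5.RpushSupp

attribute [local instance] hasRpush'

variable {X : Scheme.{u}}

/-- `Hom(E, (Rj_* M)⟦i⟧) ≃ Hom(E|_T, M⟦i⟧)` -/
theorem nonempty_equiv_rpush (T : X.Opens) (E : DCoh.D X) (M : DCoh.D (T : Scheme.{u})) (i : ℤ) :
    Nonempty ((E ⟶ ((DCoh.Rpush T.ι).obj M)⟦i⟧) ≃ ((DCoh.restrictD T.ι).obj E ⟶ M⟦i⟧)) := by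
  haveI : DCoh.HasLpull T.ι := hasLpull T.ι
  let adj := lpullRpushAdj T.ι
  obtain ⟨e⟩ := nonempty_lpull_iso_restrictD T E
  obtain ⟨s⟩ := nonempty_rpush_shift_iso T.ι M i
  exact ⟨(s.symm.homToEquiv (Z := E)).trans
    ((adj.homEquiv E (M⟦i⟧)).symm.trans (e.homFromEquiv (Z := M⟦i⟧)))⟩

/-- the property propagated by the induction -/
def PC (E K : DCoh.D X) (T : X.Opens) : Prop :=
  ∀ i : ℤ, Countable (E ⟶ ((DCoh.Rpush T.ι).obj ((DCoh.restrictD T.ι).obj K))⟦i⟧)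

theorem pc_mv (E K : DCoh.D X) (T U V W : X.Opens) (D : MVData T U V W)
    (hU : PC E K U) (hV : PC E K V) (hW : PC E K W) : PC E K T := by
  intro i
  obtain ⟨α, β, γ, hTr⟩ := exists_mv_triangle (𝟙 X) D T.ι U.ι V.ι W.ι
    (Category.comp_id _).symm (Category.comp_id _).symm (Category.comp_id _).symm
    (Category.comp_id _).symm K
  exact countable_hom_obj₁ E _ hTr i (countable_hom_biprod E _ _ i (hU i) (hV i)) (hW (i - 1))

theorem pc_base (E K : DCoh.D X) (hE : DCoh.IsPerfect E) (hK : DCoh.IsQCohD K)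
    (hKc : ∀ V : X.Opens, IsAffineOpen V → ∀ i : ℤ, Countable ((DCoh.HD K i).val.obj (op V)))
    (T : X.Opens) (hT : IsAffineOpen T) : PC E K T := by
  intro i
  obtain ⟨eq⟩ := nonempty_equiv_rpush T E ((DCoh.restrictD T.ι).obj K) i
  haveI : IsAffine (T : Scheme.{u}) := hT
  have hc : ∀ j : ℤ, Countable ((DCoh.HD ((DCoh.restrictD T.ι).obj K) j).val.obj (op ⊤)) := by
    intro j
    have e := hdRestrictDIso K T j
    have h1 : Countable (((DCoh.HD K j).restrict T.ι).val.obj (op ⊤)) := by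
      have h2 : T.ι ''ᵁ ⊤ = T := Scheme.Opens.ι_image_top T
      exact countable_sections_of_eq (DCoh.HD K j) h2.symm (hKc T hT j)
    haveI : IsIso (e.hom.app ⊤) := inferInstance
    exact (asIso (e.hom.app ⊤)).addCommGroupIsoToAddEquiv.toEquiv.countable_iff.1 h1
  haveI := countable_hom_affine ((DCoh.restrictD T.ι).obj E) ((DCoh.restrictD T.ι).obj K)
    (isPerfect_restrictJ T.ι E hE) (isQCohD_restrictD T K hK) hc i
  exact eq.countable_iff.2 inferInstance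

/-- **countability of `Hom(E|_U, K|_U[i])`** -/
theorem main [QuasiSeparatedSpace X] (K : DCoh.D X) (hK : DCoh.IsQCohD K)
    (hKc : ∀ V : X.Opens, IsAffineOpen V → ∀ i : ℤ, Countable ((DCoh.HD K i).val.obj (op V)))
    (E : DCoh.D X) (hE : DCoh.IsPerfect E) (U : X.Opens) (hU : IsCompact (U : Set X)) (i : ℤ) :
    Countable ((DCoh.restrictD U.ι).obj E ⟶ ((DCoh.restrictD U.ι).obj K)⟦i⟧) := by
  have h := qcqs_induction (PC E K) (pc_base E K hE hK hKc)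
    (fun T U V W D => pc_mv E K T U V W D) U hU i
  obtain ⟨eq⟩ := nonempty_equiv_rpush U E ((DCoh.restrictD U.ι).obj K) i
  exact eq.countable_iff.1 h

end MV

end Groth.Agent.Lib.Helper5.CountHom
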