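import Mathlib
import Groth.Prelude.Def_DCoh3
import Groth.Prelude.Def_MoreMor
import Groth.Agent.Lib.Helper5.RelPC.SingleMod
import Groth.Agent.Lib.Helper5.RelPC.FlatLfp
import Groth.Agent.Lib.Helper5.TorAmp.PerfHom
import Groth.Agent.Lib.Helper5.TildePC.Main
import Groth.Agent.Lib.Helper5.Perf.CountHomAff
import Groth.Agent.Lib.Helper1.PushQc

/-!
# Perfect closed immersions: the direct image of the structure sheaf is perfect (helper5)
-/
set_option autoImplicit false
set_option linter.style.haveILetI false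
universe u
open CategoryTheory CategoryTheory.Limits AlgebraicGeometry Opposite TopologicalSpace

attribute [local instance] HasDerivedCategory.standard

namespace Groth.Agent.Lib.Helper5.PerfClImm

open Groth.Agent.Helper5.PCHom Groth.Agent.Helper5.PCRes Groth.Agent.Helper3.PerfHom
  Groth.Agent.Helper5.TorAmp

/-- a surjective perfect ring map makes the target a perfect module -/
theorem isPerfect_of_isPerfectHom_surj {A B : Type u} [CommRing A] [CommRing B] [Algebra A B]
    (hs : Function.Surjective (algebraMap A B)) (h : MoreMor.IsPerfectHom A B) :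
    DRing.IsPerfect A (Dual.inD A B) := by
  obtain ⟨⟨n, φ, hφ, hpc⟩, ⟨d, hd⟩⟩ := h
  have h1 : PCHom φ.toRingHom := (pcModule'_toAlgebra_iff φ).1 hpc
  choose a ha using fun i : Fin n => hs (φ (MvPolynomial.X i))
  have hcomp : φ.toRingHom = (algebraMap A B).comp (MvPolynomial.eval a) := by
    apply MvPolynomial.ringHom_ext
    · intro r
      simp
    · intro i
      simp [ha i]
  have h2 : PCHom (algebraMap A B) :=
    pchom_cancel (MvPolynomial.eval a) (algebraMap A B) φ.toRingHom hcomp (pchom_mvEval n A a) h1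
  have h3 : DRing.IsPseudoCoherentModule' A B := (allPC_iff_pcModule' B).1 (pchom_iff_alg.1 h2)
  have h4 : DRing.HasTorAmplitudeIn A (-(d : ℤ)) 0 (Dual.inD A B) := ((s6946 B d).1).1 hd
  obtain ⟨E, hE1, hE2, hE3⟩ := perfAmp_of_pc' h3 h4
  exact ⟨E, _, _, hE1, hE2, hE3⟩

open Groth.Agent.Lib.Helper5.AffComm Groth.Agent.Lib.Helper5.PerfTri
  Groth.Agent.Lib.Helper5.TildePC Groth.Agent.Lib.Helper5.SingleMod

variable {X Z : Scheme.{u}}

/-- perfectness can be tested on the spectra of affine opens -/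
theorem isPerfect_of_resSpec (E : DCoh.D X)
    (h : ∀ x : X, ∃ (V : X.Opens) (hV : IsAffineOpen V), x ∈ V ∧ DCoh.IsPerfect (resSpec E hV)) :
    DCoh.IsPerfect E := by
  apply Groth.Agent.Lib.Helper5.PerfIff.isPerfect_local
  intro x
  obtain ⟨V, hV, hx, hp⟩ := h x
  refine ⟨V, hx, ?_⟩
  have h1 := Groth.Agent.Lib.Helper5.CountHom.isPerfect_restrictJ hV.isoSpec.hom _ hp
  exact isPerfect_of_iso ((restrictDCompObjIso hV.isoSpec.hom hV.fromSpec E).symm ≪≫
    restrictDCongrObjIso hV.isoSpec_hom_fromSpec E) h1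

/-- sections of `i_* 𝒪_Z` over `V` -/
noncomputable def pushUnitSecEquiv (i : Z ⟶ X) (V : X.Opens) :
    letI := (i.appLE V (i ⁻¹ᵁ V) le_rfl).hom.toAlgebra
    Γ((Scheme.Modules.pushforward i).obj (Coh.structureModule Z), V) ≃ₗ[Γ(X, V)]
      Γ(Z, i ⁻¹ᵁ V) :=
  letI := (i.appLE V (i ⁻¹ᵁ V) le_rfl).hom.toAlgebra
  { toFun := fun x => x
    invFun := fun x => x
    left_inv := fun _ => rfl
    right_inv := fun _ => rfl
    map_add' := fun _ _ => rfl
    map_smul' := fun r x => by
      show _ = (i.appLE V (i ⁻¹ᵁ V) le_rfl).hom r * (show Γ(Z, i ⁻¹ᵁ V) from x)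
      have h0 : i.appLE V (i ⁻¹ᵁ V) le_rfl = i.app V := by
        simp [Scheme.Hom.appLE]
      rw [h0]
      rfl }

/-- perfect complexes over a ring are closed under isomorphism -/
theorem dring_isPerfect_of_iso {R : Type u} [CommRing R] {K L : Dual.D R} (e : K ≅ L)
    (h : DRing.IsPerfect R K) : DRing.IsPerfect R L := by
  obtain ⟨E, a, b, h1, h2, ⟨e'⟩⟩ := h
  exact ⟨E, a, b, h1, h2, ⟨e' ≪≫ e⟩⟩

/-- **the direct image of the structure sheaf along a perfect closed immersion is perfect** -/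
theorem isPerfect_push_unit (i : Z ⟶ X) [IsClosedImmersion i] (hi : MoreMor.IsPerfectMor i) :
    DCoh.IsPerfect
      (DCoh.inD X ((Scheme.Modules.pushforward i).obj (Coh.structureModule Z))) := by
  haveI : ((Scheme.Modules.pushforward i).obj (Coh.structureModule Z)).IsQuasicoherent :=
    Groth.Agent.Helper1.PushQc.isQuasicoherent_pushforward i (Coh.structureModule Z)
  apply isPerfect_of_resSpec
  intro x
  obtain ⟨_, ⟨V, hV, rfl⟩, hx, -⟩ := X.isBasis_affineOpens.exists_subset_of_mem_open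
    (Set.mem_univ x) isOpen_univ
  refine ⟨V, hV, hx, ?_⟩
  obtain ⟨e⟩ := nonempty_tilde_inD ((Scheme.Modules.pushforward i).obj (Coh.structureModule Z)) hV
  refine isPerfect_of_iso e ?_
  rw [isPerfect_tildeD_iff]
  have hU : IsAffineOpen (i ⁻¹ᵁ V) := hV.preimage i
  letI := (i.appLE V (i ⁻¹ᵁ V) le_rfl).hom.toAlgebra
  have hperf := hi (i ⁻¹ᵁ V) V hU hV le_rfl
  have hs : Function.Surjective (algebraMap Γ(X, V) Γ(Z, i ⁻¹ᵁ V)) := by
    change Function.Surjective (i.appLE V (i ⁻¹ᵁ V) le_rfl).hom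
    have h0 : i.appLE V (i ⁻¹ᵁ V) le_rfl = i.app V := by
      simp [Scheme.Hom.appLE]
    rw [h0]
    exact i.app_surjective V hV
  have h1 := isPerfect_of_isPerfectHom_surj hs hperf
  exact dring_isPerfect_of_iso
    ((DerivedCategory.singleFunctor _ 0).mapIso (pushUnitSecEquiv i V).symm.toModuleIso) h1

end Groth.Agent.Lib.Helper5.PerfClImm
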