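import Mathlib
import Groth.Prelude.Def_DCoh3
import Groth.Prelude.Def_RegImm
import Groth.Agent.Lib.Helper5.Perf.PerfClImm
import Groth.Agent.Lib.Helper3.PerfHom6

/-!
# Koszul-regular closed immersions: the direct image of the structure sheaf is perfect (helper5)
-/
set_option autoImplicit false
set_option linter.style.haveILetI false
universe u
open CategoryTheory CategoryTheory.Limits AlgebraicGeometry Opposite TopologicalSpace

attribute [local instance] HasDerivedCategory.standard

namespace Groth.Agent.Lib.Helper5.KoszulImm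

open Groth.Agent.Lib.Helper5.AffComm Groth.Agent.Lib.Helper5.PerfTri
  Groth.Agent.Lib.Helper5.TildePC Groth.Agent.Lib.Helper5.SingleMod
  Groth.Agent.Lib.Helper5.PerfClImm

variable {X Z : Scheme.{u}}

/-- the quotient by the kernel, as a module -/
noncomputable def quotKerEquiv {A B : Type u} [CommRing A] [CommRing B] [Algebra A B]
    (hs : Function.Surjective (algebraMap A B)) :
    (A ⧸ RingHom.ker (algebraMap A B)) ≃ₗ[A] B :=
  { (RingHom.quotientKerEquivOfSurjective hs).toAddEquiv with
    map_smul' := fun r x => by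
      obtain ⟨a, rfl⟩ := Ideal.Quotient.mk_surjective x
      change RingHom.quotientKerEquivOfSurjective hs (Ideal.Quotient.mk _ (r * a)) =
        r • RingHom.quotientKerEquivOfSurjective hs (Ideal.Quotient.mk _ a)
      rw [RingHom.quotientKerEquivOfSurjective_apply_mk, RingHom.quotientKerEquivOfSurjective_apply_mk,
        map_mul, Algebra.smul_def] }

/-- the local statement over an affine open -/
theorem isPerfect_resSpec_push_unit (i : Z ⟶ X) [IsClosedImmersion i] {V : X.Opens}
    (hV : IsAffineOpen V)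
    (h : DRing.IsPerfectModule Γ(X, V) (Γ(X, V) ⧸ RingHom.ker (i.app V).hom)) :
    DCoh.IsPerfect (resSpec
      (DCoh.inD X ((Scheme.Modules.pushforward i).obj (Coh.structureModule Z))) hV) := by
  haveI : ((Scheme.Modules.pushforward i).obj (Coh.structureModule Z)).IsQuasicoherent :=
    Groth.Agent.Helper1.PushQc.isQuasicoherent_pushforward i (Coh.structureModule Z)
  obtain ⟨e⟩ := nonempty_tilde_inD ((Scheme.Modules.pushforward i).obj (Coh.structureModule Z)) hV
  refine isPerfect_of_iso e ?_
  rw [isPerfect_tildeD_iff]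
  have h0 : i.appLE V (i ⁻¹ᵁ V) le_rfl = i.app V := by
    simp [Scheme.Hom.appLE]
  letI := (i.appLE V (i ⁻¹ᵁ V) le_rfl).hom.toAlgebra
  have hs : Function.Surjective (algebraMap Γ(X, V) Γ(Z, i ⁻¹ᵁ V)) := by
    change Function.Surjective (i.appLE V (i ⁻¹ᵁ V) le_rfl).hom
    rw [h0]
    exact i.app_surjective V hV
  have hk : RingHom.ker (algebraMap Γ(X, V) Γ(Z, i ⁻¹ᵁ V)) = RingHom.ker (i.app V).hom := by
    change RingHom.ker (i.appLE V (i ⁻¹ᵁ V) le_rfl).hom = _
    rw [h0]
  rw [← hk] at h
  exact dring_isPerfect_of_iso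
    ((DerivedCategory.singleFunctor _ 0).mapIso
      ((quotKerEquiv hs).trans (pushUnitSecEquiv i V).symm).toModuleIso) h

/-- **the direct image of the structure sheaf along a Koszul-regular closed immersion is
perfect** -/
theorem isPerfect_push_unit_of_koszul (i : Z ⟶ X) [IsClosedImmersion i]
    (hi : RegImm.IsRegularImmersion RegImm.Kind.koszul i) :
    DCoh.IsPerfect
      (DCoh.inD X ((Scheme.Modules.pushforward i).obj (Coh.structureModule Z))) := by
  apply isPerfect_of_resSpec
  intro x
  by_cases hx : x ∈ Set.range i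
  · obtain ⟨z, rfl⟩ := hx
    obtain ⟨U, hzU, -, rs, hrs, hker⟩ := hi.2 z
    refine ⟨U.1, U.2, hzU, isPerfect_resSpec_push_unit i U.2 ?_⟩
    rw [hker]
    exact Groth.Agent.Helper3.PerfHom.perfect_of_koszulRegular rs hrs
  · have hcl : IsClosed (Set.range i) := i.isClosedEmbedding.isClosed_range
    obtain ⟨_, ⟨V, hV, rfl⟩, hxV, hVc⟩ :=
      X.isBasis_affineOpens.exists_subset_of_mem_open hx hcl.isOpen_compl
    refine ⟨V, hV, hxV, isPerfect_resSpec_push_unit i hV ?_⟩
    have hbot : i ⁻¹ᵁ V = ⊥ := by
      ext z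
      simp only [Opens.coe_bot, Set.mem_empty_iff_false, iff_false]
      intro hz
      exact hVc hz ⟨z, rfl⟩
    have hsub : Subsingleton Γ(Z, i ⁻¹ᵁ V) := by
      rw [hbot]
      infer_instance
    have hk : RingHom.ker (i.app V).hom = ⊤ := by
      rw [Ideal.eq_top_iff_one, RingHom.mem_ker]
      exact Subsingleton.elim _ _
    rw [hk]
    haveI : Subsingleton (Γ(X, V) ⧸ (⊤ : Ideal Γ(X, V))) := Ideal.Quotient.subsingleton_iff.2 rfl
    exact Groth.Agent.Helper3.PerfHom.isPerfectModule_of_subsingleton _

end Groth.Agent.Lib.Helper5.KoszulImm
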