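import Mathlib
import Groth.Prelude.Def_DerSch2
import Groth.Prelude.Def_RegImm
import Groth.Agent.Lib.Helper5.Perf.KoszulImm
import Groth.Agent.Lib.Helper5.KSix.TorComp
import Groth.Agent.Lib.Helper5.TorAmp.BaseChange
import Groth.Agent.Lib.Helper5.RelPC.Trans
import Groth.Agent.Lib.Helper5.RelPC.NPC
import Groth.Agent.Lib.Helper5.DRing.PerRes

/-!
# Koszul-regular immersions have finite perfect dimension (helper5)
-/
set_option autoImplicit false
set_option linter.style.haveILetI false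
set_option linter.unusedSectionVars false
set_option linter.unusedVariables false
universe u
open CategoryTheory CategoryTheory.Limits AlgebraicGeometry Opposite TopologicalSpace

attribute [local instance] HasDerivedCategory.standard

namespace Groth.Agent.Lib.Helper5.KoszulDim

open Groth.Agent.Helper5.TorAmp

section Ring

/-- the Koszul complex of a Koszul-regular sequence is a flat resolution of length `d` -/
theorem hasTorAmplitudeIn_of_koszulRegular {A : Type u} [CommRing A] (xs : List A)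
    (hreg : LCI.IsKoszulRegularSeq A xs) :
    DRing.HasTorAmplitudeIn A (-(xs.length : ℤ)) 0 (Dual.inD A (A ⧸ Ideal.ofList xs)) := by
  obtain ⟨e⟩ := Groth.Agent.Helper3.PerfHom.koszulQ_iso_of_koszulRegular xs hreg
  refine ⟨Koszul.koszul A xs, fun i hi => ?_, fun i => ?_, ⟨e⟩⟩
  · rcases hi with hi | hi
    · obtain ⟨e'⟩ := Groth.Agent.Helper3.ExtKos.koszul_X xs i
      have h0 : Groth.Agent.Helper3.ExtKos.rk xs.length i = 0 := by
        unfold Groth.Agent.Helper3.ExtKos.rk
        rw [if_pos (by omega)]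
        apply Nat.choose_eq_zero_of_lt
        omega
      rw [h0] at e'
      have : Subsingleton ((Koszul.koszul A xs).X i) := e'.toEquiv.subsingleton
      exact ModuleCat.isZero_of_subsingleton _
    · exact Groth.Agent.Helper3.ExtKos.koszul_isZero_pos xs i hi
  · obtain ⟨e'⟩ := Groth.Agent.Helper3.ExtKos.koszul_X xs i
    haveI : Module.Free A ((Koszul.koszul A xs).X i) := Module.Free.of_equiv e'.symm
    infer_instance

open TensorProduct in
/-- localizing a quotient: tor amplitude passes from `A → B` surjective to the local rings -/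
theorem hasTorAmplitudeIn_localization_of_surjective
    {A B R' C : Type u} [CommRing A] [CommRing B] [CommRing R'] [CommRing C]
    [Algebra A B] [Algebra A R'] [Algebra B C] [Algebra R' C] [Algebra A C]
    [IsScalarTower A B C] [IsScalarTower A R' C]
    (p : Ideal A) [p.IsPrime] (q : Ideal B) [q.IsPrime]
    [IsLocalization.AtPrime R' p] [IsLocalization.AtPrime C q]
    (hs : Function.Surjective (algebraMap A B)) (hpq : q.comap (algebraMap A B) = p)
    (d : ℕ) (h : DRing.HasTorAmplitudeIn A (-(d : ℤ)) 0 (Dual.inD A B)) :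
    DRing.HasTorAmplitudeIn R' (-(d : ℤ)) 0 (Dual.inD R' C) := by
  haveI : Module.Flat A R' := IsLocalization.flat R' p.primeCompl
  have h1 := Groth.Agent.Helper5.FlatBC.s7001 R' d B h
  have hsub : Algebra.algebraMapSubmonoid B p.primeCompl = q.primeCompl := by
    ext b
    constructor
    · rintro ⟨a, ha, rfl⟩
      intro hb
      apply ha
      rw [← hpq]
      exact hb
    · intro hb
      obtain ⟨a, rfl⟩ := hs b
      refine ⟨a, ?_, rfl⟩
      intro ha
      apply hb
      rw [← hpq] at ha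
      exact ha
  haveI : IsLocalization (Algebra.algebraMapSubmonoid B p.primeCompl) C := by
    rw [hsub]
    infer_instance
  have h2 : IsLocalizedModule p.primeCompl (IsScalarTower.toAlgHom A B C).toLinearMap :=
    isLocalizedModule_iff_isLocalization.2 inferInstance
  have h3 : IsBaseChange R' (IsScalarTower.toAlgHom A B C).toLinearMap :=
    (isLocalizedModule_iff_isBaseChange p.primeCompl R' _).1 h2
  exact hasTorAmplitudeIn_of_iso
    ((DerivedCategory.singleFunctor (ModuleCat.{u} R') 0).mapIso h3.equiv.toModuleIso) h1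

end Ring

section Sch

variable {X Z : Scheme.{u}}

theorem app_surjective_of_restrict (i : Z ⟶ X) (U : X.Opens) (hU : IsAffineOpen U)
    [IsClosedImmersion (i ∣_ U)] : Function.Surjective (i.app U).hom := by
  haveI : IsAffine U := hU
  have h1 := (i ∣_ U).app_surjective ⊤ (isAffineOpen_top _)
  have e := morphismRestrict_app i U ⊤
  have h2 : Function.Surjective (i.app (U.ι ''ᵁ ⊤)).hom := by
    have h1' : Function.Surjective ((Z.presheaf.map
        (eqToHom (image_morphismRestrict_preimage i U ⊤)).op).hom ∘ (i.app (U.ι ''ᵁ ⊤)).hom) := by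
      intro c
      obtain ⟨a, ha⟩ := h1 c
      refine ⟨a, ?_⟩
      rw [← ha, e]
      rfl
    refine Function.Surjective.of_comp_left h1' ?_
    exact ((ConcreteCategory.isIso_iff_bijective (Z.presheaf.map
        (eqToHom (image_morphismRestrict_preimage i U ⊤)).op)).1 inferInstance).1
  have key : ∀ (V W : X.Opens), V = W → Function.Surjective (i.app V).hom →
      Function.Surjective (i.app W).hom := by
    rintro V W rfl h
    exact h
  exact key _ _ (Scheme.Opens.ι_image_top U) h2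

theorem isAffineOpen_preimage_of_restrict (i : Z ⟶ X) (U : X.Opens) (hU : IsAffineOpen U)
    [IsClosedImmersion (i ∣_ U)] : IsAffineOpen (i ⁻¹ᵁ U) := by
  haveI : IsAffine U := hU
  exact isAffine_of_isAffineHom (i ∣_ U)

/-- **the tor part**: at a point with a Koszul-regular chart, the structure sheaf of `Z` has
tor amplitude in `[-d, 0]` over the local ring of `X` -/
theorem hasTorAmplitudeAt_unit_of_koszul (i : Z ⟶ X) (z : Z) (U : X.Opens) (hU : IsAffineOpen U)
    (hz : i.base z ∈ U) [IsClosedImmersion (i ∣_ U)] (rs : List Γ(X, U))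
    (hrs : LCI.IsKoszulRegularSeq Γ(X, U) rs)
    (hker : RingHom.ker (i.app U).hom = Ideal.ofList rs) :
    DerSch.HasTorAmplitudeAt i (-(rs.length : ℤ)) 0 (DerSch.unitCx Z) z := by
  have hU' := isAffineOpen_preimage_of_restrict i U hU
  have hs := app_surjective_of_restrict i U hU
  have hz' : z ∈ i ⁻¹ᵁ U := hz
  letI algAB : Algebra Γ(X, U) Γ(Z, i ⁻¹ᵁ U) := (i.app U).hom.toAlgebra
  letI algAR : Algebra Γ(X, U) (X.presheaf.stalk (i.base z)) :=
    X.presheaf.algebra_section_stalk ⟨i.base z, hz⟩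
  letI algBC : Algebra Γ(Z, i ⁻¹ᵁ U) (Z.presheaf.stalk z) :=
    Z.presheaf.algebra_section_stalk ⟨z, hz'⟩
  letI algRC : Algebra (X.presheaf.stalk (i.base z)) (Z.presheaf.stalk z) :=
    (i.stalkMap z).hom.toAlgebra
  letI algAC : Algebra Γ(X, U) (Z.presheaf.stalk z) :=
    ((algebraMap Γ(Z, i ⁻¹ᵁ U) (Z.presheaf.stalk z)).comp
      (algebraMap Γ(X, U) Γ(Z, i ⁻¹ᵁ U))).toAlgebra
  haveI : IsScalarTower Γ(X, U) Γ(Z, i ⁻¹ᵁ U) (Z.presheaf.stalk z) :=
    IsScalarTower.of_algebraMap_eq' rfl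
  haveI : IsScalarTower Γ(X, U) (X.presheaf.stalk (i.base z)) (Z.presheaf.stalk z) := by
    apply IsScalarTower.of_algebraMap_eq'
    ext a
    exact (Scheme.Hom.germ_stalkMap_apply i U z hz a).symm
  haveI hlocX : IsLocalization.AtPrime (X.presheaf.stalk (i.base z))
      (hU.primeIdealOf ⟨i.base z, hz⟩).asIdeal := hU.isLocalization_stalk ⟨i.base z, hz⟩
  haveI hlocZ : IsLocalization.AtPrime (Z.presheaf.stalk z)
      (hU'.primeIdealOf ⟨z, hz'⟩).asIdeal := hU'.isLocalization_stalk ⟨z, hz'⟩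
  have h0 : i.appLE U (i ⁻¹ᵁ U) le_rfl = i.app U := by
    simp [Scheme.Hom.appLE]
  have hpq : (hU'.primeIdealOf ⟨z, hz'⟩).asIdeal.comap (algebraMap Γ(X, U) Γ(Z, i ⁻¹ᵁ U)) =
      (hU.primeIdealOf ⟨i.base z, hz⟩).asIdeal := by
    have := IsAffineOpen.comap_primeIdealOf_appLE U hU (i ⁻¹ᵁ U) hU' le_rfl hz'
    rw [h0] at this
    exact congrArg PrimeSpectrum.asIdeal this
  have hsA : Function.Surjective (algebraMap Γ(X, U) Γ(Z, i ⁻¹ᵁ U)) := hs
  have hkerA : RingHom.ker (algebraMap Γ(X, U) Γ(Z, i ⁻¹ᵁ U)) = Ideal.ofList rs := hker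
  have h1 : DRing.HasTorAmplitudeIn Γ(X, U) (-(rs.length : ℤ)) 0
      (Dual.inD Γ(X, U) Γ(Z, i ⁻¹ᵁ U)) := by
    have := hasTorAmplitudeIn_of_koszulRegular rs hrs
    rw [← hkerA] at this
    exact hasTorAmplitudeIn_of_iso ((DerivedCategory.singleFunctor _ 0).mapIso
      (Groth.Agent.Lib.Helper5.KoszulImm.quotKerEquiv hsA).toModuleIso) this
  have h2 := hasTorAmplitudeIn_localization_of_surjective
    (R' := X.presheaf.stalk (i.base z)) (C := Z.presheaf.stalk z)
    (hU.primeIdealOf ⟨i.base z, hz⟩).asIdeal (hU'.primeIdealOf ⟨z, hz'⟩).asIdeal hsA hpq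
    rs.length h1
  exact hasTorAmplitudeIn_of_iso (Groth.Agent.Lib.Helper5.KSixTor.stalkUnitCxIso i z).symm h2

open Groth.Agent.Helper5.PCHom Groth.Agent.Helper5.PCRes Groth.Agent.Lib.Helper5.CPAtLib in
/-- **the pseudo-coherence part** -/
theorem isPseudoCoherentRelAll_unit_of_koszul (i : Z ⟶ X) [IsImmersion i]
    (h : ∀ z : Z, ∃ U : X.affineOpens, i.base z ∈ U.1 ∧ IsClosedImmersion (i ∣_ U.1) ∧
      ∃ rs : List Γ(X, U.1), LCI.IsKoszulRegularSeq Γ(X, U.1) rs ∧
        RingHom.ker (i.app U.1).hom = Ideal.ofList rs) :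
    DerSch.IsPseudoCoherentRelAll i (DCoh.toD Z (DerSch.unitCx Z)) := by
  intro m
  apply isPseudoCoherentRel_of_pointwise
  intro z
  obtain ⟨U, hzU, hcl, rs, hrs, hker⟩ := h z
  haveI := hcl
  have hU' := isAffineOpen_preimage_of_restrict i U.1 U.2
  have hs := app_surjective_of_restrict i U.1 U.2
  refine ⟨⟨i ⁻¹ᵁ U.1, hU'⟩, U, le_rfl, hzU, ?_⟩
  obtain ⟨k, φ, hφ⟩ := exists_isChart i ⟨i ⁻¹ᵁ U.1, hU'⟩ U le_rfl
  refine ⟨k, φ, hφ, (chartPC_unit_iff hU' φ hφ.1 m).2 ?_⟩
  have h0 : i.appLE U.1 (i ⁻¹ᵁ U.1) le_rfl = i.app U.1 := by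
    simp [Scheme.Hom.appLE]
  have hφ2 : φ.comp MvPolynomial.C = (i.app U.1).hom := by
    rw [← h0]
    exact hφ.2
  letI algAB : Algebra Γ(X, U.1) Γ(Z, i ⁻¹ᵁ U.1) := (i.app U.1).hom.toAlgebra
  have hsA : Function.Surjective (algebraMap Γ(X, U.1) Γ(Z, i ⁻¹ᵁ U.1)) := hs
  have hkerA : RingHom.ker (algebraMap Γ(X, U.1) Γ(Z, i ⁻¹ᵁ U.1)) = Ideal.ofList rs := hker
  have hperf : DRing.IsPerfect Γ(X, U.1) (Dual.inD Γ(X, U.1) Γ(Z, i ⁻¹ᵁ U.1)) := by
    have := Groth.Agent.Helper3.PerfHom.perfect_of_koszulRegular rs hrs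
    rw [← hkerA] at this
    exact Groth.Agent.Helper3.PerfHom.isPerfect_of_iso ((DerivedCategory.singleFunctor _ 0).mapIso
      (Groth.Agent.Lib.Helper5.KoszulImm.quotKerEquiv hsA).toModuleIso) this
  have hψ : PCHom (algebraMap Γ(X, U.1) Γ(Z, i ⁻¹ᵁ U.1)) :=
    pchom_iff_alg.2 (fun m' => Groth.Agent.Helper5.TorAmp.pc_of_pc'
      (Groth.Agent.Helper5.PerRes.pc'_of_perfect _ hperf) m')
  choose a ha using fun j : Fin k => hs (φ (MvPolynomial.X j))
  have hcomp : φ = (algebraMap Γ(X, U.1) Γ(Z, i ⁻¹ᵁ U.1)).comp (MvPolynomial.eval a) := by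
    apply MvPolynomial.ringHom_ext
    · intro r
      have := RingHom.congr_fun hφ2 r
      show φ (MvPolynomial.C r) = algebraMap Γ(X, U.1) Γ(Z, i ⁻¹ᵁ U.1)
        (MvPolynomial.eval a (MvPolynomial.C r))
      rw [MvPolynomial.eval_C]
      exact this
    · intro j
      show φ (MvPolynomial.X j) = algebraMap Γ(X, U.1) Γ(Z, i ⁻¹ᵁ U.1)
        (MvPolynomial.eval a (MvPolynomial.X j))
      rw [MvPolynomial.eval_X]
      exact (ha j).symm
  exact pchom_comp (MvPolynomial.eval a) (algebraMap Γ(X, U.1) Γ(Z, i ⁻¹ᵁ U.1)) φ hcomp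
    (pchom_mvEval k _ a) hψ m

end Sch

end Groth.Agent.Lib.Helper5.KoszulDim
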