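import Mathlib
import Groth.Prelude.Def_FlatMod2
import Groth.Prelude.Def_CohB1
import Groth.Prelude.Def_DCoh2
import Groth.Agent.Lib.Helper5.Perf.NearFLF
import Groth.Agent.Lib.Helper5.Perf.PerfTri
import Groth.Agent.Lib.Helper5.Stalk.RpushSupp

/-!
# The locus where the cohomology sheaves of a perfect complex are finite free
-/
set_option autoImplicit false
set_option linter.style.haveILetI false
universe u
noncomputable section
open CategoryTheory CategoryTheory.Limits AlgebraicGeometry Opposite TopologicalSpace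
attribute [local instance] HasDerivedCategory.standard

namespace Groth.Agent.Lib.Helper5.Locus

open Groth.Agent.Lead.FLF Groth.Agent.Lib.Helper5.StalkAdj Groth.Agent.Lib.Helper5.NearFLF
  Groth.Agent.Lib.Helper5.PerfTri Groth.Agent.Lib.Helper5.RpushSupp
  Groth.Agent.Lib.Helper5.StalkFree

variable {X : Scheme.{u}}

/-- a perfect complex all of whose cohomology sheaves are flat at `x` has finite locally free
cohomology sheaves near `x` -/
theorem exists_flf_HD (E : DCoh.D X) (hE : DCoh.IsPerfect E) (x : X)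
    (hx : ∀ i : ℤ, FlatMod.IsFlatAt (DCoh.HD E i) x) :
    ∃ W : X.Opens, x ∈ W ∧ ∀ i : ℤ, FlatMod.IsFinLocFree ((DCoh.HD E i).restrict W.ι) := by
  obtain ⟨V, hxV, K, hK, ⟨e⟩⟩ := exists_LPD_of_isPerfect hE x
  have ei : ∀ i : ℤ, (DCoh.HD E i).restrict V.ι ≅ K.homology i := fun i =>
    hdRestrictDIso E V i ≪≫ (DerivedCategory.homologyFunctor _ i).mapIso e ≪≫
      (DerivedCategory.homologyFunctorFactors _ i).app K
  have hfl : ∀ i : ℤ, FlatMod.IsFlatAt (K.homology i) ⟨x, hxV⟩ := fun i =>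
    isFlatAt_of_iso (ei i) _ (isFlatAt_restrict V.ι _ ⟨x, hxV⟩ (hx i))
  obtain ⟨W, hxW, hW⟩ := exists_flf_homology hK ⟨x, hxV⟩ hfl
  refine ⟨(W.ι ≫ V.ι).opensRange, ⟨⟨⟨x, hxV⟩, hxW⟩, rfl⟩, fun i => ?_⟩
  apply flf_opensRange
  exact isFinLocFree_of_iso ((Scheme.Modules.restrictFunctorComp W.ι V.ι).app _).symm
    (flf_restrict_of_iso (ei i).symm W.ι (hW i))


/-- the set of points where all cohomology sheaves have finite free stalks -/
def freeLocus (E : DCoh.D X) : Set X := {x : X | ∀ i : ℤ,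
  Module.Free (X.presheaf.stalk x) ((DCoh.HD E i).presheaf.stalk x) ∧
  Module.Finite (X.presheaf.stalk x) ((DCoh.HD E i).presheaf.stalk x)}

theorem subset_freeLocus (E : DCoh.D X) (W : X.Opens)
    (hW : ∀ i : ℤ, FlatMod.IsFinLocFree ((DCoh.HD E i).restrict W.ι)) :
    (W : Set X) ⊆ freeLocus E := by
  intro x hx i
  exact free_finite_stalk_of_restrict _ W (hW i) x hx

theorem exists_nhd_of_mem_freeLocus (E : DCoh.D X) (hE : DCoh.IsPerfect E) (x : X)
    (hx : x ∈ freeLocus E) : ∃ W : X.Opens, x ∈ W ∧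
      ∀ i : ℤ, FlatMod.IsFinLocFree ((DCoh.HD E i).restrict W.ι) := by
  refine exists_flf_HD E hE x (fun i => ?_)
  haveI := (hx i).1
  exact (inferInstance : Module.Flat (X.presheaf.stalk x) ((DCoh.HD E i).presheaf.stalk x))

theorem isOpen_freeLocus (E : DCoh.D X) (hE : DCoh.IsPerfect E) : IsOpen (freeLocus E) := by
  rw [isOpen_iff_forall_mem_open]
  intro x hx
  obtain ⟨W, hxW, hW⟩ := exists_nhd_of_mem_freeLocus E hE x hx
  exact ⟨W, subset_freeLocus E W hW, W.2, hxW⟩

/-- the free locus as an open -/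
def freeLocusOpen (E : DCoh.D X) (hE : DCoh.IsPerfect E) : X.Opens :=
  ⟨freeLocus E, isOpen_freeLocus E hE⟩

theorem flf_freeLocus (E : DCoh.D X) (hE : DCoh.IsPerfect E) (i : ℤ) :
    FlatMod.IsFinLocFree ((DCoh.HD E i).restrict (freeLocusOpen E hE).ι) := by
  apply flf_of_cover
  intro x hx
  obtain ⟨W, hxW, hW⟩ := exists_nhd_of_mem_freeLocus E hE x hx
  exact ⟨W, subset_freeLocus E W hW, hxW, hW i⟩

/-- **the locus where all cohomology sheaves of a perfect complex have finite free stalks** -/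
theorem locus (E : DCoh.D X) (hE : DCoh.IsPerfect E) :
    ∃ U : X.Opens,
      (U : Set X) = {x : X | ∀ i : ℤ,
        Module.Free (X.presheaf.stalk x) ((DCoh.HD E i).presheaf.stalk x) ∧
        Module.Finite (X.presheaf.stalk x) ((DCoh.HD E i).presheaf.stalk x)} ∧
      (∀ i : ℤ, FlatMod.IsFinLocFree ((DCoh.HD E i).restrict U.ι)) ∧
      ∀ W : X.Opens, (∀ i : ℤ, FlatMod.IsFinLocFree ((DCoh.HD E i).restrict W.ι)) → W ≤ U :=
  ⟨freeLocusOpen E hE, rfl, flf_freeLocus E hE,
    fun W hW => subset_freeLocus E W hW⟩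

end Groth.Agent.Lib.Helper5.Locus
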